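import Cfsg.Agent.U33Rec.Seven
import Cfsg.Agent.G2Two.Root
import Cfsg.Agent.G2Two.Unitary
import Cfsg.Agent.SameSpectrum.Simple
import Cfsg.Agent.U33.Lines

/-!
The permutation group of `G₂(2)` on 63 points: order, elements of order seven and nine.
-/

set_option autoImplicit false
set_option linter.unusedSectionVars false
set_option maxRecDepth 100000

namespace Cfsg.Agent.U33Rec

open Subgroup Cfsg.Agent

universe u

/-- Without elements of order 14 and 21 the elements of order seven are self centralising. -/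
theorem card_centralizer_of_orders {G : Type u} [Group G] [Finite G]
    (hG : Nat.card G ∣ 12096) (h14 : ∀ x : G, orderOf x ≠ 14) (h21 : ∀ x : G, orderOf x ≠ 21)
    {z : G} (hz : orderOf z = 7) : Nat.card (centralizer ({z} : Set G)) = 7 := by
  set C := centralizer ({z} : Set G) with hC
  have h7 : 7 ∣ Nat.card C := hz ▸ Subgroup.orderOf_dvd_natCard C
    (mem_centralizer_singleton_iff.2 rfl : z ∈ C)
  have hd : Nat.card C ∣ 12096 := (card_subgroup_dvd_card C).trans hG
  have hp : ∀ p, p = 2 ∨ p = 3 → ¬ p ∣ Nat.card C := by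
    intro p hp hdvd
    have hpp : p.Prime := by rcases hp with rfl | rfl <;> norm_num
    have : Fact p.Prime := ⟨hpp⟩
    obtain ⟨y, hy⟩ := exists_prime_orderOf_dvd_card' (G := C) p hdvd
    have hy' : orderOf (y : G) = p := by rw [Subgroup.orderOf_coe, hy]
    have hcomm : Commute (y : G) z := mem_centralizer_singleton_iff.1 y.2
    have h := hcomm.orderOf_mul_eq_mul_orderOf_of_coprime
      (by rw [hy', hz]; rcases hp with rfl | rfl <;> norm_num)
    rw [hy', hz] at h
    rcases hp with rfl | rfl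
    · exact h14 _ h
    · exact h21 _ h
  obtain ⟨c, hc⟩ := h7
  have hc1 : c ∣ 1728 := Nat.dvd_of_mul_dvd_mul_left (show 0 < 7 by norm_num) (hc ▸ hd)
  have : c = 1 := by
    by_contra h1
    obtain ⟨p, hpp, hpd⟩ := Nat.exists_prime_and_dvd h1
    have h2 : p ∣ 2 ^ 6 * 3 ^ 3 := hpd.trans hc1
    refine hp p ?_ (hc ▸ hpd.mul_left 7)
    rcases hpp.dvd_mul.1 h2 with e | e
    · exact Or.inl ((Nat.prime_dvd_prime_iff_eq hpp Nat.prime_two).1 (hpp.dvd_of_dvd_pow e))
    · exact Or.inr ((Nat.prime_dvd_prime_iff_eq hpp Nat.prime_three).1 (hpp.dvd_of_dvd_pow e))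
  rw [hc, this]

open G2Two in
/-- A word in the root elements. -/
noncomputable def rword (w : List ℕ) : ℕ := w.foldr (fun r c => rep63.mul (rperm r) c) rep63.one

open G2Two in
theorem rword_spec : ∀ w : List ℕ, (∀ r ∈ w, r < 12) →
    rep63.Ok (rword w) ∧ rep63.den (rword w) ∈ rootGroup := by
  intro w
  induction w with
  | nil => intro _; exact ⟨rep63.ok_one, by rw [show rword [] = rep63.one from rfl, rep63.den_one]; exact one_mem _⟩
  | cons r w ih =>
    intro h
    obtain ⟨h1, h2⟩ := ih fun x hx => h x (by simp [hx])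
    have hr := h r (by simp)
    have h3 := (root_spec ⟨r, hr⟩).1
    have e : rword (r :: w) = rep63.mul (rperm r) (rword w) := rfl
    rw [e]
    exact ⟨rep63.ok_mul _ _ h3 h1, by
      rw [rep63.den_mul _ _ h3 h1]; exact mul_mem (den_mem_root ⟨r, hr⟩) h2⟩

open G2Two in
theorem witness_check :
    rword ([9, 4, 0, 9, 4, 0, 9, 4, 0, 9, 4, 0, 9, 4, 0, 9, 4, 0, 9, 4, 0]) = rep63.one ∧
    (∃ i : Fin 63, img (rword [9, 4, 0]) i ≠ i) ∧
    rep63.mul (rword [5, 4, 9, 4]) (rword [9, 4, 0]) =
      rep63.mul (rep63.mul (rword [9, 4, 0]) (rep63.mul (rword [9, 4, 0]) (rword [9, 4, 0])))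
        (rword [5, 4, 9, 4]) := by
  decide +kernel

open G2Two in
theorem rword_append : ∀ v w : List ℕ, (∀ r ∈ v, r < 12) → (∀ r ∈ w, r < 12) →
    rep63.den (rword (v ++ w)) = rep63.den (rword v) * rep63.den (rword w) := by
  intro v
  induction v with
  | nil => intro w _ _; rw [show rword [] = rep63.one from rfl, rep63.den_one, one_mul, List.nil_append]
  | cons r v ih =>
    intro w hv hw
    have hv' : ∀ x ∈ v, x < 12 := fun x hx => hv x (by simp [hx])
    have h3 := (root_spec ⟨r, hv r (by simp)⟩).1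
    have h1 := (rword_spec v hv').1
    have h2 := (rword_spec (v ++ w) fun x hx => (List.mem_append.1 hx).elim (hv' x) (hw x)).1
    rw [show rword (r :: v ++ w) = rep63.mul (rperm r) (rword (v ++ w)) from rfl,
      show rword (r :: v) = rep63.mul (rperm r) (rword v) from rfl,
      rep63.den_mul _ _ h3 h2, rep63.den_mul _ _ h3 h1, ih w hv' hw, mul_assoc]

/-- `G₂(2)` on 63 points. -/
abbrev W : Type := ↥G2Two.rootGroup

/-- Its subgroup of index two. -/
noncomputable abbrev D : Subgroup W := G2Two.derGroup.subgroupOf G2Two.rootGroup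

theorem derGroup_le : G2Two.derGroup ≤ G2Two.rootGroup := by
  rw [← G2Two.comm_root_eq]
  exact commutator_le.2 fun a ha b hb => by
    rw [commutatorElement_def]
    exact mul_mem (mul_mem (mul_mem ha hb) (inv_mem ha)) (inv_mem hb)

theorem D_normal : D.Normal :=
  ⟨fun n hn g => (G2Two.root_normalizes g.2 hn).1⟩

theorem card_derGroup : Nat.card ↥G2Two.derGroup = 6048 := by
  rw [Compute.Rep.card_chainGroup _ G2Two.der_check.1, G2Two.der_check.2]

theorem range_suAct : G2Two.suAct.range = G2Two.derGroup := by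
  refine (Subgroup.eq_of_le_of_card_ge G2Two.der_le_range ?_).symm
  rw [← Nat.card_congr (MonoidHom.ofInjective G2Two.suAct_injective).toEquiv, U33.card_SU,
    card_derGroup]

theorem orderOf_mem_D {x : W} (hx : x ∈ D) :
    orderOf x ∣ 7 ∨ orderOf x ∣ 8 ∨ orderOf x ∣ 12 := by
  have h1 : (x : Equiv.Perm (Fin 63)) ∈ G2Two.suAct.range := by rw [range_suAct]; exact hx
  obtain ⟨g, hg⟩ := h1
  have h2 : orderOf x = orderOf g := by
    rw [← Subgroup.orderOf_coe, ← hg, orderOf_injective _ G2Two.suAct_injective]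
  have h3 : orderOf g ∈ {m : ℕ | m ∣ 7 ∨ m ∣ 8 ∨ m ∣ 12} := by
    rw [← SameSpectrum.su_spectrum]; exact ⟨g, rfl⟩
  rw [h2]; exact h3

theorem card_D : Nat.card D = 6048 := by
  rw [Nat.card_congr (subgroupOfEquivOfLe derGroup_le).toEquiv, card_derGroup]

section

variable (hW : Nat.card W = 12096)
include hW

theorem index_D : D.index = 2 := by
  have := D.card_mul_index
  rw [card_D, hW] at this
  omega

theorem orderOf_ne_nine (x : W) : orderOf x ≠ 9 := by
  intro h
  have hn := D_normal
  have hx : x ^ 2 ∈ D := sq_mem_of_index_two (index_D hW) x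
  have h2 : orderOf (x ^ 2) = 9 := by rw [orderOf_pow, h]; rfl
  rcases orderOf_mem_D hx with e | e | e <;> rw [h2] at e <;> norm_num at e

theorem card_centralizer_W {x : W} (hx : orderOf x = 7) :
    Nat.card (centralizer ({x} : Set W)) = 7 := by
  classical
  have hn := D_normal
  have : Fact (Nat.Prime 7) := ⟨by norm_num⟩
  have lz : ∀ r ∈ [9, 4, 0], r < 12 := by decide
  have lg : ∀ r ∈ [5, 4, 9, 4], r < 12 := by decide
  set z : W := ⟨_, (rword_spec _ lz).2⟩ with hz
  set g : W := ⟨_, (rword_spec _ lg).2⟩ with hg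
  obtain ⟨w1, ⟨i, wi⟩, w3⟩ := witness_check
  have hz1 : z ≠ 1 := fun e => wi (by
    rw [← G2Two.den_apply (rword_spec _ lz).1]
    have := congrArg (fun w : W => (w : Equiv.Perm (Fin 63)) i) e
    exact this)
  have hz7 : z ^ 7 = 1 := by
    refine Subtype.ext ?_
    rw [SubgroupClass.coe_pow, OneMemClass.coe_one, ← G2Two.rep63.den_one, ← w1]
    rw [show ([9, 4, 0, 9, 4, 0, 9, 4, 0, 9, 4, 0, 9, 4, 0, 9, 4, 0, 9, 4, 0] : List ℕ) =
      [9, 4, 0] ++ ([9, 4, 0] ++ ([9, 4, 0] ++ ([9, 4, 0] ++ ([9, 4, 0] ++ ([9, 4, 0] ++ [9, 4, 0])))))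
      from rfl]
    iterate 6 rw [rword_append _ _ lz (by decide)]
    simp only [hz, pow_succ, pow_zero, one_mul, mul_assoc]
  have hzo : orderOf z = 7 := orderOf_eq_prime hz7 hz1
  have hconj : g * z * g⁻¹ = z ^ 3 := by
    rw [mul_inv_eq_iff_eq_mul]
    refine Subtype.ext ?_
    have hz0 := (rword_spec _ lz).1
    have hg0 := (rword_spec _ lg).1
    have h2 := G2Two.rep63.ok_mul _ _ hz0 hz0
    have h3 := G2Two.rep63.ok_mul _ _ hz0 h2
    have := congrArg G2Two.rep63.den w3
    rw [G2Two.rep63.den_mul _ _ hg0 hz0, G2Two.rep63.den_mul _ _ h3 hg0,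
      G2Two.rep63.den_mul _ _ hz0 h2, G2Two.rep63.den_mul _ _ hz0 hz0] at this
    simp only [hz, hg, Subgroup.coe_mul, SubgroupClass.coe_pow, pow_succ, pow_zero, one_mul,
      mul_assoc] at this ⊢
    exact this
  -- the normaliser in the subgroup of index two
  have hzD : z ∈ D := by
    have h1 : z ^ 2 ∈ D := sq_mem_of_index_two (index_D hW) z
    have h2 : z = (z ^ 2) ^ 4 := by rw [← pow_mul, pow_succ, hz7, one_mul]
    rw [h2]; exact pow_mem h1 4
  set zD : D := ⟨z, hzD⟩ with hzDdef
  have hzDo : orderOf zD = 7 := by rw [← Subgroup.orderOf_coe, hzo]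
  have hDC : Nat.card (centralizer ({zD} : Set D)) = 7 := by
    refine card_centralizer_of_orders (by rw [card_D]; norm_num) ?_ ?_ hzDo <;>
    · intro y hy
      rw [← Subgroup.orderOf_coe] at hy
      rcases orderOf_mem_D y.2 with e | e | e <;> rw [hy] at e <;> norm_num at e
  have hND : Nat.card (normalizer ((zpowers zD : Subgroup D) : Set D)) = 21 := by
    obtain ⟨hd, h7⟩ := card_normalizer_seven hzDo hDC
    have h1 := index_normalizer_seven hzDo (by rw [card_D]; norm_num)
    rw [card_D] at h1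
    have : ∀ d < 43, d ∣ 42 → 7 ∣ d → 6048 / d % 7 = 1 → d = 21 := by decide +kernel
    exact this _ (Nat.lt_succ_of_le (Nat.le_of_dvd (by norm_num) hd)) hd h7 h1
  set N : Subgroup W := normalizer ((zpowers z : Subgroup W) : Set W) with hN
  have hNle : Nat.card N ≤ 42 := by
    have h1 : Nat.card ↥(D.subgroupOf N) ≤ 21 := by
      rw [← hND]
      refine Nat.card_le_card_of_injective (fun a => ⟨⟨(a.1 : W), a.2⟩, ?_⟩) fun a b e => ?_
      · refine mem_normalizer_iff.2 fun t => ?_
        have h := mem_normalizer_iff.1 a.1.2 (t : W)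
        have e : ∀ s : D, s ∈ zpowers zD ↔ (s : W) ∈ zpowers z := fun s => by
          simp only [mem_zpowers_iff]
          exact exists_congr fun k => by
            rw [Subtype.ext_iff, SubgroupClass.coe_zpow]
        rw [e, e]
        simpa only [Subgroup.coe_mul, InvMemClass.coe_inv] using h
      · exact Subtype.ext (Subtype.ext (congrArg (fun p => ((p.1 : D) : W)) e))
    have h2 := (D.subgroupOf N).card_mul_index
    have h3 : (D.subgroupOf N).index ∣ 2 := index_D hW ▸ relIndex_dvd_index_of_normal D N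
    have := Nat.le_of_dvd (by norm_num) h3
    calc Nat.card N = _ := h2.symm
      _ ≤ 21 * 2 := Nat.mul_le_mul h1 this
  set f := (zpowers z).normalizerMonoidHom with hf
  have hgN : g ∈ N := by
    refine mem_normalizer_iff.2 fun t => ⟨fun ht => ?_, fun ht => ?_⟩
    · obtain ⟨k, rfl⟩ := mem_zpowers_iff.1 ht
      rw [← conj_zpow, hconj]
      exact zpow_mem (pow_mem (mem_zpowers z) 3) k
    · obtain ⟨k, hk⟩ := mem_zpowers_iff.1 ht
      have h5 : g⁻¹ * z * g = z ^ 5 := by
        have h : g * z ^ 5 * g⁻¹ = z := by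
          rw [← conj_pow, hconj, ← pow_mul, show 3 * 5 = 7 * 2 + 1 by norm_num, pow_succ, pow_mul,
            hz7, one_pow, one_mul]
        nth_rw 1 [← h]
        group
      rw [show t = g⁻¹ * z ^ k * g⁻¹⁻¹ by rw [hk]; group, ← conj_zpow, inv_inv, h5]
      exact zpow_mem (pow_mem (mem_zpowers z) 5) k
  have hrange : 6 ≤ Nat.card f.range := by
    have hstep : ∀ n : ℕ, ((f ⟨g, hgN⟩ ^ n) ⟨z, mem_zpowers z⟩ : W) = z ^ 3 ^ n := by
      intro n
      induction n with
      | zero => rw [pow_zero, pow_zero, pow_one]; rfl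
      | succ n ih =>
        rw [pow_succ', MulAut.mul_apply]
        show g * ((f ⟨g, hgN⟩ ^ n) ⟨z, mem_zpowers z⟩ : W) * g⁻¹ = _
        rw [ih, ← conj_pow, hconj, ← pow_mul, pow_succ']
    have hne : ∀ n, 0 < n → n < 6 → f ⟨g, hgN⟩ ^ n ≠ 1 := by
      intro n h1 h6 e
      have h := hstep n
      rw [e] at h
      have h2 : z ^ 1 = z ^ 3 ^ n := (pow_one z).trans h
      rw [pow_eq_pow_iff_modEq, hzo] at h2
      interval_cases n <;> revert h2 <;> decide
    have ho : orderOf (f ⟨g, hgN⟩) ∣ 6 := by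
      have h := orderOf_dvd_natCard (f ⟨g, hgN⟩)
      rwa [IsCyclic.card_mulAut, Nat.card_zpowers, hzo, Nat.totient_prime (by norm_num)] at h
    have ho6 : orderOf (f ⟨g, hgN⟩) = 6 := by
      have hp := orderOf_pos (f ⟨g, hgN⟩)
      have hle := Nat.le_of_dvd (by norm_num) ho
      by_contra h
      exact hne _ hp (by omega) (pow_orderOf_eq_one _)
    exact Nat.le_of_dvd Nat.card_pos
      (ho6 ▸ Subgroup.orderOf_dvd_natCard f.range ⟨_, rfl⟩)
  have hC : Nat.card (centralizer ({z} : Set W)) = 7 := by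
    have h1 := f.ker.card_mul_index
    have hsub : zpowers z ≤ centralizer ({z} : Set W) :=
      zpowers_le.2 (mem_centralizer_singleton_iff.2 rfl)
    have h7 := card_le_of_le hsub
    rw [Nat.card_zpowers, hzo] at h7
    have hker : Nat.card (centralizer ({z} : Set W)) ≤ Nat.card f.ker := by
      refine Nat.card_le_card_of_injective (fun c => ⟨⟨c.1, ?_⟩, ?_⟩) fun a b e => ?_
      · refine mem_normalizer_iff.2 fun t => ?_
        have hcz : ∀ s ∈ zpowers z, (c : W) * s = s * c := fun s hs => by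
          obtain ⟨k, rfl⟩ := mem_zpowers_iff.1 hs
          exact ((show Commute (c : W) z from mem_centralizer_singleton_iff.1 c.2).zpow_right k).eq
        constructor
        · intro ht; rw [hcz t ht, mul_inv_cancel_right]; exact ht
        · intro ht
          have h := hcz _ ht
          have : (c : W) * t * (c : W)⁻¹ = t := by
            apply mul_left_cancel (a := (c : W))
            rw [h]; group
          rwa [this] at ht
      · rw [hf, normalizerMonoidHom_ker, mem_subgroupOf]
        refine mem_centralizer_iff.2 fun t ht => ?_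
        obtain ⟨k, rfl⟩ := mem_zpowers_iff.1 ht
        exact (((show Commute (c : W) z from mem_centralizer_singleton_iff.1 c.2).zpow_right k).eq).symm
      · exact Subtype.ext (congrArg (fun p => ((p.1 : N) : W)) e)
    rw [index_ker] at h1
    have hm : Nat.card (centralizer ({z} : Set W)) * 6 ≤ 42 :=
      ((Nat.mul_le_mul hker hrange).trans (le_of_eq h1)).trans hNle
    omega
  -- every other element of order seven
  have h49 : ¬ 7 * 7 ∣ Nat.card W := by rw [hW]; norm_num
  have hfac : (Nat.card W).factorization 7 = 1 := by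
    rw [hW, show (12096 : ℕ) = 7 * 1728 by norm_num, Nat.factorization_mul (by norm_num)
      (by norm_num), Finsupp.add_apply, Nat.Prime.factorization_self (by norm_num),
      Nat.factorization_eq_zero_of_not_dvd (by norm_num)]
  let P : Sylow 7 W := Sylow.ofCard (zpowers x) (by rw [hfac, Nat.card_zpowers, hx, pow_one])
  let Q : Sylow 7 W := Sylow.ofCard (zpowers z) (by rw [hfac, Nat.card_zpowers, hzo, pow_one])
  obtain ⟨a, ha⟩ := MulAction.exists_smul_eq W Q P
  have hmem : x ∈ ((a • Q : Sylow 7 W) : Subgroup W) := by rw [ha]; exact mem_zpowers x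
  rw [Sylow.smul_def, Sylow.pointwise_smul_def] at hmem
  obtain ⟨q, hq, rfl⟩ := hmem
  have hqo : orderOf q = 7 := by
    rw [← hx]; exact (MulEquiv.orderOf_eq (MulAut.conj a) q).symm
  have hzq : z ∈ zpowers q := by
    rw [eq_of_le_of_card_ge (zpowers_le.2 hq : zpowers q ≤ zpowers z)
      (by rw [Nat.card_zpowers, Nat.card_zpowers, hqo, hzo])]
    exact mem_zpowers z
  refine le_antisymm ?_ ?_
  · rw [← hC]
    refine Nat.card_le_card_of_injective (fun c => ⟨a⁻¹ * c * a, ?_⟩) fun b c e => ?_
    · have h1 : (c : W) * (a * q * a⁻¹) = a * q * a⁻¹ * c := mem_centralizer_singleton_iff.1 c.2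
      have h2 : Commute (a⁻¹ * c * a) q := by
        show a⁻¹ * c * a * q = q * (a⁻¹ * c * a)
        calc a⁻¹ * c * a * q = a⁻¹ * (c * (a * q * a⁻¹)) * a := by group
          _ = q * (a⁻¹ * c * a) := by rw [h1]; group
      obtain ⟨k, hk⟩ := mem_zpowers_iff.1 hzq
      exact mem_centralizer_singleton_iff.2 (hk ▸ (h2.zpow_right k).eq)
    · exact Subtype.ext (mul_left_cancel (mul_right_cancel (congrArg Subtype.val e)))
  · have h := card_le_of_le (zpowers_le.2 (mem_centralizer_singleton_iff.2 rfl) :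
      zpowers (MulAut.conj a q) ≤ centralizer ({MulAut.conj a q} : Set W))
    rwa [Nat.card_zpowers, MulEquiv.orderOf_eq, hqo] at h

end

end Cfsg.Agent.U33Rec
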