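import Mathlib.Algebra.BigOperators.Group.Finset.Basic
import Mathlib.Algebra.BigOperators.Ring.Finset
import Mathlib.Data.List.Dedup
import Mathlib.Tactic.Ring

/-!
The numerical part of the exclusion of a simple group of order 12096: signed degrees and signed
values at an involution of the principal block at seven.
-/

set_option autoImplicit false

namespace Cfsg.Agent.U33Rec

/-- The possible values at an involution of a character of degree `d`. -/
def valList (d : ℕ) : List ℤ :=
  (((List.range (2 * d - 1)).map fun (i : ℕ) => (i : ℤ) - ((d : ℤ) - 1))).filter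
    fun x => decide (((d : ℤ) - x) % 4 = 0)

/-- The same with the bound fourteen. -/
def smallList (d : ℕ) : List ℤ :=
  (valList d).filter fun x => decide (x.natAbs ≤ 14)

/-- The contribution of one character with signed degree `v`. -/
def tri (v : ℤ) : List (ℤ × ℤ × ℤ) :=
  (smallList v.natAbs).map fun x =>
    if 0 < v then (x, x * x * ((1728 / v.natAbs : ℕ) : ℤ), x * x)
    else (-x, -(x * x * ((1728 / v.natAbs : ℕ) : ℤ)), x * x)

/-- The sums of `k` contributions of the same signed degree. -/
def triSums (ps : List (ℤ × ℤ × ℤ)) : ℕ → List (ℤ × ℤ × ℤ)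
  | 0 => [(0, 0, 0)]
  | k + 1 => ((triSums ps k).flatMap fun s => ps.map fun t => t + s).eraseDups

/-- The sums for prescribed numbers of each signed degree. -/
def states : List (ℤ × ℕ) → List (ℤ × ℤ × ℤ)
  | [] => [(0, 0, 0)]
  | q :: L => (states L).flatMap fun s => (triSums (tri q.1) q.2).map fun t => t + s

theorem mem_triSums {ι : Type*} (ps : List (ℤ × ℤ × ℤ)) (S : Finset ι) (f : ι → ℤ × ℤ × ℤ)
    (h : ∀ i ∈ S, f i ∈ ps) : ∑ i ∈ S, f i ∈ triSums ps S.card := by
  classical
  induction S using Finset.induction with
  | empty =>
    rw [Finset.sum_empty, Finset.card_empty]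
    exact List.mem_singleton.2 rfl
  | insert a S ha ih =>
    rw [Finset.sum_insert ha, Finset.card_insert_of_notMem ha, triSums, List.mem_eraseDups,
      List.mem_flatMap]
    refine ⟨_, ih fun i hi => h i (Finset.mem_insert_of_mem hi), ?_⟩
    rw [List.mem_map]
    exact ⟨_, h a (Finset.mem_insert_self a S), rfl⟩

theorem mem_states {ι : Type*} [DecidableEq ι] (L : List ℤ) (hL : L.Nodup) (S : Finset ι)
    (D : ι → ℤ) (f : ι → ℤ × ℤ × ℤ) (hD : ∀ i ∈ S, D i ∈ L) (hf : ∀ i ∈ S, f i ∈ tri (D i)) :
    ∑ i ∈ S, f i ∈ states (L.map fun v => (v, (S.filter fun i => D i = v).card)) := by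
  induction L generalizing S with
  | nil =>
    have : S = ∅ := Finset.eq_empty_of_forall_notMem fun i hi => by simpa using hD i hi
    subst this
    rw [Finset.sum_empty]
    exact List.mem_singleton.2 rfl
  | cons v L ih =>
    obtain ⟨hv, hL'⟩ := List.nodup_cons.1 hL
    have hfil : ∀ u ∈ L, (S.filter (fun i => D i ≠ v)).filter (fun i => D i = u) =
        S.filter fun i => D i = u := fun u hu => by
      rw [Finset.filter_filter]
      refine Finset.filter_congr fun i _ => ?_
      exact ⟨fun h => h.2, fun h => ⟨fun e => hv (by rw [← e, h]; exact hu), h⟩⟩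
    have h2 := ih hL' (S.filter fun i => D i ≠ v)
      (fun i hi => by
        obtain ⟨hi, hne⟩ := Finset.mem_filter.1 hi
        exact (List.mem_cons.1 (hD i hi)).resolve_left hne)
      (fun i hi => hf i (Finset.mem_filter.1 hi).1)
    rw [List.map_congr_left (g := fun u => (u, (S.filter fun i => D i = u).card))
      fun u hu => by rw [hfil u hu]] at h2
    rw [List.map_cons, states, List.mem_flatMap]
    refine ⟨_, h2, List.mem_map.2 ⟨_, mem_triSums (tri v) _ f
      (fun i hi => (Finset.mem_filter.1 hi).2 ▸ hf i (Finset.mem_filter.1 hi).1), ?_⟩⟩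
    exact Finset.sum_filter_add_sum_filter_not S (fun i => D i = v) f

/-- The test which a state must pass: the linear relation, and `C = 6 k` with
`C ^ 2 = 1728 S` and `C` at least the sum of squares in the column. -/
def good (q : ℤ × ℤ × ℤ) : Bool :=
  (1 + q.1 == 0) && (List.range 38).any fun (k : ℕ) =>
    decide ((6 * (k : ℤ)) * (6 * k) = 1728 + q.2.1 ∧ 1 + q.2.2 ≤ 6 * k)

/-- The numbers of characters of signed degrees `8, 36, 64, -6, -27, -48`. -/
def countsOK (a b c d e f : ℕ) : Bool :=
  decide (a + b + c + d + e + f = 6 ∧
    1 + 8 * a + 36 * b + 64 * c = 6 * d + 27 * e + 48 * f ∧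
    1 + 64 * a + 1296 * b + 4096 * c + 36 * d + 729 * e + 2304 * f ≤ 12096)

theorem counts_check :
    ((List.range 7).all fun a => (List.range (7 - a)).all fun b => (List.range (7 - a - b)).all fun c =>
      (List.range (7 - a - b - c)).all fun d => (List.range (7 - a - b - c - d)).all fun e =>
        !countsOK a b c d e (6 - a - b - c - d - e) ||
          ((a == 1 && b == 2 && c == 0 && d == 0 && e == 3) ||
            !(states [(8, a), (36, b), (64, c), (-6, d), (-27, e),
              (-48, 6 - a - b - c - d - e)]).any good)) = true := by
  decide +kernel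

/-- The values at an involution in the surviving case. -/
theorem first_check :
    ((smallList 8).all fun u => (smallList 36).all fun p => (smallList 36).all fun q =>
      (smallList 27).all fun l => (smallList 27).all fun m => (smallList 27).all fun n =>
        !(1 + u + p + q - l - m - n == 0) ||
          (!good (u + p + q - l - m - n,
              216 * u * u + 48 * (p * p + q * q) - 64 * (l * l + m * m + n * n),
              u * u + p * p + q * q + l * l + m * m + n * n) ||
            (u == 0 && ((p == -4 && q == 0) || (p == 0 && q == -4)) && l == -1 && m == -1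
              && n == -1 &&
              1728 + 216 * u * u + 48 * (p * p + q * q) - 64 * (l * l + m * m + n * n) == 2304)))
      = true := by
  decide +kernel

/-- There are no values at a second class of involutions. -/
theorem second_check :
    ((valList 8).all fun u => (valList 36).all fun p => (valList 27).all fun l =>
      (valList 27).all fun m =>
        !((valList 27).elem (3 * p - 27 - l - m)) ||
          (!((valList 36).elem (-(1 + u + p - l - m - (3 * p - 27 - l - m)))) ||
            !(216 + 27 * u * u +
              6 * (p * p + (-(1 + u + p - l - m - (3 * p - 27 - l - m))) *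
                (-(1 + u + p - l - m - (3 * p - 27 - l - m)))) -
              8 * (l * l + m * m + (3 * p - 27 - l - m) * (3 * p - 27 - l - m)) == 0))) = true := by
  decide +kernel

end Cfsg.Agent.U33Rec
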