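import Cfsg.Agent.U33Rec.Inverting
import Cfsg.Agent.U33Rec.ExcludeData
import Cfsg.Agent.SmallOrder.Parity

/-!
No simple group of order 12096 has self centralising elements of order seven.
-/

set_option autoImplicit false
set_option linter.unusedSectionVars false
set_option maxRecDepth 4000
set_option synthInstance.maxSize 5000

namespace Cfsg.Agent.U33Rec

open Subgroup Cfsg.Agent.Blocks
open scoped ComplexConjugate

universe u

theorem sdeg_check : ∀ d < 110, 2 ≤ d → d ∣ 1728 →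
    (d % 7 = 1 → d = 8 ∨ d = 36 ∨ d = 64) ∧ (d % 7 = 6 → d = 6 ∨ d = 27 ∨ d = 48) := by
  decide +kernel

theorem mem_valList {d : ℕ} {x : ℤ} (hx : x.natAbs < d) (h4 : (4 : ℤ) ∣ (d : ℤ) - x) :
    x ∈ valList d := by
  rw [valList, List.mem_filter, decide_eq_true_eq, List.mem_map]
  exact ⟨⟨(x + ((d : ℤ) - 1)).toNat, List.mem_range.2 (by omega), by omega⟩,
    Int.emod_eq_zero_of_dvd h4⟩

theorem mem_smallList {d : ℕ} {x : ℤ} (h : x ∈ valList d) (h14 : x.natAbs ≤ 14) :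
    x ∈ smallList d := by
  rw [smallList, List.mem_filter, decide_eq_true_eq]
  exact ⟨h, h14⟩

/-- The coefficient `1728 / d` times a sign, at most 216. -/
theorem coeff_le (v : ℤ)
    (hv : v = 8 ∨ v = 36 ∨ v = 64 ∨ v = -6 ∨ v = -27 ∨ v = -48) (x : ℤ) :
    (if 0 < v then x * x * ((1728 / v.natAbs : ℕ) : ℤ) else -(x * x * ((1728 / v.natAbs : ℕ) : ℤ)))
      ≤ 216 * (x * x) := by
  have := mul_self_nonneg x
  rcases hv with rfl | rfl | rfl | rfl | rfl | rfl <;> norm_num <;> linarith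

variable {G : Type u} [Group G] [Fintype G] [IsSimpleGroup G]

set_option maxHeartbeats 2000000 in
/-- No simple group of order 12096 has self centralising elements of order seven. -/
theorem not_card_12096 (hna : ¬ IsMulCommutative G)
    (hC : ∀ x : G, orderOf x = 7 → Nat.card (centralizer ({x} : Set G)) = 7) :
    Nat.card G ≠ 12096 := by
  classical
  intro h
  obtain ⟨S⟩ := exists_seven hna (m := 1728) (e₀ := 6) (by rw [h]) (by norm_num) hC
    (by rintro e (rfl | rfl | rfl | rfl) <;> norm_num)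
  have hz := S.hz
  have hzC := S.hzC
  -- the signs
  obtain ⟨θ₀, hθ₀⟩ := Finset.card_eq_one.1 (show S.Y.card = 1 by rw [S.hYc])
  set B := S.X ∪ S.Y with hB
  obtain ⟨ε, hε⟩ : ∃ ε : IrrCharacter G → ℤ, ∀ χ, ε χ = if χ ∈ S.X then S.a χ else S.s :=
    ⟨_, fun _ => rfl⟩
  have hYX : θ₀ ∉ S.X := fun hx => Finset.disjoint_left.1 S.hdisj hx (by simp [hθ₀])
  have hεX : ∀ χ ∈ S.X, ε χ = S.a χ := fun χ hχ => by rw [hε, if_pos hχ]
  have hεY : ε θ₀ = S.s := by rw [hε, if_neg hYX]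
  have hrelB : ∀ g : G, ¬ 7 ∣ orderOf g →
      ∑ χ ∈ B, (ε χ : ℂ) * (χ : G → ℂ) g = 0 := by
    intro g hg
    have h1 := S.hrel θ₀ (by simp [hθ₀]) g hg
    rw [hB, Finset.sum_union S.hdisj, hθ₀, Finset.sum_singleton, hεY,
      Finset.sum_congr rfl (g := fun χ => (S.a χ : ℂ) * (χ : G → ℂ) g)
        fun χ hχ => by rw [hεX χ hχ]]
    linear_combination h1
  have hzval : ∀ χ ∈ B, (χ : G → ℂ) S.z = (ε χ : ℂ) := by
    intro χ hχ
    rcases Finset.mem_union.1 hχ with hx | hy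
    · rw [S.hXz χ hx, hεX χ hx]
    · rw [hθ₀, Finset.mem_singleton] at hy
      subst hy
      have h1 := S.orth_one
      rw [hθ₀, Finset.sum_singleton, Finset.sum_congr rfl
        (g := fun χ => (S.a χ : ℂ) * (charDegree (χ : G → ℂ) : ℂ))
        fun χ hχ => by rw [S.hXz χ hχ]] at h1
      have h2 := S.hrel χ (by simp [hθ₀]) 1 (by simp)
      simp only [charDegree_one] at h2
      have hd : (charDegree (χ : G → ℂ) : ℂ) ≠ 0 := by
        rw [← charDegree_one]; exact Char.IsIrr.one_ne_zero χ.2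
      rw [hεY]
      exact mul_right_cancel₀ hd (by linear_combination h1 - h2)
  have hsum : ∀ f : IrrCharacter G → ℂ, (∀ χ : IrrCharacter G, (χ : G → ℂ) S.z = 0 → f χ = 0) →
      ∑ χ, f χ = ∑ χ ∈ B, f χ := fun f hf => by
    rw [S.sum_eq f hf, hB, Finset.sum_union S.hdisj]
  have hεpm : ∀ χ, χ ∈ B → ε χ = 1 ∨ ε χ = -1 := by
    intro χ hχ
    rw [hε]
    split_ifs with hx
    · exact S.ha χ hx
    · exact S.hs
  have hdeg7 : ∀ χ ∈ B, (charDegree (χ : G → ℂ) : ℤ) % 7 = ε χ % 7 := by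
    intro χ hχ
    rcases Finset.mem_union.1 hχ with hx | hy
    · rw [hεX χ hx]; exact S.hXd χ hx
    · have h1 := S.hYd χ hy
      rw [hθ₀, Finset.mem_singleton] at hy
      subst hy
      rw [hεY]
      rcases S.hs with e | e <;> rw [e] at h1 ⊢ <;> omega
  have htB : triv G ∈ B := Finset.mem_union.2 S.htriv
  have hεt : ε (triv G) = 1 := by
    have h1 := hzval _ htB
    rw [triv_apply] at h1
    exact_mod_cast h1.symm
  set B' := B.erase (triv G) with hB'
  have hB'c : B'.card = 6 := by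
    rw [hB', Finset.card_erase_of_mem htB, hB, Finset.card_union_of_disjoint S.hdisj, S.hXc,
      S.hYc]
  have hsplit : ∀ f : IrrCharacter G → ℂ, ∑ χ ∈ B, f χ = f (triv G) + ∑ χ ∈ B', f χ := fun f =>
    (Finset.add_sum_erase _ f htB).symm
  obtain ⟨d, hd⟩ : ∃ d : IrrCharacter G → ℕ, ∀ χ : IrrCharacter G, charDegree (χ : G → ℂ) = d χ :=
    ⟨_, fun _ => rfl⟩
  have hd1 : ∀ χ : IrrCharacter G, (χ : G → ℂ) 1 = (d χ : ℂ) := fun χ => by
    rw [charDegree_one, hd]
  obtain ⟨D, hD⟩ : ∃ D : IrrCharacter G → ℤ, ∀ χ, D χ = ε χ * d χ := ⟨_, fun _ => rfl⟩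
  have hDmem : ∀ χ ∈ B', D χ = 8 ∨ D χ = 36 ∨ D χ = 64 ∨ D χ = -6 ∨ D χ = -27 ∨ D χ = -48 := by
    intro χ hχ
    obtain ⟨hne, hχB⟩ := Finset.mem_erase.1 hχ
    obtain ⟨h1, h2, h3⟩ := S.hbound χ (Finset.mem_union.1 hχB) hne
    rw [hd] at h1 h2 h3
    rw [h] at h2
    obtain ⟨c1, c2⟩ := sdeg_check _ (by nlinarith) h1 h3
    have h7 := hdeg7 χ hχB
    rw [hd] at h7
    rw [hD]
    rcases hεpm χ hχB with e | e <;> rw [e] at h7 ⊢
    · rcases c1 (by omega) with k | k | k <;> simp [k]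
    · rcases c2 (by omega) with k | k | k <;> simp [k]
  obtain ⟨K, hK⟩ : ∃ K : IrrCharacter G → ℕ, ∀ χ, 1728 / d χ = K χ := ⟨_, fun _ => rfl⟩
  have hDd : ∀ χ ∈ B', ε χ = (if 0 < D χ then 1 else -1) ∧ (D χ).natAbs = d χ ∧
      (K χ : ℂ) * (d χ : ℂ) = 1728 ∧ d χ ≠ 0 := by
    intro χ hχ
    have hm := hDmem χ hχ
    rw [hD] at hm ⊢
    obtain ⟨hne, hχB⟩ := Finset.mem_erase.1 hχ
    have hdv : d χ = 8 ∨ d χ = 36 ∨ d χ = 64 ∨ d χ = 6 ∨ d χ = 27 ∨ d χ = 48 := by
      rcases hεpm χ hχB with e | e <;> rw [e] at hm <;> omega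
    refine ⟨?_, ?_, ?_, by omega⟩
    · rcases hεpm χ hχB with e | e <;> rw [e]
      · rw [if_pos (by omega)]
      · rw [if_neg (by omega)]
    · rcases hεpm χ hχB with e | e <;> rw [e] <;> omega
    · rw [← hK]; rcases hdv with k | k | k | k | k | k <;> rw [k] <;> norm_num
  -- the involutions
  obtain ⟨y, hyN, hy⟩ := S.hgen
  set g := y ^ 7 with hg
  have hgN : ∀ j : ℕ, g ^ j ∈ centralizer ({S.z} : Set G) ↔ 6 ∣ j := fun j => by
    rw [hg, ← pow_mul, hy]
    omega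
  have hg6 : orderOf g = 6 := by
    refine Nat.dvd_antisymm (orderOf_dvd_of_pow_eq_one ?_)
      ((hgN _).1 (by rw [pow_orderOf_eq_one]; exact one_mem _))
    rw [hg, ← pow_mul, show 7 * 6 = 6 * 7 from rfl, pow_mul, ← orderOf_dvd_iff_pow_eq_one]
    rw [← hzC]
    exact Subgroup.orderOf_dvd_natCard _ ((hy 6).2 dvd_rfl)
  set t := g ^ 3 with ht_def
  have ht : orderOf t = 2 := by rw [ht_def, orderOf_pow, hg6]; rfl
  have hti : t * S.z * t⁻¹ = S.z⁻¹ := inverts_of_normalizes hz hzC ht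
    (pow_mem (pow_mem hyN 7) 3) fun hc => by have := (hgN 3).1 hc; norm_num at this
  have ht1 : t ≠ 1 := fun e => by rw [e, orderOf_one] at ht; norm_num at ht
  have ht7 : ¬ 7 ∣ orderOf t := by rw [ht]; norm_num
  obtain ⟨C, hCt⟩ : ∃ C, Nat.card (centralizer ({t} : Set G)) = C := ⟨_, rfl⟩
  have hC6 : 6 ∣ C := by
    rw [← hCt, ← hg6]
    exact Subgroup.orderOf_dvd_natCard _
      (mem_centralizer_singleton_iff.2 ((Commute.pow_right (Commute.refl g) 3).eq))
  -- the values at an involution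
  have hvals : ∀ {w : G}, orderOf w = 2 → ∃ x : IrrCharacter G → ℤ,
      (∀ χ : IrrCharacter G, (χ : G → ℂ) w = (x χ : ℂ)) ∧
      (∀ χ ∈ B', x χ ∈ valList (d χ)) ∧ 1 + ∑ χ ∈ B', ε χ * x χ = 0 := by
    intro w hw
    choose x hx using fun χ : IrrCharacter G =>
      SmallOrder.exists_int_apply_involution (Char.IsIrr.isCharacter χ.2) hw
    refine ⟨x, hx, fun χ hχ => ?_, ?_⟩
    · obtain ⟨hne, -⟩ := Finset.mem_erase.1 hχ
      rw [← hd]
      exact mem_valList (natAbs_lt_degree hna χ hne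
        (fun e => by rw [e, orderOf_one] at hw; norm_num at hw) (hx χ))
        (SmallOrder.four_dvd_degree_sub_apply hna (Char.IsIrr.isCharacter χ.2) hw
          (charDegree_one χ) (hx χ))
    · have h1 := hrelB w (by rw [hw]; norm_num)
      rw [hsplit, hεt, triv_apply] at h1
      simp only [hx] at h1
      have : ((1 + ∑ χ ∈ B', ε χ * x χ : ℤ) : ℂ) = ((0 : ℤ) : ℂ) := by
        push_cast at h1 ⊢; linear_combination h1
      exact_mod_cast this
  have hformula : ∀ {w w' : G} (x x' : IrrCharacter G → ℤ),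
      (∀ χ : IrrCharacter G, (χ : G → ℂ) w = (x χ : ℂ)) →
      (∀ χ : IrrCharacter G, (χ : G → ℂ) w' = (x' χ : ℂ)) →
      ((7 : ℤ) * (1728 + ∑ χ ∈ B', ε χ * (x χ * x' χ) * (K χ : ℤ)) : ℤ) =
        ((Nat.card (centralizer ({w'} : Set G)) *
          Nat.card {a : G // IsConj (a * w * a⁻¹ * S.z) w'} : ℕ) : ℤ) := by
    intro w w' x x' hx hx'
    have h1 := mult_card w S.z w'
    rw [h, hsum _ (fun χ e => by rw [e, mul_zero, zero_mul, zero_div]), hsplit] at h1
    have h2 : ∀ χ ∈ B', (χ : G → ℂ) w * (χ : G → ℂ) S.z * conj ((χ : G → ℂ) w') /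
        (χ : G → ℂ) 1 = (ε χ * (x χ * x' χ) * (K χ : ℤ) : ℤ) / 1728 := by
      intro χ hχ
      obtain ⟨-, -, h3, h4⟩ := hDd χ hχ
      rw [hx, hx', hzval χ (Finset.mem_of_mem_erase hχ), hd1, map_intCast]
      push_cast
      rw [div_eq_div_iff (Nat.cast_ne_zero.2 h4) (by norm_num)]
      linear_combination -((x χ : ℂ) * (ε χ : ℂ) * (x' χ : ℂ)) * h3
    rw [Finset.sum_congr rfl h2, ← Finset.sum_div, triv_apply, triv_apply, triv_apply, triv_apply,
      map_one] at h1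
    have h5 : (((7 : ℤ) * (1728 + ∑ χ ∈ B', ε χ * (x χ * x' χ) * (K χ : ℤ)) : ℤ) : ℂ)
        = (((Nat.card (centralizer ({w'} : Set G)) *
          Nat.card {a : G // IsConj (a * w * a⁻¹ * S.z) w'} : ℕ) : ℤ) : ℂ) := by
      push_cast at h1 ⊢
      linear_combination h1
    exact_mod_cast h5
  obtain ⟨x, hx, hxl, hxs⟩ := hvals ht
  -- the column of `t`
  have hcol : 1 + ∑ χ ∈ B', x χ * x χ ≤ (C : ℤ) := by
    have h1 := SmallOrder.Order5616.column_le t B
    rw [hCt, ← Finset.add_sum_erase _ _ htB, triv_apply, map_one] at h1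
    simp only [hx, ← Complex.ofReal_intCast, Complex.normSq_ofReal] at h1
    exact_mod_cast h1
  have heq : (C : ℤ) * C = 1728 + ∑ χ ∈ B', ε χ * (x χ * x χ) * (K χ : ℤ) := by
    have h1 := hformula x x hx hx
    rw [card_conj_inverts hz hzC ht hti, hCt] at h1
    push_cast at h1
    linarith
  have hC223 : C ≤ 223 ∧ ∀ χ ∈ B', (x χ).natAbs ≤ 14 := by
    have h1 : ∑ χ ∈ B', ε χ * (x χ * x χ) * (K χ : ℤ) ≤
        216 * ∑ χ ∈ B', x χ * x χ := by
      rw [Finset.mul_sum]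
      refine Finset.sum_le_sum fun χ hχ => ?_
      obtain ⟨e1, e2, -, -⟩ := hDd χ hχ
      refine le_trans (le_of_eq ?_) (coeff_le (D χ) (hDmem χ hχ) (x χ))
      rw [e1, e2, hK]
      split_ifs <;> ring
    have hCle : C ≤ 223 := by
      by_contra hgt
      have : (224 : ℤ) ≤ C := by exact_mod_cast Nat.lt_of_not_le hgt
      nlinarith
    refine ⟨hCle, fun χ hχ => ?_⟩
    have h2 := Finset.single_le_sum (f := fun ψ => x ψ * x ψ) (fun ψ _ => mul_self_nonneg _) hχ
    by_contra hgt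
    have h3 : (15 : ℤ) ≤ |x χ| := by rw [← Int.natCast_natAbs]; omega
    have h4 : (225 : ℤ) ≤ x χ * x χ := by rw [← abs_mul_abs_self]; nlinarith
    have : (C : ℤ) ≤ 223 := by exact_mod_cast hCle
    linarith
  have hxsmall : ∀ χ ∈ B', x χ ∈ smallList (d χ) := fun χ hχ =>
    mem_smallList (hxl χ hχ) (hC223.2 χ hχ)
  obtain ⟨k, hk, hk6⟩ : ∃ k, k < 38 ∧ C = 6 * k := by
    obtain ⟨k, hk⟩ := hC6
    exact ⟨k, by have := hC223.1; omega, hk⟩
  have hgood : ∀ A Q N : ℤ, 1 + A = 0 → (C : ℤ) * C = 1728 + Q → 1 + N ≤ C →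
      good (A, Q, N) = true := by
    intro A Q N h1 h2 h3
    simp only [good, Bool.and_eq_true, beq_iff_eq, List.any_eq_true, List.mem_range,
      decide_eq_true_eq]
    refine ⟨h1, k, hk, ?_⟩
    rw [show (6 * (k : ℤ)) = (C : ℤ) by rw [hk6]; push_cast; rfl]
    exact ⟨h2, h3⟩
  -- the numbers of the degrees
  obtain ⟨f, hf⟩ : ∃ f : IrrCharacter G → ℤ × ℤ × ℤ, ∀ χ, f χ =
      (ε χ * x χ, ε χ * (x χ * x χ) * (K χ : ℤ), x χ * x χ) := ⟨_, fun _ => rfl⟩
  have hst := mem_states [8, 36, 64, -6, -27, -48] (by decide) B' D f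
    (fun χ hχ => by simpa using hDmem χ hχ) fun χ hχ => by
      obtain ⟨e1, e2, -, -⟩ := hDd χ hχ
      rw [tri, List.mem_map, hf]
      refine ⟨x χ, e2 ▸ hxsmall χ hχ, ?_⟩
      rw [e1, e2, hK]
      split_ifs <;> simp
  obtain ⟨n, hn⟩ : ∃ n : ℤ → ℕ, ∀ v, (B'.filter fun χ => D χ = v).card = n v := ⟨_, fun _ => rfl⟩
  have hfib : ∀ F : ℤ → ℤ, ∑ χ ∈ B', F (D χ) = (n 8 : ℤ) * F 8 + (n 36 * F 36 + (n 64 * F 64 +
      (n (-6) * F (-6) + (n (-27) * F (-27) + n (-48) * F (-48))))) := by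
    intro F
    rw [← Finset.sum_fiberwise_of_maps_to (g := D)
      (t := ({8, 36, 64, -6, -27, -48} : Finset ℤ)) (fun χ hχ => by simpa using hDmem χ hχ)]
    rw [Finset.sum_congr rfl (g := fun v => (n v : ℤ) * F v) fun v _ => by
      rw [Finset.sum_congr rfl (g := fun _ => F v) fun χ hχ => by rw [(Finset.mem_filter.1 hχ).2],
        Finset.sum_const, hn, nsmul_eq_mul]]
    simp
  have hn1 : n 8 + n 36 + n 64 + n (-6) + n (-27) + n (-48) = 6 := by
    have h1 := hfib fun _ => 1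
    simp only [Finset.sum_const, nsmul_eq_mul, mul_one, hB'c] at h1
    omega
  have hn2 : 1 + 8 * n 8 + 36 * n 36 + 64 * n 64 =
      6 * n (-6) + 27 * n (-27) + 48 * n (-48) := by
    have h1 := hrelB 1 (by simp)
    rw [hsplit, hεt, triv_apply] at h1
    simp only [hd1] at h1
    have h2 : 1 + ∑ χ ∈ B', D χ = 0 := by
      have : ((1 + ∑ χ ∈ B', D χ : ℤ) : ℂ) = ((0 : ℤ) : ℂ) := by
        simp only [hD]; push_cast at h1 ⊢; linear_combination h1
      exact_mod_cast this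
    have h3 := hfib fun v => v
    have h4 : (1 : ℤ) + 8 * (n 8) + 36 * (n 36) + 64 * (n 64) =
        6 * (n (-6)) + 27 * (n (-27)) + 48 * (n (-48)) := by linarith
    exact_mod_cast h4
  have hn3 : 1 + 64 * n 8 + 1296 * n 36 + 4096 * n 64 + 36 * n (-6) + 729 * n (-27) +
      2304 * n (-48) ≤ 12096 := by
    have h1 := Char.sum_sq_degree (G := G)
    simp only [hd1] at h1
    have h4 : ∑ χ : IrrCharacter G, d χ ^ 2 = 12096 := by rw [← h]; exact_mod_cast h1
    have h5 := Finset.sum_le_sum_of_subset (f := fun χ : IrrCharacter G => d χ ^ 2)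
      (Finset.subset_univ B)
    rw [← Finset.add_sum_erase _ _ htB, h4, ← hd, charDegree_triv] at h5
    have h6 := hfib fun v => v * v
    rw [Finset.sum_congr rfl (g := fun χ => ((d χ ^ 2 : ℕ) : ℤ)) fun χ hχ => by
      obtain ⟨-, e2, -, -⟩ := hDd χ hχ
      rw [← e2, Nat.cast_pow, Int.natAbs_sq, sq]] at h6
    rw [← Nat.cast_sum] at h6
    have h7 : ((1 + ∑ χ ∈ B', d χ ^ 2 : ℕ) : ℤ) ≤ 12096 := by exact_mod_cast h5
    push_cast at h6 h7
    have h8 : (1 : ℤ) + 64 * (n 8) + 1296 * (n 36) + 4096 * (n 64) + 36 * (n (-6)) +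
        729 * (n (-27)) + 2304 * (n (-48)) ≤ 12096 := by linarith
    exact_mod_cast h8
  have hcheck := counts_check
  simp only [List.all_eq_true, List.mem_range, Bool.or_eq_true, Bool.not_eq_true'] at hcheck
  have h0 := hcheck (n 8) (by omega) (n 36) (by omega) (n 64) (by omega) (n (-6)) (by omega)
    (n (-27)) (by omega)
  rw [show 6 - n 8 - n 36 - n 64 - n (-6) - n (-27) = n (-48) by omega] at h0
  have hok : countsOK (n 8) (n 36) (n 64) (n (-6)) (n (-27)) (n (-48)) = true := by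
    rw [countsOK, decide_eq_true_eq]
    exact ⟨hn1, hn2, hn3⟩
  obtain ⟨⟨⟨⟨m8, m36⟩, m64⟩, m6⟩, m27⟩ :
      (((n 8 = 1 ∧ n 36 = 2) ∧ n 64 = 0) ∧ n (-6) = 0) ∧ n (-27) = 3 := by
    rcases h0 with h0 | h0 | h0
    · rw [hok] at h0; exact absurd h0 (by simp)
    · simpa only [Bool.and_eq_true, beq_iff_eq] using h0
    · exfalso
      simp only [List.map_cons, List.map_nil, hn] at hst
      rw [List.any_eq_false] at h0
      refine h0 _ hst ?_
      rw [Finset.sum_congr rfl fun χ _ => hf χ,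
        show ∑ χ ∈ B', (ε χ * x χ, ε χ * (x χ * x χ) * (K χ : ℤ), x χ * x χ) =
          (∑ χ ∈ B', ε χ * x χ, ∑ χ ∈ B', ε χ * (x χ * x χ) * (K χ : ℤ), ∑ χ ∈ B', x χ * x χ) by
          refine Prod.ext ?_ (Prod.ext ?_ ?_) <;> simp [Prod.fst_sum, Prod.snd_sum]]
      exact hgood _ _ _ hxs heq hcol
  have m48 : n (-48) = 0 := by omega
  -- the six characters
  obtain ⟨u, hu⟩ := Finset.card_eq_one.1 ((hn 8).trans m8)
  obtain ⟨p, q, hpq, hpq'⟩ := Finset.card_eq_two.1 ((hn 36).trans m36)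
  obtain ⟨l, m, r, hlm, hlr, hmr, hlmr⟩ := Finset.card_eq_three.1 ((hn (-27)).trans m27)
  have hu' : u ∈ B' ∧ D u = 8 := Finset.mem_filter.1 (show u ∈ B'.filter fun χ => D χ = 8 by rw [hu]; simp)
  have hp' : p ∈ B' ∧ D p = 36 := Finset.mem_filter.1
    (show p ∈ B'.filter fun χ => D χ = 36 by rw [hpq']; simp)
  have hq' : q ∈ B' ∧ D q = 36 := Finset.mem_filter.1
    (show q ∈ B'.filter fun χ => D χ = 36 by rw [hpq']; simp)
  have hl' : l ∈ B' ∧ D l = -27 := Finset.mem_filter.1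
    (show l ∈ B'.filter fun χ => D χ = -27 by rw [hlmr]; simp)
  have hm' : m ∈ B' ∧ D m = -27 := Finset.mem_filter.1
    (show m ∈ B'.filter fun χ => D χ = -27 by rw [hlmr]; simp)
  have hr' : r ∈ B' ∧ D r = -27 := Finset.mem_filter.1
    (show r ∈ B'.filter fun χ => D χ = -27 by rw [hlmr]; simp)
  have hsix : ∀ F : IrrCharacter G → ℤ,
      ∑ χ ∈ B', F χ = F u + (F p + F q) + (F l + F m + F r) := by
    intro F
    rw [← Finset.sum_fiberwise_of_maps_to (g := D)
      (t := ({8, 36, 64, -6, -27, -48} : Finset ℤ)) (fun χ hχ => by simpa using hDmem χ hχ)]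
    have e0 : ∀ v, n v = 0 → ∑ χ ∈ B'.filter (fun χ => D χ = v), F χ = 0 := fun v hv => by
      rw [Finset.card_eq_zero.1 ((hn v).trans hv), Finset.sum_empty]
    rw [Finset.sum_insert (by decide), Finset.sum_insert (by decide), Finset.sum_insert (by decide),
      Finset.sum_insert (by decide), Finset.sum_insert (by decide), Finset.sum_singleton, hu, hpq',
      hlmr, e0 64 m64, e0 (-6) m6, e0 (-48) m48, Finset.sum_singleton, Finset.sum_pair hpq,
      Finset.sum_insert (by simp [hlm, hlr]), Finset.sum_pair hmr]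
    ring
  have hval : ∀ {χ : IrrCharacter G} {v : ℤ}, χ ∈ B' ∧ D χ = v →
      ε χ = (if 0 < v then 1 else -1) ∧ d χ = v.natAbs := fun {χ v} hh => by
    obtain ⟨e1, e2, -, -⟩ := hDd χ hh.1
    rw [hh.2] at e1 e2
    exact ⟨e1, e2.symm⟩
  obtain ⟨eu, du⟩ := hval hu'
  obtain ⟨ep, dp⟩ := hval hp'
  obtain ⟨eq', dq⟩ := hval hq'
  obtain ⟨el, dl⟩ := hval hl'
  obtain ⟨em, dm⟩ := hval hm'
  obtain ⟨er, dr⟩ := hval hr'
  norm_num at eu du ep dp eq' dq el dl em dm er dr
  -- the values at `t`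
  have ku : K u = 216 := by rw [← hK, du]
  have kp : K p = 48 := by rw [← hK, dp]
  have kq : K q = 48 := by rw [← hK, dq]
  have kl : K l = 64 := by rw [← hK, dl]
  have km : K m = 64 := by rw [← hK, dm]
  have kr : K r = 64 := by rw [← hK, dr]
  rw [hsix] at hxs hcol heq
  simp only [eu, ep, eq', el, em, er, ku, kp, kq, kl, km, kr] at hxs heq
  norm_num at heq
  have h1 := first_check
  simp only [List.all_eq_true, Bool.or_eq_true, Bool.and_eq_true, beq_iff_eq, Bool.not_eq_true',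
    beq_eq_false_iff_ne] at h1
  have h1' := h1 (x u) (du ▸ hxsmall u hu'.1) (x p) (dp ▸ hxsmall p hp'.1)
    (x q) (dq ▸ hxsmall q hq'.1) (x l) (dl ▸ hxsmall l hl'.1) (x m) (dm ▸ hxsmall m hm'.1)
    (x r) (dr ▸ hxsmall r hr'.1)
  have hg' := hgood (x u + x p + x q - x l - x m - x r)
    (216 * x u * x u + 48 * (x p * x p + x q * x q) -
      64 * (x l * x l + x m * x m + x r * x r))
    (x u * x u + x p * x p + x q * x q + x l * x l + x m * x m + x r * x r)
    (by linarith) (by linarith) (by linarith)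
  obtain ⟨⟨⟨⟨⟨xu, hpq0⟩, xl⟩, xm⟩, xr⟩, hCC⟩ :
      ((((x u = 0 ∧ ((x p = -4 ∧ x q = 0) ∨ (x p = 0 ∧ x q = -4))) ∧ x l = -1) ∧ x m = -1) ∧
        x r = -1) ∧
      1728 + 216 * x u * x u + 48 * (x p * x p + x q * x q) -
        64 * (x l * x l + x m * x m + x r * x r) = 2304 := by
    rcases h1' with h1' | h1' | h1'
    · exact absurd (by linarith) h1'
    · rw [hg'] at h1'; exact absurd h1' (by simp)
    · exact h1'
  have hC48 : C = 48 := by
    have : (C : ℤ) * C = 2304 := by linarith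
    have h3 : C * C = 2304 := by exact_mod_cast this
    exact Nat.mul_self_inj.1 (h3.trans (by norm_num : 2304 = 48 * 48))
  -- a central involution of a Sylow subgroup
  have : Fact (Nat.Prime 2) := ⟨Nat.prime_two⟩
  obtain ⟨T⟩ : Nonempty (Sylow 2 G) := Sylow.nonempty
  have hTc : Nat.card (T : Subgroup G) = 64 :=
    (SmallOrder.card_sylow_eq_pow (a := 6) (m := 189) (by rw [h]; norm_num) (by norm_num) T).trans
      (by norm_num)
  have : Nontrivial (T : Subgroup G) :=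
    Finite.one_lt_card_iff_nontrivial.1 (by rw [hTc]; norm_num)
  have := T.2.center_nontrivial
  obtain ⟨c₀, hc₀⟩ := exists_prime_orderOf_dvd_card' (G := center (T : Subgroup G)) 2 (by
    have h2 := Finite.one_lt_card_iff_nontrivial.2 this
    obtain ⟨i, hi⟩ := IsPGroup.iff_card.1 (T.2.to_subgroup (center (T : Subgroup G)))
    rw [hi] at h2 ⊢
    rcases i with - | i
    · norm_num at h2
    · exact dvd_pow_self 2 (Nat.succ_ne_zero i))
  set w : G := ((c₀ : (T : Subgroup G)) : G) with hw_def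
  have hw : orderOf w = 2 := by rw [hw_def, Subgroup.orderOf_coe, Subgroup.orderOf_coe, hc₀]
  have hwT : (T : Subgroup G) ≤ centralizer ({w} : Set G) := fun a ha =>
    mem_centralizer_singleton_iff.2
      (congrArg Subtype.val (mem_center_iff.1 c₀.2 ⟨a, ha⟩))
  have hnc : ∀ a : G, (a * w * a⁻¹) * S.z * (a * w * a⁻¹)⁻¹ ≠ S.z⁻¹ := by
    intro a ha
    obtain ⟨c, -, hc⟩ := isConj_of_inverts hz hzC ht (by
      rw [show a * w * a⁻¹ = MulAut.conj a w from rfl, MulEquiv.orderOf_eq, hw]) hti ha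
    have hcw : IsConj t w := isConj_iff.2 ⟨a⁻¹ * c, by
      calc a⁻¹ * c * t * (a⁻¹ * c)⁻¹ = a⁻¹ * (c * t * c⁻¹) * a := by group
        _ = w := by rw [← hc]; group⟩
    have h2 : Nat.card (centralizer ({w} : Set G)) = 48 := by
      rw [← hC48, ← hCt]
      have e1 := (centralizer ({w} : Set G)).card_mul_index
      have e2 := (centralizer ({t} : Set G)).card_mul_index
      rw [← Char.card_isConj_eq_index] at e1 e2
      have hcl : Nat.card {b : G // IsConj w b} = Nat.card {b : G // IsConj t b} :=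
        Nat.card_congr (Equiv.subtypeEquivRight fun b => ⟨hcw.trans, hcw.symm.trans⟩)
      rw [hcl, ← e2] at e1
      have : Nonempty {b : G // IsConj t b} := ⟨⟨_, IsConj.refl _⟩⟩
      exact Nat.eq_of_mul_eq_mul_right Nat.card_pos e1
    have h3 := card_dvd_of_le hwT
    rw [hTc, h2] at h3
    norm_num at h3
  have hzero : ∀ {v : G}, orderOf v = 2 →
      Nat.card {a : G // IsConj (a * w * a⁻¹ * S.z) v} = 0 := fun {v} hv => by
    have : IsEmpty {a : G // IsConj (a * w * a⁻¹ * S.z) v} :=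
      ⟨fun a => hnc a.1 (inverts_of_isConj_mul hw hv a.2)⟩
    exact Nat.card_of_isEmpty
  obtain ⟨z', hz', hzl, hzs⟩ := hvals hw
  have e1 := hformula z' z' hz' hz'
  rw [hzero hw, mul_zero, hsix] at e1
  have e2 := hformula z' x hz' hx
  rw [hzero ht, mul_zero, hsix] at e2
  rw [hsix] at hzs
  simp only [eu, ep, eq', el, em, er, ku, kp, kq, kl, km, kr, xu, xl, xm, xr] at e1 e2 hzs
  norm_num at e1 e2
  have h2 := second_check
  simp only [List.all_eq_true, Bool.or_eq_true, Bool.not_eq_true', List.elem_eq_contains,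
    List.contains_eq_mem, decide_eq_false_iff_not, beq_eq_false_iff_ne] at h2
  rcases hpq0 with ⟨xp, xq⟩ | ⟨xp, xq⟩
  · rw [xp, xq] at e2
    have er : z' r = 3 * z' p - 27 - z' l - z' m := by linarith
    have eq2 : z' q = -(1 + z' u + z' p - z' l - z' m - (3 * z' p - 27 - z' l - z' m)) := by
      linarith
    rcases h2 (z' u) (du ▸ hzl u hu'.1) (z' p) (dp ▸ hzl p hp'.1) (z' l) (dl ▸ hzl l hl'.1)
      (z' m) (dm ▸ hzl m hm'.1) with h2' | h2' | h2'
    · exact h2' (er ▸ dr ▸ hzl r hr'.1)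
    · exact h2' (eq2 ▸ dq ▸ hzl q hq'.1)
    · refine h2' ?_
      rw [← eq2, ← er]
      linarith
  · rw [xp, xq] at e2
    have er : z' r = 3 * z' q - 27 - z' l - z' m := by linarith
    have eq2 : z' p = -(1 + z' u + z' q - z' l - z' m - (3 * z' q - 27 - z' l - z' m)) := by
      linarith
    rcases h2 (z' u) (du ▸ hzl u hu'.1) (z' q) (dq ▸ hzl q hq'.1) (z' l) (dl ▸ hzl l hl'.1)
      (z' m) (dm ▸ hzl m hm'.1) with h2' | h2' | h2'
    · exact h2' (er ▸ dr ▸ hzl r hr'.1)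
    · exact h2' (eq2 ▸ dp ▸ hzl p hp'.1)
    · refine h2' ?_
      rw [← eq2, ← er]
      linarith

end Cfsg.Agent.U33Rec
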