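import Cfsg.Agent.U33Rec.Action

/-!
A group with a normal subgroup of index two of this kind, and trivial centraliser, is unique.
-/

set_option autoImplicit false
set_option linter.unusedSectionVars false
set_option maxRecDepth 4000

namespace Cfsg.Agent.U33Rec

open Subgroup

/-- The model with its outer automorphism. -/
def M1 : Subgroup (Equiv.Perm (Fin 28)) :=
  closure (gens ∪ {σ | ∀ i : Fin 28, (σ i).val = a0 i.val})

theorem M0_le_M1 : M0 ≤ M1 := closure_mono Set.subset_union_left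

/-- The image of a number under a permutation. -/
def pv (σ : Equiv.Perm (Fin 28)) (n : ℕ) : ℕ := (σ ⟨n % 28, Nat.mod_lt _ (by norm_num)⟩).val

theorem pv_val (σ : Equiv.Perm (Fin 28)) (i : Fin 28) : pv σ i.val = (σ i).val := by
  unfold pv
  congr 2
  exact Fin.ext (Nat.mod_eq_of_lt i.2)

theorem pv_mul (σ τ : Equiv.Perm (Fin 28)) (n : ℕ) : pv (σ * τ) n = pv σ (pv τ n) := by
  unfold pv
  rw [Equiv.Perm.mul_apply]
  congr 2
  exact Fin.ext (Nat.mod_eq_of_lt (Fin.isLt _)).symm

theorem pv_inj {σ : Equiv.Perm (Fin 28)} {n m : ℕ} (hn : n < 28) (hm : m < 28)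
    (e : pv σ n = pv σ m) : n = m := by
  have := σ.injective (Fin.ext e)
  simpa [Fin.ext_iff, Nat.mod_eq_of_lt hn, Nat.mod_eq_of_lt hm] using this

theorem autCand_eq (k p : ℕ) {q : ℕ} (hq : q ≠ 27) :
    autCand k p q = mapI p (hp k p) (commI p (hp k p)) q := by
  simp [autCand, mapI, commI, powI, hq]

theorem mapI_id : ∀ q : Fin 27, mapI 9 3 1 q.val = q.val := by decide +kernel

theorem commI_nine : commI 9 3 = 1 := by decide +kernel

theorem hp_nine : hp 1 9 = 3 := by decide +kernel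

theorem cube_zero : ∀ u : Fin 27, mulI (mulI u.val u.val) u.val = 0 := by decide +kernel

universe u

variable {G : Type u} [Group G] {T : Subgroup G} [T.Normal] [Fintype T] (F : Frame T)

/-- The action of the whole group on the 28 points. -/
noncomputable def Frame.ext : G →* Equiv.Perm (Fin 28) :=
  (Equiv.permCongrHom F.pt.symm).toMonoidHom.comp
    ((MulAction.toPermHom (MulAut T) (Sylow 3 T)).comp MulAut.conjNormal)

theorem Frame.ext_coe (t : T) : F.ext (t : G) = F.phi t := by
  show F.pt.symm.permCongrHom (MulAction.toPermHom (MulAut T) (Sylow 3 T)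
    (MulAut.conjNormal (t : G))) = _
  rw [MulAut.conjNormal_val]
  refine Equiv.ext fun i => ?_
  show F.pt.symm (MulAut.conj t • F.pt i) = F.pt.symm (t • F.pt i)
  rw [Sylow.smul_def]

theorem Frame.ext_conj (g : G) (t : T) :
    F.ext g * F.phi t = F.phi (MulAut.conjNormal g t) * F.ext g := by
  rw [← F.ext_coe, ← F.ext_coe, ← map_mul, ← map_mul, MulAut.conjNormal_apply]
  group

theorem Frame.ext_injective [IsSimpleGroup T] (hC : centralizer (T : Set G) = ⊥) :
    Function.Injective F.ext := by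
  refine (injective_iff_map_eq_one _).2 fun g hg => ?_
  have : g ∈ centralizer (T : Set G) := mem_centralizer_iff.2 fun t ht => by
    have h1 := F.ext_conj g ⟨t, ht⟩
    rw [hg, one_mul, mul_one] at h1
    have h2 := congrArg Subtype.val (F.phi_injective h1)
    rw [MulAut.conjNormal_apply] at h2
    exact eq_mul_inv_iff_mul_eq.1 h2
  rw [hC] at this
  exact mem_bot.1 this

/-- An outer element fixing two points gives the outer automorphism of the model. -/
theorem Frame.exists_a0_aux [IsSimpleGroup T] (hC : centralizer (T : Set G) = ⊥) {g : G}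
    (hg : g ∉ T) (s27 : pv (F.ext g) 27 = 27) (s0 : pv (F.ext g) 0 = 0) :
    ∃ g' : G, g' ∉ T ∧ ∀ i : Fin 28, (F.ext g' i).val = a0 i.val := by
  set S := pv (F.ext g) with hS
  set al : MulAut T := MulAut.conjNormal g with hal
  have hlt : ∀ n, S n < 28 := fun n => (F.ext g _).2
  have hlt' : ∀ n, n < 27 → S n < 27 := fun n hn => by
    have h1 := hlt n
    rcases Nat.lt_or_ge (S n) 27 with h | h
    · exact h
    · have := pv_inj (σ := F.ext g) (show n < 28 by omega) (show 27 < 28 by norm_num)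
        (show S n = S 27 by omega)
      omega
  have hcomm : ∀ (t : T) (i : ℕ), S (F.act t i) = F.act (al t) (S i) := fun t i => by
    have h1 := congrArg (fun σ => pv σ i) (F.ext_conj g t)
    simp only [pv_mul] at h1
    exact h1
  have hmul : ∀ a, a < 27 → ∀ b, b < 28 → S (mulI a b) = mulI (S a) (S b) := by
    intro a ha b hb
    have c27 := hcomm (psi F.x F.y a) 27
    have c0 := hcomm (psi F.x F.y a) 0
    rw [F.act_psi ha (by norm_num), mulI_inf, s27] at c27
    rw [F.act_psi ha (by norm_num), mulI_zero ⟨a, ha⟩, s0] at c0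
    have hs := hlt' a ha
    have a1 := F.act_inv (by norm_num) ((F.act_psi hs (by norm_num)).trans (mulI_inf _))
    have a2 := F.act_inv (by norm_num)
      ((F.act_psi hs (by norm_num)).trans (mulI_zero ⟨S a, hs⟩))
    obtain ⟨k, hk, ek⟩ := F.stab_act (g := (psi F.x F.y (S a))⁻¹ * al (psi F.x F.y a))
      (by rw [F.act_mul, ← c27, a1]) (by rw [F.act_mul, ← c0, a2])
    rw [inv_mul_eq_iff_eq_mul] at ek
    have e3 : (psi F.x F.y (S a) * F.h ^ k) ^ 3 = 1 := by
      rw [← ek, ← map_pow, pow_succ, sq, ← F.pair.psi_mul ha ha,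
        ← F.pair.psi_mul (mulI_digits ⟨a, ha⟩ ⟨a, ha⟩).1 ha, cube_zero ⟨a, ha⟩, psi_zero, map_one]
    have hk0 : k = 0 := by
      by_contra hk0
      have h := cube_search
      simp only [List.all_eq_true, List.any_eq_true, List.mem_range, List.mem_range'_1,
        Bool.not_eq_true', beq_eq_false_iff_ne, ne_eq] at h
      obtain ⟨i, hi, hne⟩ := h (S a) hs k ⟨by omega, by omega⟩
      refine hne ?_
      have h3 := congrArg (fun t => F.act t i) e3
      simp only [pow_succ, pow_zero, one_mul, F.act_mul, F.act_one hi] at h3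
      rw [F.act_hpow k hi] at h3
      have l : ∀ n, n < 28 → hp k n < 28 := fun n hn => hp_lt ⟨k, hk⟩ ⟨n, hn⟩
      have m : ∀ n, n < 28 → mulI (S a) n < 28 := fun n hn => mulI_lt ⟨S a, hs⟩ ⟨n, hn⟩
      rw [F.act_psi hs (l i hi), F.act_hpow k (m _ (l i hi)),
        F.act_psi hs (l _ (m _ (l i hi))), F.act_hpow k (m _ (l _ (m _ (l i hi)))),
        F.act_psi hs (l _ (m _ (l _ (m _ (l i hi)))))] at h3
      exact h3
    rw [hk0, pow_zero, mul_one] at ek
    have h4 := hcomm (psi F.x F.y a) b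
    rwa [F.act_psi ha hb, ek, F.act_psi hs (hlt b)] at h4
  obtain ⟨k, hk, hh⟩ : ∃ k ∈ [1, 3, 5, 7], ∀ b, b < 28 → S (hp 1 b) = hp k (S b) := by
    have c27 := hcomm F.h 27
    have c0 := hcomm F.h 0
    rw [F.act_h (by norm_num), (hp_fix ⟨1, by norm_num⟩).1, s27] at c27
    rw [F.act_h (by norm_num), (hp_fix ⟨1, by norm_num⟩).2, s0] at c0
    obtain ⟨k, hk, ek⟩ := F.stab_act (g := al F.h) c27.symm c0.symm
    have ho : orderOf (F.h ^ k) = 8 := by rw [← ek, MulEquiv.orderOf_eq, F.hord]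
    refine ⟨k, ?_, fun b hb => ?_⟩
    · rw [orderOf_pow, F.hord] at ho
      interval_cases k <;> first | decide | (exfalso; revert ho; decide)
    · have h4 := hcomm F.h b
      rwa [F.act_h hb, ek, F.act_hpow k (hlt b)] at h4
  have hkp : ∀ r, r < 27 → hp k r < 27 := by
    have : ∀ k : Fin 8, ∀ r : Fin 27, hp k.val r.val < 27 := by decide +kernel
    intro r hr
    have hk8 : k < 8 := by fin_cases hk <;> norm_num
    exact this ⟨k, hk8⟩ ⟨r, hr⟩
  have hpow : ∀ a, a < 27 → ∀ n, S (powI a n) = powI (S a) n := by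
    intro a ha n
    unfold powI
    split_ifs
    · exact s0
    · rfl
    · exact hmul a ha a (by omega)
  have hc : ∀ a, a < 27 → ∀ b, b < 27 → S (commI a b) = commI (S a) (S b) := by
    intro a ha b hb
    have h1 := powI_lt ⟨a, ha⟩ ⟨2, by norm_num⟩
    have h2 := powI_lt ⟨b, hb⟩ ⟨2, by norm_num⟩
    have h3 := (mulI_digits ⟨_, h1⟩ ⟨_, h2⟩).1
    have h4 := (mulI_digits ⟨a, ha⟩ ⟨b, hb⟩).1
    simp only at h1 h2 h3 h4
    unfold commI
    rw [hmul _ h3 _ (by omega), hmul _ h1 _ (by omega), hmul a ha b (by omega), hpow a ha,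
      hpow b hb]
  set p := S 9 with hp9
  have hp27 := hlt' 9 (by norm_num)
  have hS3 : S 3 = hp k p := by rw [← hp_nine, hh 9 (by norm_num)]
  have hS1 : S 1 = commI p (hp k p) := by
    rw [← commI_nine, hc 9 (by norm_num) 3 (by norm_num), hS3]
  have hcand : ∀ q, q < 28 → autCand k p q = S q := by
    intro q hq
    by_cases h : q = 27
    · subst h; rw [s27]; simp [autCand]
    have hq' : q < 27 := by omega
    have hA := powI_lt ⟨9, by norm_num⟩ ⟨q / 9, by omega⟩
    have hB := powI_lt ⟨3, by norm_num⟩ ⟨q / 3 % 3, Nat.mod_lt _ (by norm_num)⟩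
    have hD := powI_lt ⟨1, by norm_num⟩ ⟨q % 3, Nat.mod_lt _ (by norm_num)⟩
    simp only at hA hB hD
    have hE : mulI (powI 9 (q / 9)) (powI 3 (q / 3 % 3)) < 27 := (mulI_digits ⟨_, hA⟩ ⟨_, hB⟩).1
    rw [autCand_eq k p h]
    conv_rhs => rw [show q = mapI 9 3 1 q from (mapI_id ⟨q, hq'⟩).symm]
    simp only [mapI]
    rw [hmul _ hE _ (by omega), hmul _ hA _ (by omega), hpow 9 (by norm_num),
      hpow 3 (by norm_num), hpow 1 (by norm_num), hS3, hS1]
  have hp1 : 1 ≤ p := by
    by_contra h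
    have := pv_inj (σ := F.ext g) (show 9 < 28 by norm_num) (show 0 < 28 by norm_num)
      (show S 9 = S 0 by omega)
    omega
  have hs := aut_search
  simp only [List.all_eq_true, List.any_eq_true, List.mem_range, List.mem_range'_1,
    Bool.or_eq_true, Bool.not_eq_true', List.all_eq_false, beq_iff_eq] at hs
  rcases hs k hk p ⟨hp1, by omega⟩ with ⟨q, hq, hne⟩ | ⟨e, -, he | he⟩
  · have hq1 : hp 1 q < 28 := hp_lt ⟨1, by norm_num⟩ ⟨q, by omega⟩
    rw [hcand _ hq1, hcand q (by omega), hh q (by omega)] at hne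
    simp at hne
  · refine absurd ?_ hg
    have h1 : F.ext g = F.ext ((F.h ^ e : T) : G) := Equiv.ext fun i => Fin.ext (by
      rw [← pv_val, ← hS, ← hcand _ i.2, he _ i.2, F.ext_coe, ← F.act_val,
        F.act_hpow e i.2])
    rw [F.ext_injective hC h1]
    exact (F.h ^ e : T).2
  · refine ⟨g * ((F.h ^ e)⁻¹ : T), fun h => hg ?_, fun i => ?_⟩
    · have := mul_mem h (F.h ^ e : T).2
      rwa [InvMemClass.coe_inv, inv_mul_cancel_right] at this
    · rw [map_mul, F.ext_coe, ← pv_val, pv_mul]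
      show S (F.act (F.h ^ e)⁻¹ i.val) = _
      have h1 := F.act_lt (F.h ^ e)⁻¹ i.val
      have h2 : F.act (F.h ^ e) (F.act (F.h ^ e)⁻¹ i.val) = i.val := by
        rw [← F.act_mul, mul_inv_cancel, F.act_one i.2]
      rw [F.act_hpow _ h1] at h2
      rw [← hcand _ h1, he _ h1, h2]

theorem Frame.exists_a0 [IsSimpleGroup T] (hC : centralizer (T : Set G) = ⊥) (hi : T.index = 2) :
    ∃ g : G, g ∉ T ∧ ∀ i : Fin 28, (F.ext g i).val = a0 i.val := by
  obtain ⟨g, hg⟩ : ∃ g : G, g ∉ T := by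
    by_contra h
    push Not at h
    rw [(eq_top_iff' T).2 h, index_top] at hi
    norm_num at hi
  have l1 : pv (F.ext g) 27 < 28 := (F.ext g _).2
  have l2 : pv (F.ext g) 0 < 28 := (F.ext g _).2
  obtain ⟨t, t1, t2⟩ := F.trans2 l1 l2 fun e => by
    have := pv_inj (show 27 < 28 by norm_num) (show 0 < 28 by norm_num) e
    omega
  refine F.exists_a0_aux hC (g := ((t⁻¹ : T) : G) * g) (fun h => hg ?_) ?_ ?_
  · have := mul_mem t.2 h
    rwa [InvMemClass.coe_inv, mul_inv_cancel_left] at this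
  · rw [map_mul, F.ext_coe, pv_mul]
    exact F.act_inv (by norm_num) t1
  · rw [map_mul, F.ext_coe, pv_mul]
    exact F.act_inv (by norm_num) t2

theorem Frame.range_ext [IsSimpleGroup T] (hC : centralizer (T : Set G) = ⊥) (hi : T.index = 2) :
    F.ext.range = M1 := by
  obtain ⟨g0, hg0, ha0⟩ := F.exists_a0 hC hi
  have hT : ∀ t : T, F.ext (t : G) ∈ M1 := fun t =>
    M0_le_M1 (F.range_phi ▸ ⟨t, (F.ext_coe t).symm⟩)
  have h0 : F.ext g0 ∈ M1 := subset_closure (Or.inr ha0)
  refine le_antisymm ?_ ((closure_le _).2 ?_)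
  · rintro _ ⟨g, rfl⟩
    by_cases h : g ∈ T
    · exact hT ⟨g, h⟩
    · have h1 : g0⁻¹ * g ∈ T := (mul_mem_iff_of_index_two hi).2
        (iff_of_false (fun e => hg0 (by simpa using inv_mem e)) h)
      rw [← mul_inv_cancel_left g0 g, map_mul]
      exact mul_mem h0 (hT ⟨_, h1⟩)
  · rintro σ (h | h)
    · obtain ⟨t, ht⟩ : σ ∈ F.phi.range := F.range_phi.symm ▸ subset_closure h
      exact ⟨t, (F.ext_coe t).trans ht⟩
    · exact ⟨g0, Equiv.ext fun i => Fin.ext ((ha0 i).trans (h i).symm)⟩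

/-- Every such group is isomorphic to the model. -/
theorem nonempty_equiv_M1 {G : Type u} [Group G] [Fintype G] (T : Subgroup G) [T.Normal]
    [IsSimpleGroup T] (hna : ¬ IsMulCommutative T) (hT : Nat.card T = 6048)
    (h7 : ∀ x : T, orderOf x = 7 → Nat.card (centralizer ({x} : Set T)) = 7)
    (h9 : ∀ x : T, orderOf x ≠ 9) (hi : T.index = 2) (hC : centralizer (T : Set G) = ⊥) :
    Nonempty (G ≃* M1) := by
  classical
  have L := exists_local hna hT h7 h9
  obtain ⟨F⟩ := L.exists_frame hna hT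
  exact ⟨(MonoidHom.ofInjective (F.ext_injective hC)).trans
    (MulEquiv.subgroupCongr (F.range_ext hC hi))⟩

end Cfsg.Agent.U33Rec
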