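import Cfsg.Agent.U33Rec.Seven
import Cfsg.Agent.U33Rec.Extension
import Cfsg.Agent.U33Rec.Exclude
import Cfsg.Agent.SmallOrder.Below6000

/-!
A group of order 12096 with self centralising elements of order seven and no element of order nine
is the extension of the model by its outer automorphism.
-/

set_option autoImplicit false
set_option linter.unusedSectionVars false
set_option maxRecDepth 4000

namespace Cfsg.Agent.U33Rec

open Subgroup

universe u

variable {G : Type u} [Group G] [Finite G]

/-- A normal subgroup of order divisible by seven contains all elements of order seven. -/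
theorem mem_of_normal (h49 : ¬ 7 * 7 ∣ Nat.card G) {N : Subgroup G} (hN : N.Normal)
    (h7 : 7 ∣ Nat.card N) {x : G} (hx : orderOf x = 7) : x ∈ N := by
  have : Fact (Nat.Prime 7) := ⟨by norm_num⟩
  obtain ⟨y, hy⟩ := exists_prime_orderOf_dvd_card' 7 h7
  have hfac : (Nat.card G).factorization 7 = 1 := by
    have hd : 7 ∣ Nat.card G := hx ▸ orderOf_dvd_natCard x
    have h1 := Nat.Prime.factorization_pos_of_dvd (by norm_num) Nat.card_pos.ne' hd
    by_contra hne
    exact h49 ((Nat.pow_dvd_pow 7 (show 2 ≤ _ by omega)).trans (Nat.ordProj_dvd (Nat.card G) 7))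
  let P : Sylow 7 G := Sylow.ofCard (zpowers x) (by rw [hfac, Nat.card_zpowers, hx, pow_one])
  let Q : Sylow 7 G := Sylow.ofCard (zpowers (y : G))
    (by rw [hfac, Nat.card_zpowers, Subgroup.orderOf_coe, hy, pow_one])
  obtain ⟨g, hg⟩ := MulAction.exists_smul_eq G Q P
  have hmem : x ∈ ((g • Q : Sylow 7 G) : Subgroup G) := by rw [hg]; exact mem_zpowers x
  rw [Sylow.smul_def, Sylow.pointwise_smul_def] at hmem
  obtain ⟨q, hq, rfl⟩ := hmem
  exact hN.conj_mem q (zpowers_le.2 y.2 hq) g

theorem divisor_cases : ∀ d < 1729, d ∣ 1728 → d % 7 = 1 →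
    d = 1 ∨ d = 8 ∨ d = 36 ∨ d = 64 ∨ d = 288 := by decide +kernel

theorem count_cases : ∀ d ∈ [7, 14, 21, 42], 12096 / d % 7 = 1 → d = 42 := by decide

variable (hG : Nat.card G = 12096)
  (hC : ∀ x : G, orderOf x = 7 → Nat.card (centralizer ({x} : Set G)) = 7)
include hG hC

theorem card_normalizer_eq {z : G} (hz : orderOf z = 7) :
    Nat.card (normalizer ((zpowers z : Subgroup G) : Set G)) = 42 := by
  obtain ⟨hd, h7⟩ := card_normalizer_seven hz (hC z hz)
  have h1 := index_normalizer_seven hz (by rw [hG]; norm_num)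
  rw [hG] at h1
  refine count_cases _ ?_ h1
  have : ∀ d < 43, d ∣ 42 → 7 ∣ d → d ∈ [7, 14, 21, 42] := by decide
  exact this _ (Nat.lt_succ_of_le (Nat.le_of_dvd (by norm_num) hd)) hd h7

/-- The candidates for a normal subgroup of order prime to seven. -/
theorem card_normal {z : G} (hz : orderOf z = 7) {N : Subgroup G} (hN : N.Normal)
    (h : ¬ 7 ∣ Nat.card N) :
    Nat.card N = 1 ∨ Nat.card N = 8 := by
  have : Fact (Nat.Prime 7) := ⟨by norm_num⟩
  have hzN : ∀ z : G, z ∈ normalizer (N : Set G) := fun z => by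
    rw [normalizer_eq_top]; trivial
  have hm := card_mod_seven hz (hC z hz) (hzN z) h
  have hidx := N.card_mul_index
  rw [hG] at hidx
  have h1728 : Nat.card N ∣ 1728 := by
    refine ((Nat.Prime.coprime_iff_not_dvd (by norm_num)).2 h).symm.dvd_of_dvd_mul_left
      (show Nat.card N ∣ 7 * 1728 from Dvd.intro _ hidx)
  rcases divisor_cases _ (Nat.lt_succ_of_le (Nat.le_of_dvd (by norm_num) h1728)) h1728 hm with
    e | e | e | e | e
  · exact Or.inl e
  · exact Or.inr e
  · exfalso
    have : Fact (Nat.Prime 3) := ⟨Nat.prime_three⟩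
    obtain ⟨R⟩ : Nonempty (Sylow 3 N) := Sylow.nonempty
    have h9 : Nat.card R = 9 := by
      obtain ⟨k, hk⟩ := IsPGroup.iff_card.1 R.2
      have h1 := (R : Subgroup N).card_mul_index
      have h2 := R.not_dvd_index
      rw [hk, e] at h1
      rcases (show k ≤ 1 ∨ k = 2 ∨ 3 ≤ k by omega) with hk1 | rfl | hk1
      · interval_cases k <;> omega
      · exact hk
      · have : 3 ^ 3 ∣ 36 := (Nat.pow_dvd_pow 3 hk1).trans (Dvd.intro _ h1)
        norm_num at this
    have hsup := Sylow.normalizer_sup_eq_top R
    set L := (R : Subgroup N).map N.subtype with hL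
    have h7 : 7 ∣ Nat.card (normalizer (L : Set G)) := by
      refine Nat.dvd_trans ?_ (N.relIndex_dvd_card (K := (normalizer (L : Set G) : Subgroup G)))
      rw [← relIndex_sup_right, hsup, relIndex_top_right]
      rw [e] at hidx
      omega
    obtain ⟨y, hy⟩ := exists_prime_orderOf_dvd_card' 7 h7
    have hLc : Nat.card L = 9 := by
      rw [hL, card_map_of_injective (subtype_injective N)]; exact h9
    have := card_mod_seven (z := (y : G)) (by rw [Subgroup.orderOf_coe, hy])
      (hC _ (by rw [Subgroup.orderOf_coe, hy])) y.2 (by rw [hLc]; norm_num)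
    rw [hLc] at this
    norm_num at this
  · exfalso
    have hQ : Nat.card (G ⧸ N) = 189 := by
      rw [← index_eq_card]
      rw [e] at hidx
      omega
    have hn : Nat.card (Sylow 7 (G ⧸ N)) = 1 := by
      obtain ⟨P⟩ : Nonempty (Sylow 7 (G ⧸ N)) := Sylow.nonempty
      have h1 := card_sylow_modEq_one 7 (G ⧸ N)
      have h2 : Nat.card (Sylow 7 (G ⧸ N)) ∣ 189 :=
        hQ ▸ Dvd.intro _ (SmallOrder.card_sylow_mul_card_normalizer P)
      have : ∀ d < 190, d ∣ 189 → d % 7 = 1 → d = 1 := by decide +kernel
      exact this _ (Nat.lt_succ_of_le (Nat.le_of_dvd (by norm_num) h2)) h2 h1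
    obtain ⟨P⟩ : Nonempty (Sylow 7 (G ⧸ N)) := Sylow.nonempty
    have : Subsingleton (Sylow 7 (G ⧸ N)) := (Nat.card_eq_one_iff_unique.1 hn).1
    have hPn : (P : Subgroup (G ⧸ N)).Normal := P.normal_of_subsingleton
    set K := (P : Subgroup (G ⧸ N)).comap (QuotientGroup.mk' N) with hK
    have hKn : K.Normal := hPn.comap _
    have hKi : K.index = 27 := by
      rw [hK, index_comap_of_surjective _ (QuotientGroup.mk'_surjective N)]
      obtain ⟨k, hk⟩ := IsPGroup.iff_card.1 P.2
      have h1 := (P : Subgroup (G ⧸ N)).card_mul_index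
      have h2 := P.not_dvd_index
      rw [hk, hQ] at h1
      rcases (show k = 0 ∨ k = 1 ∨ 2 ≤ k by omega) with rfl | rfl | hk1
      · omega
      · omega
      · have : 7 ^ 2 ∣ 189 := (Nat.pow_dvd_pow 7 hk1).trans (Dvd.intro _ h1)
        norm_num at this
    have hK7 : 7 ∣ Nat.card K := by
      have := K.card_mul_index
      rw [hG, hKi] at this
      omega
    have hzK : z ∈ K := mem_of_normal (by rw [hG]; norm_num) hKn hK7 hz
    have hfac : (Nat.card G).factorization 7 = 1 := by
      rw [hG, show (12096 : ℕ) = 7 * 1728 by norm_num, Nat.factorization_mul (by norm_num)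
        (by norm_num), Finsupp.add_apply, Nat.Prime.factorization_self (by norm_num),
        Nat.factorization_eq_zero_of_not_dvd (by norm_num)]
    set P' : Sylow 7 G := Sylow.ofCard (zpowers z) (by rw [hfac, Nat.card_zpowers, hz, pow_one])
      with hP'
    have hsup := Sylow.normalizer_sup_eq_top' P' (show (P' : Subgroup G) ≤ K from zpowers_le.2 hzK)
    have h27 := K.relIndex_dvd_card (K := (normalizer ((P' : Subgroup G) : Set G) : Subgroup G))
    rw [← relIndex_sup_right] at h27
    erw [hsup] at h27
    rw [relIndex_top_right, hKi] at h27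
    erw [card_normalizer_eq hG hC hz] at h27
    norm_num at h27
  · exfalso
    have : Fact (Nat.Prime 3) := ⟨Nat.prime_three⟩
    obtain ⟨R⟩ : Nonempty (Sylow 3 N) := Sylow.nonempty
    have h9 : Nat.card R = 9 := by
      obtain ⟨k, hk⟩ := IsPGroup.iff_card.1 R.2
      have h1 := (R : Subgroup N).card_mul_index
      have h2 := R.not_dvd_index
      rw [hk, e] at h1
      rcases (show k ≤ 1 ∨ k = 2 ∨ 3 ≤ k by omega) with hk1 | rfl | hk1
      · interval_cases k <;> omega
      · exact hk
      · have : 3 ^ 3 ∣ 288 := (Nat.pow_dvd_pow 3 hk1).trans (Dvd.intro _ h1)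
        norm_num at this
    have hsup := Sylow.normalizer_sup_eq_top R
    set L := (R : Subgroup N).map N.subtype with hL
    have h7 : 7 ∣ Nat.card (normalizer (L : Set G)) := by
      refine Nat.dvd_trans ?_ (N.relIndex_dvd_card (K := (normalizer (L : Set G) : Subgroup G)))
      rw [← relIndex_sup_right, hsup, relIndex_top_right]
      rw [e] at hidx
      omega
    obtain ⟨y, hy⟩ := exists_prime_orderOf_dvd_card' 7 h7
    have hLc : Nat.card L = 9 := by
      rw [hL, card_map_of_injective (subtype_injective N)]; exact h9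
    have := card_mod_seven (z := (y : G)) (by rw [Subgroup.orderOf_coe, hy])
      (hC _ (by rw [Subgroup.orderOf_coe, hy])) y.2 (by rw [hLc]; norm_num)
    rw [hLc] at this
    norm_num at this

/-- There is no nontrivial normal subgroup of order prime to seven. -/
theorem normal_eq_bot {z : G} (hz : orderOf z = 7) {N : Subgroup G} (hN : N.Normal)
    (h : ¬ 7 ∣ Nat.card N) : N = ⊥ := by
  rcases card_normal hG hC hz hN h with e | e
  · exact card_eq_one.1 e
  exfalso
  let φ : G →* Equiv.Perm N := (MulAction.toPermHom (MulAut N) N).comp MulAut.conjNormal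
  have hk7 : ¬ 7 ∣ Nat.card φ.ker := by
    intro h7
    have hzk := mem_of_normal (by rw [hG]; norm_num) φ.normal_ker h7 hz
    have hle : N ≤ centralizer ({z} : Set G) := fun n hn => by
      have h1 : φ z ⟨n, hn⟩ = ⟨n, hn⟩ := by rw [MonoidHom.mem_ker.1 hzk]; rfl
      have h2 : z * n * z⁻¹ = n := congrArg Subtype.val h1
      exact mem_centralizer_singleton_iff.2 (mul_inv_eq_iff_eq_mul.1 h2).symm
    have := card_dvd_of_le hle
    rw [e, hC z hz] at this
    norm_num at this
  have h1 : φ.ker.index ∣ 40320 := by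
    rw [index_ker]
    have := card_subgroup_dvd_card φ.range
    rwa [Nat.card_perm, e] at this
  have h2 := φ.ker.card_mul_index
  rw [hG] at h2
  rcases card_normal hG hC hz φ.normal_ker hk7 with ek | ek <;>
    rw [ek] at h2
  · rw [one_mul] at h2; rw [h2] at h1; norm_num at h1
  · rw [show φ.ker.index = 1512 by omega] at h1; norm_num at h1

/-- The group is the model. -/
theorem nonempty_equiv_of_card (h9 : ∀ x : G, orderOf x ≠ 9) : Nonempty (G ≃* M1) := by
  have : Fact (Nat.Prime 7) := ⟨by norm_num⟩
  have := Fintype.ofFinite G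
  obtain ⟨z, hz⟩ := exists_prime_orderOf_dvd_card' (G := G) 7 (by rw [hG]; norm_num)
  have h49 : ¬ 7 * 7 ∣ Nat.card G := by rw [hG]; norm_num
  set T := normalClosure ({z} : Set G) with hT
  have hzT : z ∈ T := subset_normalClosure rfl
  have hT7 : 7 ∣ Nat.card T := hz ▸ Subgroup.orderOf_dvd_natCard T hzT
  have hT49 : ¬ 7 * 7 ∣ Nat.card T := fun h => h49 (h.trans (card_subgroup_dvd_card T))
  have hall : ∀ x : G, orderOf x = 7 → x ∈ T := fun x hx => mem_of_normal h49 inferInstance hT7 hx
  have hdiv : T.index ∣ 6 := by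
    let P : Sylow 7 T := default
    have hsup := Sylow.normalizer_sup_eq_top P
    have hPc : Nat.card (P : Subgroup T) = 7 := by
      obtain ⟨k, hk⟩ := IsPGroup.iff_card.1 P.2
      have h1 := (P : Subgroup T).card_mul_index
      have h2 := P.not_dvd_index
      rw [hk] at h1
      rcases (show k = 0 ∨ k = 1 ∨ 2 ≤ k by omega) with rfl | rfl | hk1
      · rw [pow_zero, one_mul] at h1; exact absurd (h1.symm ▸ hT7) h2
      · exact hk
      · exact absurd ((show 7 * 7 = 7 ^ 2 by norm_num) ▸
          (Nat.pow_dvd_pow 7 hk1).trans (Dvd.intro _ h1)) hT49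
    set L := (P : Subgroup T).map T.subtype with hL
    have hLc : Nat.card L = 7 := by rw [hL, card_map_of_injective (subtype_injective T)]; exact hPc
    have : IsCyclic L := isCyclic_of_prime_card hLc
    obtain ⟨g, hg⟩ := IsCyclic.exists_ofOrder_eq_natCard (α := L)
    rw [hLc] at hg
    have hLz : L = zpowers (g : G) := (eq_of_le_of_card_ge (zpowers_le.2 g.2)
      (by rw [hLc, Nat.card_zpowers, Subgroup.orderOf_coe, hg])).symm
    have h42 : Nat.card (normalizer (L : Set G)) = 42 := by
      rw [hLz]; exact card_normalizer_eq hG hC (by rw [Subgroup.orderOf_coe, hg])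
    have h1 := T.relIndex_dvd_card (K := (normalizer (L : Set G) : Subgroup G))
    rw [← relIndex_sup_right, hsup, relIndex_top_right, h42] at h1
    refine Nat.Coprime.dvd_of_dvd_mul_left ?_ (show T.index ∣ 7 * 6 from h1)
    refine ((Nat.Prime.coprime_iff_not_dvd (by norm_num)).2 fun h => h49 ?_).symm
    rw [← T.card_mul_index]
    exact Nat.mul_dvd_mul hT7 h
  -- simplicity
  have hsimple : IsSimpleGroup T := by
    have : Nontrivial T := Finite.one_lt_card_iff_nontrivial.1
      (lt_of_lt_of_le (by norm_num) (Nat.le_of_dvd Nat.card_pos hT7))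
    refine ⟨fun K hK => ?_⟩
    by_cases h7 : 7 ∣ Nat.card K
    · refine Or.inr (eq_top_iff.2 fun t _ => ?_)
      have hle : T ≤ K.map T.subtype := by
        refine (closure_le _).2 fun x hx => ?_
        obtain ⟨a, ha, hax⟩ := Group.mem_conjugatesOfSet_iff.1 hx
        rw [Set.mem_singleton_iff] at ha
        obtain ⟨c, hc⟩ := isConj_iff.1 hax
        have hxo : orderOf x = 7 := by
          rw [← hc, show c * a * c⁻¹ = MulAut.conj c a from rfl, MulEquiv.orderOf_eq, ha, hz]
        exact ⟨⟨x, hall x hxo⟩, mem_of_normal hT49 hK h7 (by rw [← Subgroup.orderOf_coe]; exact hxo),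
          rfl⟩
      obtain ⟨k, hk, hkt⟩ := hle t.2
      rwa [← Subtype.ext hkt]
    · refine Or.inl ?_
      obtain ⟨L, ⟨hLn, hL7⟩, hmax⟩ := Set.Finite.exists_maximalFor
        (fun L : Subgroup T => Nat.card L)
        {L : Subgroup T | L.Normal ∧ ¬ 7 ∣ Nat.card L} (Set.toFinite _) ⟨K, hK, h7⟩
      have hbig : ∀ M : Subgroup T, M.Normal → ¬ 7 ∣ Nat.card M → M ≤ L := by
        intro M hM hM7
        have hs : ¬ 7 ∣ Nat.card ↥(M ⊔ L) := by
          intro hd
          have h1 := relIndex_mul_index (le_sup_right : L ≤ M ⊔ L)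
          rw [relIndex_sup_right] at h1
          have h3 : Nat.card ↥(M ⊔ L) = Nat.card L * L.relIndex M := by
            have := (L.subgroupOf (M ⊔ L)).card_mul_index
            rw [Nat.card_congr (subgroupOfEquivOfLe le_sup_right).toEquiv] at this
            rw [← this, ← relIndex_sup_right (H := M) (K := L)]
            rfl
          rw [h3] at hd
          rcases (Nat.Prime.dvd_mul (by norm_num)).1 hd with d | d
          · exact hL7 d
          · exact hM7 (d.trans (L.relIndex_dvd_card (K := M)))
        have hle := hmax (j := M ⊔ L) ⟨sup_normal M L, hs⟩ (card_le_of_le le_sup_right)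
        rw [eq_of_le_of_card_ge (le_sup_right : L ≤ M ⊔ L) hle]
        exact le_sup_left
      have hnorm : (L.map T.subtype).Normal := by
        refine ⟨fun x hx g => ?_⟩
        obtain ⟨l, hl, rfl⟩ := hx
        have hmap : L.map (MulAut.conjNormal g : MulAut T).toMonoidHom ≤ L :=
          hbig _ (hLn.map _ (MulAut.conjNormal g : MulAut T).surjective)
            (by rw [card_map_of_injective]; exacts [hL7, (MulAut.conjNormal g : MulAut T).injective])
        exact ⟨MulAut.conjNormal g l, hmap ⟨l, hl, rfl⟩, MulAut.conjNormal_apply g l⟩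
      have hb := normal_eq_bot hG hC hz hnorm
        (by rw [card_map_of_injective (subtype_injective T)]; exact hL7)
      rw [map_eq_bot_iff_of_injective L (subtype_injective T)] at hb
      exact le_bot_iff.1 ((hbig K hK h7).trans hb.le)
  have hTC : ∀ x : T, orderOf x = 7 → Nat.card (centralizer ({x} : Set T)) = 7 := by
    intro x hx
    have hle : (centralizer ({x} : Set T)).map T.subtype ≤ centralizer ({(x : G)} : Set G) := by
      rintro _ ⟨a, ha, rfl⟩
      exact mem_centralizer_singleton_iff.2 (congrArg Subtype.val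
        (mem_centralizer_singleton_iff.1 ha))
    have h1 := card_dvd_of_le hle
    rw [card_map_of_injective (subtype_injective T), hC _ (by rw [Subgroup.orderOf_coe, hx])] at h1
    rcases (Nat.dvd_prime (by norm_num)).1 h1 with e | e
    · have h2 := Subgroup.orderOf_dvd_natCard (centralizer ({x} : Set T))
        (mem_centralizer_singleton_iff.2 rfl : x ∈ centralizer ({x} : Set T))
      rw [e, hx] at h2
      norm_num at h2
    · exact e
  have hcard := T.card_mul_index
  rw [hG] at hcard
  have hidx : T.index ≤ 6 := Nat.le_of_dvd (by norm_num) hdiv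
  have hna : ¬ IsMulCommutative T := by
    intro h
    have hle : T ≤ centralizer ({z} : Set G) := fun t ht => mem_centralizer_singleton_iff.2
      (congrArg Subtype.val (h.is_comm.comm ⟨t, ht⟩ ⟨z, hzT⟩))
    have := card_dvd_of_le hle
    rw [hC z hz] at this
    have := Nat.le_of_dvd (by norm_num) this
    nlinarith
  have hnot : ∀ n, Nat.card T = n → n < 6000 → n ≠ 4032 ∧ n ≠ 2016 := by
    intro n hn hlt
    have := SmallOrder.card_of_lt_6000 hna (hn ▸ hlt)
    rw [hn] at this
    simp only [List.mem_cons, List.not_mem_nil, or_false] at this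
    omega
  have hT9 : ∀ x : T, orderOf x ≠ 9 := fun x => by rw [← Subgroup.orderOf_coe]; exact h9 _
  have := Fintype.ofFinite T
  obtain ⟨d, hd⟩ : ∃ d, T.index = d := ⟨_, rfl⟩
  rw [hd] at hcard hidx hdiv
  interval_cases d
  · norm_num at hdiv
  · exact absurd (by omega : Nat.card T = 12096) (not_card_12096 hna hTC)
  · refine nonempty_equiv_M1 T hna (by omega) hTC hT9 hd ?_
    rw [eq_bot_iff]
    intro c hc
    have hcz : c ∈ zpowers z := centralizer_eq_zpowers hz (hC z hz) ▸
      (mem_centralizer_singleton_iff.2 (mem_centralizer_iff.1 hc z hzT).symm :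
        c ∈ centralizer ({z} : Set G))
    by_contra hne
    have hco : orderOf c = 7 :=
      ((Nat.dvd_prime (by norm_num)).1 (hz ▸ orderOf_dvd_of_mem_zpowers hcz)).resolve_left
        fun h => hne (mem_bot.2 (orderOf_eq_one_iff.1 h))
    have hle : T ≤ centralizer ({c} : Set G) := fun t ht =>
      mem_centralizer_singleton_iff.2 (mem_centralizer_iff.1 hc t ht)
    have := card_dvd_of_le hle
    rw [hC c hco, show Nat.card T = 6048 by omega] at this
    norm_num at this
  · exact absurd rfl (hnot 4032 (by omega) (by norm_num)).1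
  · norm_num at hdiv
  · norm_num at hdiv
  · exact absurd rfl (hnot 2016 (by omega) (by norm_num)).2

end Cfsg.Agent.U33Rec
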