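import Cfsg.Agent.U33Rec.Frame

/-!
The action on the 28 Sylow 3-subgroups gives exactly the model group.
-/

set_option autoImplicit false
set_option linter.unusedSectionVars false
set_option maxRecDepth 4000

namespace Cfsg.Agent.U33Rec

open Subgroup

/-- The generators of the model. -/
def gens : Set (Equiv.Perm (Fin 28)) :=
  {σ | (∃ u < 27, ∀ i : Fin 28, (σ i).val = mulI u i.val) ∨
    (∀ i : Fin 28, (σ i).val = hp 1 i.val) ∨ ∀ i : Fin 28, (σ i).val = w0 i.val}

/-- The model of `U₃(3)`. -/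
def M0 : Subgroup (Equiv.Perm (Fin 28)) := closure gens

theorem mulI_inf (u : ℕ) : mulI u 27 = 27 := if_pos rfl

theorem mulI_zero : ∀ u : Fin 27, mulI u.val 0 = u.val := by decide +kernel

theorem mulI_inv : ∀ u : Fin 27, mulI (powI u.val 2) u.val = 0 := by decide +kernel

theorem orb_sep : ∀ k : Fin 8, hp k.val 3 ≠ 4 ∧ hp k.val 3 ≠ 5 ∧ hp k.val 4 ≠ 5 := by
  decide +kernel

theorem hp_mod (k i : ℕ) : hp k i = hp (k % 8) i := by
  unfold hp
  rw [Nat.mod_mod]

universe u

variable {G : Type u} [Group G] [Fintype G] (F : Frame G)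

/-- The Sylow subgroup with a given number. -/
def Frame.ptFun (i : Fin 28) : Sylow 3 G := if i.val = 27 then F.P else psi F.x F.y i.val • F.Q

theorem Frame.fixP {g : G} (hg : g ∈ (F.P : Subgroup G)) : g • F.P = F.P :=
  Sylow.smul_eq_iff_mem_normalizer.2 (le_normalizer hg)

theorem Frame.psi_smul_ne {i : ℕ} (hi : i < 27) : psi F.x F.y i • F.Q ≠ F.P := fun e =>
  F.hne (by rw [← inv_smul_smul (psi F.x F.y i) F.Q, e, F.fixP (inv_mem (F.mem i hi))])

theorem Frame.ptFun_bij : Function.Bijective F.ptFun := by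
  constructor
  · intro i j e
    have hi := i.2
    have hj := j.2
    unfold Frame.ptFun at e
    refine Fin.ext ?_
    by_cases h1 : i.val = 27
    · by_cases h2 : j.val = 27
      · omega
      · rw [if_pos h1, if_neg h2] at e
        exact absurd e.symm (F.psi_smul_ne (by omega))
    · by_cases h2 : j.val = 27
      · rw [if_neg h1, if_pos h2] at e
        exact absurd e (F.psi_smul_ne (by omega))
      · rw [if_neg h1, if_neg h2] at e
        have e2 : ((psi F.x F.y j.val)⁻¹ * psi F.x F.y i.val) • F.Q = F.Q := by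
          rw [mul_smul, e, inv_smul_smul]
        exact F.inj _ (by omega) _ (by omega) (inv_mul_eq_one.1
          (F.hdisj F.hne _ (mul_mem (inv_mem (F.mem _ (by omega))) (F.mem _ (by omega))) e2)).symm
  · intro R
    by_cases h : R = F.P
    · exact ⟨⟨27, by norm_num⟩, by rw [h]; rfl⟩
    · obtain ⟨g, hg, hgR⟩ := F.trans R h
      obtain ⟨i, hi, rfl⟩ := F.surj g hg
      exact ⟨⟨i, by omega⟩, (if_neg (by omega : ¬ i = 27)).trans hgR⟩

/-- The numbering of the Sylow subgroups. -/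
noncomputable def Frame.pt : Fin 28 ≃ Sylow 3 G := Equiv.ofBijective _ F.ptFun_bij

/-- The action on the 28 points. -/
noncomputable def Frame.phi : G →* Equiv.Perm (Fin 28) :=
  (Equiv.permCongrHom F.pt.symm).toMonoidHom.comp (MulAction.toPermHom G (Sylow 3 G))

/-- The action on numbers. -/
noncomputable def Frame.act (g : G) (n : ℕ) : ℕ :=
  (F.phi g ⟨n % 28, Nat.mod_lt _ (by norm_num)⟩).val

theorem Frame.phi_iff {g : G} {i j : Fin 28} : F.phi g i = j ↔ g • F.pt i = F.pt j :=
  F.pt.symm_apply_eq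

theorem Frame.act_val (g : G) (i : Fin 28) : F.act g i.val = (F.phi g i).val := by
  unfold Frame.act
  congr 2
  exact Fin.ext (Nat.mod_eq_of_lt i.2)

theorem Frame.act_lt (g : G) (n : ℕ) : F.act g n < 28 := (F.phi g _).2

theorem Frame.act_mul (g k : G) (n : ℕ) : F.act (g * k) n = F.act g (F.act k n) := by
  unfold Frame.act
  rw [map_mul, Equiv.Perm.mul_apply]
  congr 2
  exact Fin.ext (Nat.mod_eq_of_lt (Fin.isLt _)).symm

theorem Frame.act_one {n : ℕ} (hn : n < 28) : F.act 1 n = n := by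
  unfold Frame.act
  rw [map_one]
  exact Nat.mod_eq_of_lt hn

theorem Frame.act_inv {g : G} {n m : ℕ} (hn : n < 28) (e : F.act g n = m) :
    F.act g⁻¹ m = n := by
  rw [← e, ← F.act_mul, inv_mul_cancel, F.act_one hn]

theorem Frame.act_inj {g : G} {n m : ℕ} (hn : n < 28) (hm : m < 28)
    (e : F.act g n = F.act g m) : n = m := by
  rw [← F.act_inv hn e, F.act_inv hm rfl]

theorem Frame.pt_inf : F.pt ⟨27, by norm_num⟩ = F.P := by
  show F.ptFun ⟨27, by norm_num⟩ = F.P
  exact if_pos rfl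

theorem Frame.pt_of_lt {i : ℕ} (hi : i < 27) :
    F.pt ⟨i, by omega⟩ = psi F.x F.y i • F.Q := by
  show F.ptFun ⟨i, by omega⟩ = psi F.x F.y i • F.Q
  exact if_neg (by omega : ¬ i = 27)

theorem Frame.act_psi {u n : ℕ} (hu : u < 27) (hn : n < 28) :
    F.act (psi F.x F.y u) n = mulI u n := by
  rw [show n = (⟨n, hn⟩ : Fin 28).val from rfl, F.act_val]
  by_cases h : n = 27
  · subst h
    rw [mulI_inf, F.phi_iff.2 (show psi F.x F.y u • F.pt ⟨27, hn⟩ = F.pt ⟨27, hn⟩ by
      rw [F.pt_inf]; exact F.fixP (F.mem u hu))]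
  · have h1 : mulI u n < 27 := (mulI_digits ⟨u, hu⟩ ⟨n, by omega⟩).1
    have e : F.phi (psi F.x F.y u) ⟨n, hn⟩ = ⟨mulI u n, by omega⟩ := by
      rw [F.phi_iff, F.pt_of_lt (by omega), F.pt_of_lt h1, ← mul_smul,
        F.pair.psi_mul hu (by omega)]
    rw [e]

theorem Frame.act_h {n : ℕ} (hn : n < 28) : F.act F.h n = hp 1 n := by
  rw [show n = (⟨n, hn⟩ : Fin 28).val from rfl, F.act_val]
  by_cases h : n = 27
  · subst h
    rw [(hp_fix ⟨1, by norm_num⟩).1, F.phi_iff.2 (show F.h • F.pt ⟨27, hn⟩ = F.pt ⟨27, hn⟩ by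
      rw [F.pt_inf]; exact F.hP)]
  · have h1 : hp 1 n < 27 := by
      have : ∀ i : Fin 27, hp 1 i.val < 27 := by decide +kernel
      exact this ⟨n, by omega⟩
    have e : F.phi F.h ⟨n, hn⟩ = ⟨hp 1 n, by omega⟩ := by
      rw [F.phi_iff, F.pt_of_lt (by omega), F.pt_of_lt h1, ← mul_smul,
        ← F.pair.psi_hp F.hx F.hy (by omega : n < 27), mul_smul _ F.h⁻¹, inv_smul_eq_iff.2 F.hQ.symm]
    rw [e]

theorem Frame.pow_mod (k : ℕ) : F.h ^ (k % 8) = F.h ^ k :=
  (pow_eq_pow_mod k (F.hord ▸ pow_orderOf_eq_one F.h)).symm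

theorem Frame.act_hpow (k : ℕ) {n : ℕ} (hn : n < 28) : F.act (F.h ^ k) n = hp k n := by
  induction k with
  | zero => rw [pow_zero, F.act_one hn]; exact (hp_zero ⟨n, hn⟩).symm
  | succ k ih =>
    rw [pow_succ', F.act_mul, ih, hp_mod k n]
    have h1 := hp_lt ⟨k % 8, Nat.mod_lt _ (by norm_num)⟩ ⟨n, hn⟩
    rw [F.act_h h1]
    refine (hp_succ ⟨k % 8, Nat.mod_lt _ (by norm_num)⟩ ⟨n, hn⟩).trans ?_
    rw [hp_mod (k % 8 + 1), hp_mod (k + 1), Nat.add_mod k 1, Nat.add_mod (k % 8) 1, Nat.mod_mod]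

theorem Frame.stab_act {g : G} (h1 : F.act g 27 = 27) (h2 : F.act g 0 = 0) :
    ∃ k < 8, g = F.h ^ k := by
  have e1 : g • F.P = F.P := by
    rw [← F.pt_inf, ← F.phi_iff]
    exact Fin.ext ((F.act_val g ⟨27, by norm_num⟩).symm.trans h1)
  have hQ : F.pt ⟨0, by norm_num⟩ = F.Q := by rw [F.pt_of_lt (by norm_num), psi_zero, one_smul]
  have e2 : g • F.Q = F.Q := by
    rw [← hQ, ← F.phi_iff]
    exact Fin.ext ((F.act_val g ⟨0, by norm_num⟩).symm.trans h2)
  obtain ⟨k, hk⟩ := (Submonoid.mem_powers_iff _ _).1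
    (mem_powers_iff_mem_zpowers.2 (F.stab g e1 e2))
  exact ⟨k % 8, Nat.mod_lt _ (by norm_num), by rw [F.pow_mod, hk]⟩

theorem Frame.trans2 {a b : ℕ} (ha : a < 28) (hb : b < 28) (hab : a ≠ b) :
    ∃ g : G, F.act g 27 = a ∧ F.act g 0 = b := by
  have : Fact (Nat.Prime 3) := ⟨Nat.prime_three⟩
  obtain ⟨g, hg⟩ := MulAction.exists_smul_eq G (F.pt ⟨27, by norm_num⟩) (F.pt ⟨a, ha⟩)
  have hga : F.act g 27 = a :=
    (F.act_val g ⟨27, by norm_num⟩).trans (congrArg Fin.val (F.phi_iff.2 hg))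
  have hj := F.act_lt g⁻¹ b
  have hj' : F.act g⁻¹ b < 27 := by
    rcases Nat.lt_or_ge (F.act g⁻¹ b) 27 with h | h
    · exact h
    · exfalso
      have e := F.act_inv hb (show F.act g⁻¹ b = 27 by omega)
      rw [inv_inv, hga] at e
      exact hab e
  refine ⟨g * psi F.x F.y (F.act g⁻¹ b), ?_, ?_⟩
  · rw [F.act_mul, F.act_psi hj' (by norm_num), mulI_inf, hga]
  · rw [F.act_mul, F.act_psi hj' (by norm_num), mulI_zero ⟨_, hj'⟩]
    simpa using F.act_inv hb (rfl : F.act g⁻¹ b = _)

/-- An element which swaps infinity and the origin. -/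
theorem Frame.exists_swap : ∃ w : G, ∃ j ∈ [1, 3, 5, 7], F.act w 27 = 0 ∧ F.act w 0 = 27 ∧
    F.act w 1 = 1 ∧ F.act w 2 = 2 ∧ ∀ k : ℕ, w * F.h ^ k = F.h ^ (j * k) * w := by
  obtain ⟨v, v1, v2⟩ := F.trans2 (show 0 < 28 by norm_num) (show 27 < 28 by norm_num) (by norm_num)
  have hconj : ∀ w : G, F.act w 27 = 0 → F.act w 0 = 27 →
      ∃ j ∈ [1, 3, 5, 7], ∀ k : ℕ, w * F.h ^ k = F.h ^ (j * k) * w := by
    intro w w1 w2
    have i1 := F.act_inv (by norm_num) w1
    have i2 := F.act_inv (by norm_num) w2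
    obtain ⟨j, hj, e⟩ := F.stab_act (g := w * F.h * w⁻¹)
      (by rw [F.act_mul, F.act_mul, i2, F.act_h (by norm_num), (hp_fix ⟨1, by norm_num⟩).2, w2])
      (by rw [F.act_mul, F.act_mul, i1, F.act_h (by norm_num), (hp_fix ⟨1, by norm_num⟩).1, w1])
    have ho : orderOf (F.h ^ j) = 8 := by
      rw [← e, show w * F.h * w⁻¹ = MulAut.conj w F.h from rfl, MulEquiv.orderOf_eq, F.hord]
    refine ⟨j, ?_, fun k => ?_⟩
    · rw [orderOf_pow, F.hord] at ho
      interval_cases j <;> simp_all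
    · rw [pow_mul, ← e, conj_pow]
      group
  obtain ⟨j, hj, hjk⟩ := hconj v v1 v2
  have hfix : ∀ i, 0 < i → i < 3 → F.act v i = 1 ∨ F.act v i = 2 := by
    intro i hi0 hi3
    have h1 := congrArg (fun g => F.act g i) (hjk 2)
    simp only [F.act_mul, F.act_hpow 2 (by omega : i < 28)] at h1
    rw [(hp_two ⟨i, by omega⟩).2 hi3, F.act_hpow _ (F.act_lt v i), hp_mod] at h1
    have hne0 : F.act v i ≠ 0 := fun e => by
      have := F.act_inj (by omega) (show 27 < 28 by norm_num) (e.trans v1.symm)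
      omega
    have hne27 : F.act v i ≠ 27 := fun e => by
      have := F.act_inj (by omega) (show 0 < 28 by norm_num) (e.trans v2.symm)
      omega
    have key : ∀ m : Fin 27, hp 2 m.val = m.val ∨ hp 6 m.val = m.val → m.val < 3 := by
      decide +kernel
    have hlt := F.act_lt v i
    have hk : F.act v i < 3 := key ⟨F.act v i, by omega⟩ (by
      fin_cases hj <;> norm_num at h1 <;> first | exact Or.inl h1.symm | exact Or.inr h1.symm)
    omega
  rcases hfix 1 (by norm_num) (by norm_num) with e | e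
  · refine ⟨v, j, hj, v1, v2, e, ?_, hjk⟩
    rcases hfix 2 (by norm_num) (by norm_num) with e' | e'
    · have := F.act_inj (g := v) (show 1 < 28 by norm_num) (show 2 < 28 by norm_num)
        (e.trans e'.symm)
      omega
    · exact e'
  · refine ⟨F.h * v, j, hj, ?_, ?_, ?_, ?_, fun k => ?_⟩
    · rw [F.act_mul, v1, F.act_h (by norm_num), (hp_fix ⟨1, by norm_num⟩).2]
    · rw [F.act_mul, v2, F.act_h (by norm_num), (hp_fix ⟨1, by norm_num⟩).1]
    · rw [F.act_mul, e, F.act_h (by norm_num), hp_small.2]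
    · rcases hfix 2 (by norm_num) (by norm_num) with e' | e'
      · rw [F.act_mul, e', F.act_h (by norm_num), hp_small.1]
      · have := F.act_inj (g := v) (show 1 < 28 by norm_num) (show 2 < 28 by norm_num)
          (e.trans e'.symm)
        omega
    · rw [mul_assoc, hjk k, ← mul_assoc, ← pow_succ', pow_succ, mul_assoc]

/-- Some element acts as `w0`. -/
theorem Frame.exists_w0 : ∃ g : G, ∀ i, i < 28 → F.act g i = w0 i := by
  obtain ⟨w, j, hj, w27, w00, w1, w2, hjk⟩ := F.exists_swap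
  have i27 := F.act_inv (by norm_num) w00
  have i00 := F.act_inv (by norm_num) w27
  have hhp : ∀ k i, i < 28 → F.act w (hp k i) = hp (j * k) (F.act w i) := fun k i hi => by
    rw [← F.act_hpow k hi, ← F.act_mul, hjk, F.act_mul, F.act_hpow _ (F.act_lt w i)]
  have hp3 : ∀ r, 3 ≤ r → r < 6 → 3 ≤ F.act w r ∧ F.act w r < 27 := by
    intro r hr hr'
    have hlt := F.act_lt w r
    have key : ∀ m, m < 28 → m ≠ r → F.act w r ≠ F.act w m := fun m hm hne e =>
      hne (F.act_inj (by omega) hm e).symm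
    have k0 := key 27 (by norm_num) (by omega)
    have k1 := key 1 (by norm_num) (by omega)
    have k2 := key 2 (by norm_num) (by omega)
    have k27 := key 0 (by norm_num) (by omega)
    rw [w27] at k0
    rw [w1] at k1
    rw [w2] at k2
    rw [w00] at k27
    omega
  have hsep : ∀ r s, 3 ≤ r → r < 6 → 3 ≤ s → s < 6 →
      orbOf (F.act w r) = orbOf (F.act w s) → r = s := by
    intro r s hr hr' hs hs' e
    obtain ⟨-, -, a3⟩ := hp_rep ⟨_, (hp3 r hr hr').2⟩ (hp3 r hr hr').1
    obtain ⟨-, -, b3⟩ := hp_rep ⟨_, (hp3 s hs hs').2⟩ (hp3 s hs hs').1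
    obtain ⟨m, hm⟩ : ∃ g : G, g ∈ zpowers F.h ∧ F.act g (F.act w r) = F.act w s := by
      have hlt : 3 + orbOf (F.act w r) < 28 := by
        have := (hp_rep ⟨_, (hp3 r hr hr').2⟩ (hp3 r hr hr').1).1
        simp only at this
        omega
      refine ⟨F.h ^ posOf (F.act w s) * (F.h ^ posOf (F.act w r))⁻¹,
        mul_mem (pow_mem (mem_zpowers _) _) (inv_mem (pow_mem (mem_zpowers _) _)), ?_⟩
      have a4 : F.act (F.h ^ posOf (F.act w r)) (3 + orbOf (F.act w r)) = F.act w r :=
        (F.act_hpow _ hlt).trans a3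
      rw [F.act_mul, F.act_inv hlt a4, F.act_hpow _ hlt, e]
      exact b3
    obtain ⟨hmz, hme⟩ := hm
    have hfix : F.act m 27 = 27 ∧ F.act m 0 = 0 := by
      obtain ⟨k, hk⟩ := (Submonoid.mem_powers_iff _ _).1 (mem_powers_iff_mem_zpowers.2 hmz)
      rw [← hk, F.act_hpow _ (by norm_num), F.act_hpow _ (by norm_num), hp_mod k, hp_mod k]
      exact hp_fix ⟨k % 8, Nat.mod_lt _ (by norm_num)⟩
    obtain ⟨n, hn, en⟩ := F.stab_act (g := w⁻¹ * m * w)
      (by rw [F.act_mul, F.act_mul, w27, hfix.2, i00])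
      (by rw [F.act_mul, F.act_mul, w00, hfix.1, i27])
    have h2 : hp n r = s := by
      rw [← F.act_hpow n (by omega : r < 28), ← en, F.act_mul, F.act_mul, hme]
      exact F.act_inv (by omega) rfl
    have h3 : hp n s = s → r = s := fun h => by
      rw [← F.act_hpow n (by omega : r < 28)] at h2
      rw [← F.act_hpow n (by omega : s < 28)] at h
      exact F.act_inj (by omega) (by omega) (h2.trans h.symm)
    have := orb_sep ⟨n, hn⟩
    have key : ∀ n : Fin 8, ∀ r s : Fin 3, hp n.val (3 + r.val) = 3 + s.val → r = s := by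
      decide +kernel
    have := key ⟨n, hn⟩ ⟨r - 3, by omega⟩ ⟨s - 3, by omega⟩
      (by simp only; rw [Nat.add_sub_cancel' hr, Nat.add_sub_cancel' hs, h2])
    simp only [Fin.mk.injEq] at this
    omega
  -- the pointwise description
  set p0 := F.act w 3 with hp0
  set p1 := F.act w 4 with hp1
  set p2 := F.act w 5 with hp2
  have hcand : ∀ i, i < 28 → cand j p0 p1 p2 i = F.act w i := by
    intro i hi
    unfold cand
    by_cases e0 : i = 0
    · subst e0; rw [if_pos rfl, w00]
    rw [if_neg e0]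
    by_cases e1 : i = 27
    · subst e1; rw [if_pos rfl, w27]
    rw [if_neg e1]
    by_cases e2 : i < 3
    · rw [if_pos e2]
      rcases (show i = 1 ∨ i = 2 by omega) with rfl | rfl
      · exact w1.symm
      · exact w2.symm
    rw [if_neg e2]
    obtain ⟨b1, -, b3⟩ := hp_rep ⟨i, by omega⟩ (by simp only; omega)
    simp only at b1 b3
    conv_rhs => rw [← b3, hhp _ _ (by omega)]
    congr 1
    rcases (show orbOf i = 0 ∨ orbOf i = 1 ∨ orbOf i = 2 by omega) with e | e | e <;>
      simp [e, hp0, hp1, hp2]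
  -- the two tests
  have hz : zTest (cand j p0 p1 p2) = true := by
    have l2 : F.act (psi F.x F.y 1) 2 = 0 :=
      (F.act_psi (by norm_num) (by norm_num)).trans (by decide +kernel)
    have l0 : F.act (psi F.x F.y 1) 0 = 1 :=
      (F.act_psi (by norm_num) (by norm_num)).trans (by decide +kernel)
    have l27 : F.act (psi F.x F.y 1) 27 = 27 :=
      (F.act_psi (by norm_num) (by norm_num)).trans (mulI_inf 1)
    have m0 := F.act_inv (by norm_num) l2
    have m1 := F.act_inv (by norm_num) l0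
    have m27 := F.act_inv (by norm_num) l27
    obtain ⟨k, hk, ek⟩ := F.stab_act
      (g := (psi F.x F.y 1)⁻¹ * (w * psi F.x F.y 1 * w) * (psi F.x F.y 1)⁻¹ * w⁻¹)
      (by simp only [F.act_mul, i27, m0, w2, l2, w00, m27])
      (by simp only [F.act_mul, i00, m27, w27, l0, w1, m1])
    simp only [zTest, List.any_eq_true, List.all_eq_true, List.mem_range, beq_iff_eq]
    refine ⟨k, hk, fun i hi => ?_⟩
    have hmi := mulI_lt ⟨1, by norm_num⟩ ⟨i, hi⟩
    have hmw := mulI_lt ⟨1, by norm_num⟩ ⟨F.act w i, F.act_lt w i⟩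
    simp only at hmi hmw
    rw [hcand i hi, hcand _ hmw, hcand _ hmi]
    have e : w * psi F.x F.y 1 * w = psi F.x F.y 1 * (F.h ^ k * (w * psi F.x F.y 1)) := by
      rw [← ek]; group
    have h2 := congrArg (fun g => F.act g i) e
    simp only [F.act_mul] at h2
    rw [F.act_psi (by norm_num) (F.act_lt w i), F.act_psi (by norm_num) hi,
      F.act_hpow k (F.act_lt w _),
      F.act_psi (by norm_num) (hp_mod k _ ▸ hp_lt ⟨k % 8, Nat.mod_lt _ (by norm_num)⟩
        ⟨F.act w (mulI 1 i), F.act_lt w _⟩)] at h2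
    exact h2
  have hx : xTest (cand j p0 p1 p2) = true := by
    have l0 : F.act (psi F.x F.y 9) 0 = 9 :=
      (F.act_psi (by norm_num) (by norm_num)).trans (by decide +kernel)
    set u := F.act w 9 with hu
    have hu27 : u < 27 := by
      have h1 := F.act_lt w 9
      rcases Nat.lt_or_ge u 27 with h | h
      · exact h
      · have e : F.act w 9 = F.act w 0 := by rw [w00]; omega
        have := F.act_inj (by norm_num) (by norm_num) e
        omega
    set gg := w * psi F.x F.y 9 * w with hgg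
    have g27 : F.act gg 27 = u := by rw [hgg, F.act_mul, F.act_mul, w27, l0]
    set r := F.act gg⁻¹ 27 with hr
    have hgr : F.act gg r = 27 := by
      have := F.act_inv (g := gg⁻¹) (by norm_num : 27 < 28) (hr.symm)
      rwa [inv_inv] at this
    have hr27 : r < 27 := by
      have h1 := F.act_lt gg⁻¹ 27
      rcases Nat.lt_or_ge r 27 with h | h
      · exact h
      · have e : r = 27 := by omega
        rw [e, g27] at hgr
        omega
    have r0 : F.act (psi F.x F.y r) 0 = r :=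
      (F.act_psi hr27 (by norm_num)).trans (mulI_zero ⟨r, hr27⟩)
    have r27 : F.act (psi F.x F.y r) 27 = 27 :=
      (F.act_psi hr27 (by norm_num)).trans (mulI_inf r)
    have u0 : F.act (psi F.x F.y u)⁻¹ u = 0 :=
      F.act_inv (by norm_num) ((F.act_psi hu27 (by norm_num)).trans (mulI_zero ⟨u, hu27⟩))
    have u27 : F.act (psi F.x F.y u)⁻¹ 27 = 27 :=
      F.act_inv (by norm_num) ((F.act_psi hu27 (by norm_num)).trans (mulI_inf u))
    obtain ⟨k, hk, ek⟩ := F.stab_act
      (g := (psi F.x F.y u)⁻¹ * gg * psi F.x F.y r * w⁻¹)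
      (by simp only [F.act_mul, i27, r0, hgr, u27])
      (by simp only [F.act_mul, i00, r27, g27, u0])
    simp only [xTest, List.any_eq_true, List.all_eq_true, List.mem_range, beq_iff_eq]
    refine ⟨powI r 2, powI_lt ⟨r, hr27⟩ ⟨2, by norm_num⟩, k, hk, fun i hi => ?_⟩
    have hv : powI r 2 < 27 := powI_lt ⟨r, hr27⟩ ⟨2, by norm_num⟩
    have hmi := mulI_lt ⟨powI r 2, hv⟩ ⟨i, hi⟩
    have hmw := mulI_lt ⟨9, by norm_num⟩ ⟨F.act w i, F.act_lt w i⟩
    simp only at hmi hmw
    rw [hcand 9 (by norm_num), hcand i hi, hcand _ hmw, hcand _ hmi]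
    have e : gg = psi F.x F.y u * (F.h ^ k * (w * psi F.x F.y (powI r 2))) := by
      rw [F.pair.psi_inv hr27, ← ek]; group
    have h2 := congrArg (fun g => F.act g i) e
    simp only [hgg, F.act_mul] at h2
    rw [F.act_psi (by norm_num) (F.act_lt w i), F.act_psi hv hi, F.act_hpow k (F.act_lt w _),
      F.act_psi hu27 (hp_mod k _ ▸ hp_lt ⟨k % 8, Nat.mod_lt _ (by norm_num)⟩
        ⟨F.act w (mulI (powI r 2) i), F.act_lt w _⟩)] at h2
    exact h2
  -- the search
  have hin : inCoset (cand j p0 p1 p2) = true := by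
    have h := search
    simp only [List.all_eq_true, Bool.or_eq_true, beq_iff_eq, List.mem_range'_1,
      Bool.not_eq_true'] at h
    obtain ⟨a1, a2⟩ := hp3 3 le_rfl (by norm_num)
    obtain ⟨b1, b2⟩ := hp3 4 (by norm_num) (by norm_num)
    obtain ⟨c1, c2⟩ := hp3 5 (by norm_num) (by norm_num)
    rcases h j hj p0 ⟨a1, by omega⟩ p1 ⟨b1, by omega⟩ with e | h
    · exact absurd (hsep 4 3 (by norm_num) (by norm_num) le_rfl (by norm_num) e) (by norm_num)
    rcases h p2 ⟨c1, by omega⟩ with e | e | e | e | e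
    · exact absurd (hsep 5 3 (by norm_num) (by norm_num) le_rfl (by norm_num) e) (by norm_num)
    · exact absurd (hsep 5 4 (by norm_num) (by norm_num) (by norm_num) (by norm_num) e)
        (by norm_num)
    · rw [hz] at e; simp at e
    · rw [hx] at e; simp at e
    · exact e
  simp only [inCoset, List.any_eq_true, List.all_eq_true, List.mem_range, beq_iff_eq] at hin
  obtain ⟨e, -, he⟩ := hin
  refine ⟨w * (F.h ^ (2 * e))⁻¹, fun i hi => ?_⟩
  have h1 := F.act_lt (F.h ^ (2 * e))⁻¹ i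
  have h2 : F.act (F.h ^ (2 * e)) (F.act (F.h ^ (2 * e))⁻¹ i) = i := by
    rw [← F.act_mul, mul_inv_cancel, F.act_one hi]
  rw [F.act_hpow _ h1] at h2
  rw [F.act_mul, ← hcand _ h1, he _ h1, h2]

theorem Frame.phi_ext {g : G} {σ : Equiv.Perm (Fin 28)}
    (h : ∀ i : Fin 28, F.act g i.val = (σ i).val) : F.phi g = σ :=
  Equiv.ext fun i => Fin.ext ((F.act_val g i).symm.trans (h i))

theorem Frame.phi_injective [IsSimpleGroup G] : Function.Injective F.phi := by
  rw [← MonoidHom.ker_eq_bot_iff]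
  refine (F.phi.normal_ker.eq_bot_or_eq_top).resolve_right fun h => ?_
  have h1 : F.phi (psi F.x F.y 9) = 1 := MonoidHom.mem_ker.1 (h ▸ mem_top _)
  have h2 := F.act_psi (u := 9) (by norm_num) (show 0 < 28 by norm_num)
  rw [F.act_val _ ⟨0, by norm_num⟩ |>.trans (by rw [h1]; all_goals rfl), mulI_zero ⟨9, by norm_num⟩] at h2
  exact absurd h2 (by norm_num)


/-- The image is the model. -/
theorem Frame.range_phi : F.phi.range = M0 := by
  obtain ⟨g0, hg0⟩ := F.exists_w0
  refine le_antisymm ?_ ((closure_le _).2 ?_)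
  · rintro _ ⟨g, rfl⟩
    have hgenu : ∀ u, u < 27 → F.phi (psi F.x F.y u) ∈ M0 := fun u hu => subset_closure
      (Or.inl ⟨u, hu, fun i => (F.act_val _ i).symm.trans (F.act_psi hu i.2)⟩)
    have hgenh : F.phi F.h ∈ M0 := subset_closure
      (Or.inr (Or.inl fun i => (F.act_val _ i).symm.trans (F.act_h i.2)))
    have hgenw : F.phi g0 ∈ M0 := subset_closure
      (Or.inr (Or.inr fun i => (F.act_val _ i).symm.trans (hg0 _ i.2)))
    have key : ∀ g : G, F.act g 27 = 27 → F.phi g ∈ M0 := by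
      intro g hg
      have hlt := F.act_lt g 0
      have hu : F.act g 0 < 27 := by
        rcases Nat.lt_or_ge (F.act g 0) 27 with h | h
        · exact h
        · have := F.act_inj (g := g) (show 0 < 28 by norm_num) (show 27 < 28 by norm_num)
            (by omega)
          omega
      have a1 := F.act_inv (by norm_num) ((F.act_psi hu (by norm_num)).trans (mulI_inf _))
      have a2 := F.act_inv (by norm_num)
        ((F.act_psi hu (by norm_num)).trans (mulI_zero ⟨_, hu⟩))
      obtain ⟨k, -, ek⟩ := F.stab_act (g := (psi F.x F.y (F.act g 0))⁻¹ * g)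
        (by rw [F.act_mul, hg, a1]) (by rw [F.act_mul]; exact a2)
      rw [← mul_inv_cancel_left (psi F.x F.y (F.act g 0)) g, ek, map_mul, map_pow]
      exact mul_mem (hgenu _ hu) (pow_mem hgenh k)
    by_cases h : F.act g 27 = 27
    · exact key g h
    · have hlt := F.act_lt g 27
      have ha : F.act g 27 < 27 := by omega
      have a2 := F.act_inv (by norm_num)
        ((F.act_psi ha (by norm_num)).trans (mulI_zero ⟨_, ha⟩))
      have h27 : F.act (g0 * (psi F.x F.y (F.act g 27))⁻¹ * g) 27 = 27 := by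
        rw [F.act_mul, F.act_mul, a2, hg0 0 (by norm_num)]
        decide +kernel
      have h3 := key _ h27
      rw [map_mul, map_mul, map_inv] at h3
      have h4 := mul_mem (mul_mem (hgenu _ ha) (inv_mem hgenw)) h3
      rwa [show F.phi (psi F.x F.y (F.act g 27)) * (F.phi g0)⁻¹ *
        (F.phi g0 * (F.phi (psi F.x F.y (F.act g 27)))⁻¹ * F.phi g) = F.phi g by group] at h4
  · rintro σ (⟨u, hu, e⟩ | e | e)
    · exact ⟨psi F.x F.y u, F.phi_ext fun i => (F.act_psi hu i.2).trans (e i).symm⟩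
    · exact ⟨F.h, F.phi_ext fun i => (F.act_h i.2).trans (e i).symm⟩
    · exact ⟨g0, F.phi_ext fun i => (hg0 _ i.2).trans (e i).symm⟩

end Cfsg.Agent.U33Rec
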