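import Cfsg.Agent.SmallOrder.Order5616.Block
import Cfsg.Agent.SmallOrder.Rational

/-!
The principal block at seven of a simple group in which an element of order seven is self
centralising.
-/

set_option autoImplicit false
set_option maxRecDepth 4000
set_option synthInstance.maxSize 5000
set_option linter.unusedSectionVars false

namespace Cfsg.Agent.U33Rec

open Subgroup Cfsg.Agent.Blocks
open scoped ComplexConjugate

universe u

/-- The principal block at seven. -/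
structure Seven (G : Type u) [Group G] [Fintype G] (m e : ℕ) where
  z : G
  hz : orderOf z = 7
  hzC : Nat.card (centralizer ({z} : Set G)) = 7
  hN : Nat.card (normalizer ((zpowers z : Subgroup G) : Set G)) = 7 * e
  hgen : ∃ y ∈ normalizer ((zpowers z : Subgroup G) : Set G),
    ∀ j : ℕ, y ^ j ∈ centralizer ({z} : Set G) ↔ e ∣ j
  X : Finset (IrrCharacter G)
  Y : Finset (IrrCharacter G)
  a : IrrCharacter G → ℤ
  s : ℤ
  hdisj : Disjoint X Y
  hXc : X.card = e
  hYc : Y.card = 6 / e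
  hs : s = 1 ∨ s = -1
  htriv : triv G ∈ X ∨ triv G ∈ Y
  ha : ∀ χ ∈ X, a χ = 1 ∨ a χ = -1
  hXd : ∀ χ ∈ X, (charDegree (χ : G → ℂ) : ℤ) % 7 = a χ % 7
  hXz : ∀ χ ∈ X, (χ : G → ℂ) z = (a χ : ℂ)
  hYd : ∀ θ ∈ Y, (charDegree (θ : G → ℂ) : ℤ) % 7 = -((e : ℤ) * s) % 7
  hYeq : ∀ θ ∈ Y, ∀ θ' ∈ Y, ∀ g : G, ¬ 7 ∣ orderOf g → (θ : G → ℂ) g = (θ' : G → ℂ) g
  hrel : ∀ θ ∈ Y, ∀ g : G, ¬ 7 ∣ orderOf g →
    (s : ℂ) * (θ : G → ℂ) g + ∑ χ ∈ X, (a χ : ℂ) * (χ : G → ℂ) g = 0
  hout : ∀ χ : IrrCharacter G, χ ∉ X → χ ∉ Y → (χ : G → ℂ) z = 0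
  hbound : ∀ χ : IrrCharacter G, χ ∈ X ∨ χ ∈ Y → χ ≠ triv G →
    2 ≤ charDegree (χ : G → ℂ) ∧
      charDegree (χ : G → ℂ) * charDegree (χ : G → ℂ) < Nat.card G ∧
      charDegree (χ : G → ℂ) ∣ m

theorem dvd_six_cases : ∀ e : ℕ, e < 7 → e ∣ 6 → e = 1 ∨ e = 2 ∨ e = 3 ∨ e = 6 := by decide

variable {G : Type u} [Group G] [Fintype G]

theorem charDegree_one (χ : IrrCharacter G) :
    (χ : G → ℂ) 1 = (charDegree (χ : G → ℂ) : ℂ) :=
  (charDegree_cast (Char.IsIrr.isCharacter χ.2)).symm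

theorem charDegree_triv : charDegree ((triv G : IrrCharacter G) : G → ℂ) = 1 :=
  charDegree_eq (by show (1 : ℂ) = _; simp)

theorem triv_apply (g : G) : ((triv G : IrrCharacter G) : G → ℂ) g = 1 := rfl

theorem ne_one_of_ne_triv {χ : IrrCharacter G} (h : χ ≠ triv G) : (χ : G → ℂ) ≠ fun _ => 1 :=
  fun e => h (Subtype.ext e)

variable [IsSimpleGroup G]

/-- The block exists; `e` is determined by Sylow's congruence. -/
theorem exists_seven (hna : ¬ IsMulCommutative G) {m e₀ : ℕ} (h : Nat.card G = 7 * m)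
    (hm : ¬ 7 ∣ m) (hC : ∀ x : G, orderOf x = 7 → Nat.card (centralizer ({x} : Set G)) = 7)
    (he₀ : ∀ e, (e = 1 ∨ e = 2 ∨ e = 3 ∨ e = 6) → e ∣ m → m / e % 7 = 1 → e = e₀) :
    Nonempty (Seven G m e₀) := by
  classical
  have : Fact (Nat.Prime 7) := ⟨by norm_num⟩
  obtain ⟨P⟩ : Nonempty (Sylow 7 G) := Sylow.nonempty
  have hPc := (SmallOrder.card_sylow_eq_pow (a := 1) (m := m) (by rw [h]; norm_num) hm P).trans
    (pow_one 7)
  obtain ⟨e, he⟩ : ∃ e, (centralizer (P : Set G)).relIndex (normalizer (P : Set G)) = e := ⟨_, rfl⟩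
  have hS : BlockThms.OrderP.Setup P e := ⟨hPc, he⟩
  obtain ⟨z, hz, hz1, hzo⟩ := hS.exists_gen
  have hCP : Nat.card (centralizer (P : Set G)) = 7 := by
    rw [← hS.centralizer_eq hz hz1]; exact hC z hzo
  have hN : Nat.card (normalizer (P : Set G)) = 7 * e := by
    rw [hS.card_normalizer, hCP, mul_comm]
  obtain ⟨hdvd, y, hy, -, hye, -⟩ := hS.exists_y
  have hee : e = e₀ := by
    have h1 := SmallOrder.card_sylow_mul_card_normalizer P
    rw [show normalizer ((P : Subgroup G) : Set G) = normalizer (P : Set G) from rfl, hN, h] at h1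
    have h2 : Nat.card (Sylow 7 G) * e = m := by
      refine Nat.eq_of_mul_eq_mul_left (by norm_num : 0 < 7) ?_
      rw [← h1]; ring
    have h3 := SmallOrder.card_sylow_mod (G := G) 7
    refine he₀ e (dvd_six_cases e (by have := Nat.le_of_dvd (by norm_num) hdvd; omega) hdvd)
      ⟨_, by rw [← h2]; ring⟩ ?_
    rw [← h2, Nat.mul_div_cancel _ hS.e_pos, h3]
  subst hee
  obtain ⟨M, hM⟩ := Blocks.exists_isPModular 7 (Fact.out : Nat.Prime 7)
  obtain ⟨X, Y, a, s, hdisj, hXc, hYc, hmem, hs, hX, hY, hYeq, hrel⟩ := hS.principal_structure hM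
  have hzP : (zpowers z : Subgroup G) = (P : Subgroup G) := hS.zpowers_eq hz hz1
  refine ⟨{
    z := z, hz := hzo, hzC := hC z hzo,
    hN := by rw [hzP]; exact hN
    hgen := ⟨y, by rw [hzP]; exact hy, fun j => by rw [hS.centralizer_eq hz hz1]; exact hye j⟩
    X := X, Y := Y, a := a, s := s, hdisj := hdisj, hXc := hXc, hYc := hYc, hs := hs
    htriv := (hmem _).1 (triv_mem_principalBlock hM)
    ha := fun χ hχ => (hX χ hχ).1
    hXd := fun χ hχ => (hX χ hχ).2.1
    hXz := fun χ hχ => ?_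
    hYd := hY
    hYeq := hYeq
    hrel := hrel
    hout := fun χ hχX hχY => ?_
    hbound := fun χ hχ hne => ?_ }⟩
  · have h1 := (hX χ hχ).2.2 z hz hz1 1 (one_mem _) (by simp)
    rwa [mul_one] at h1
  · have hχ : χ ∉ Cfsg.principalBlock M G := fun hb => ((hmem χ).1 hb).elim hχX hχY
    have h1 := hS.card_fiber hz hz1
    rw [hS.centralizer_eq hz hz1, hCP] at h1
    have h2 : (BlockThms.OrderP.fiber 7 z).card = 1 :=
      Nat.eq_of_mul_eq_mul_right (by norm_num) (h1.trans (one_mul 7).symm)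
    obtain ⟨w, hw⟩ := Finset.card_eq_one.1 h2
    have h4 := BlockThms.OrderP.self_mem_fiber (p := 7) (P := P) hz
    rw [hw, Finset.mem_singleton] at h4
    have h0 := hS.avg_eq_zero hM hz hz1 hχ
    rw [BlockThms.OrderP.avg, hw, Finset.card_singleton, Finset.sum_singleton, Nat.cast_one,
      inv_one, one_mul, ← h4] at h0
    exact h0
  · obtain ⟨h1, h2, -⟩ := SmallOrder.degree_facts hna χ (ne_one_of_ne_triv hne)
    refine ⟨h1, h2, ?_⟩
    have h3 : charDegree (χ : G → ℂ) ∣ 7 * m := by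
      rw [← h]; exact Char.IsIrr.degree_dvd_card χ.2 (charDegree_one χ)
    exact (((Fact.out : Nat.Prime 7).coprime_iff_not_dvd.2
      (hS.not_dvd_degree hM ((hmem χ).2 hχ))).symm).dvd_of_dvd_mul_left h3

omit [IsSimpleGroup G] in
/-- A sum over all characters with the factor `χ z` lives on the block. -/
theorem Seven.sum_eq {m e : ℕ} (S : Seven G m e) (f : IrrCharacter G → ℂ)
    (hf : ∀ χ : IrrCharacter G, (χ : G → ℂ) S.z = 0 → f χ = 0) :
    ∑ χ, f χ = ∑ χ ∈ S.X, f χ + ∑ χ ∈ S.Y, f χ := by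
  classical
  rw [← Finset.sum_union S.hdisj]
  refine (Finset.sum_subset (Finset.subset_univ _) fun χ _ hn => hf χ (S.hout χ ?_ ?_)).symm
  · exact fun h => hn (Finset.mem_union_left _ h)
  · exact fun h => hn (Finset.mem_union_right _ h)

omit [IsSimpleGroup G] in
theorem Seven.isConj_zpow {m e : ℕ} (S : Seven G m e) : ¬ IsConj S.z (1 : G) := fun h => by
  have h1 := S.hz
  rw [isConj_one_left.1 h, orderOf_one] at h1
  norm_num at h1

omit [IsSimpleGroup G] in
theorem Seven.orth_one {m e : ℕ} (S : Seven G m e) :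
    ∑ χ ∈ S.X, (χ : G → ℂ) S.z * (charDegree (χ : G → ℂ) : ℂ) +
      ∑ χ ∈ S.Y, (χ : G → ℂ) S.z * (charDegree (χ : G → ℂ) : ℂ) = 0 := by
  have h1 := Char.second_orthogonality S.z (1 : G)
  rw [if_neg S.isConj_zpow, S.sum_eq _ fun χ h => by rw [h, zero_mul]] at h1
  simpa only [charDegree_one, Complex.conj_natCast] using h1

omit [IsSimpleGroup G] in
theorem Seven.orth_self {m e : ℕ} (S : Seven G m e) :
    ∑ χ ∈ S.X, (χ : G → ℂ) S.z * conj ((χ : G → ℂ) S.z) +
      ∑ χ ∈ S.Y, (χ : G → ℂ) S.z * conj ((χ : G → ℂ) S.z) = 7 := by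
  have h1 := Char.second_orthogonality S.z S.z
  rw [if_pos (IsConj.refl _), S.hzC, S.sum_eq _ fun χ h => by rw [h, zero_mul]] at h1
  simpa using h1

omit [IsSimpleGroup G] in
/-- A conjugate of an involution times `z` is an involution only if the conjugate inverts `z`. -/
theorem inverts_of_isConj_mul {t : G} (ht : orderOf t = 2) {b z : G} {w : G} (hw : orderOf w = 2)
    (h : IsConj (b * t * b⁻¹ * z) w) :
    (b * t * b⁻¹) * z * (b * t * b⁻¹)⁻¹ = z⁻¹ := by
  obtain ⟨c, hc⟩ := isConj_iff.1 h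
  set u := b * t * b⁻¹
  have hsq : ∀ g : G, orderOf g = 2 → g * g = 1 := fun g hg => by
    have := pow_orderOf_eq_one g
    rwa [hg, sq] at this
  have huu : u * u = 1 := hsq u (by
    show orderOf (b * t * b⁻¹) = 2
    rw [show b * t * b⁻¹ = MulAut.conj b t from rfl, MulEquiv.orderOf_eq, ht])
  have h1 : (u * z) * (u * z) = 1 := by
    have h2 : u * z = c⁻¹ * w * c := by rw [← hc]; group
    rw [h2, show c⁻¹ * w * c * (c⁻¹ * w * c) = c⁻¹ * (w * w) * c by group, hsq w hw]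
    group
  rw [inv_eq_of_mul_eq_one_right huu]
  exact eq_inv_of_mul_eq_one_left (by rw [← h1]; group)

end Cfsg.Agent.U33Rec
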