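import Cfsg.Agent.U33Rec.Block

/-!
The class multiplication formula with the count of the solutions left explicit.
-/

set_option autoImplicit false
set_option linter.unusedSectionVars false

namespace Cfsg.Agent.U33Rec

open Subgroup
open scoped ComplexConjugate

universe u

variable {G : Type u} [Group G] [Fintype G]

/-- The class multiplication formula. -/
theorem mult_card (x y w : G) :
    (Nat.card G : ℂ) * ∑ χ : IrrCharacter G,
        (χ : G → ℂ) x * (χ : G → ℂ) y * conj ((χ : G → ℂ) w) / (χ : G → ℂ) 1 =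
      (Nat.card (centralizer ({w} : Set G)) : ℂ) *
        (Nat.card {a : G // IsConj (a * x * a⁻¹ * y) w} : ℂ) := by
  classical
  have e : ∀ χ : IrrCharacter G,
      (Nat.card G : ℂ) * ((χ : G → ℂ) x * (χ : G → ℂ) y * conj ((χ : G → ℂ) w) / (χ : G → ℂ) 1) =
        ∑ a, (χ : G → ℂ) (a * x * a⁻¹ * y) * conj ((χ : G → ℂ) w) := fun χ => by
    have h := CharArith.classMult χ.2 x y
    have h1 := Char.IsIrr.one_ne_zero χ.2
    rw [← Finset.sum_mul]
    field_simp
    linear_combination -(conj ((χ : G → ℂ) w)) * h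
  rw [Finset.mul_sum, Finset.sum_congr rfl fun χ _ => e χ, Finset.sum_comm]
  have hrow : ∀ a : G, ∑ χ : IrrCharacter G, (χ : G → ℂ) (a * x * a⁻¹ * y) * conj ((χ : G → ℂ) w) =
      if IsConj (a * x * a⁻¹ * y) w then (Nat.card (centralizer ({w} : Set G)) : ℂ) else 0 := by
    intro a
    split_ifs with h
    · have h2 := Char.second_orthogonality w w
      rw [if_pos (IsConj.refl w)] at h2
      rw [← h2]
      refine Finset.sum_congr rfl fun χ _ => ?_
      congr 1
      obtain ⟨c, hc⟩ := isConj_iff.1 h
      rw [← hc]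
      exact (Char.isClassFunction_of_isIrr χ.2 _ _).symm
    · rw [Char.second_orthogonality, if_neg h]
  rw [Finset.sum_congr rfl fun a _ => hrow a, ← Finset.sum_filter, Finset.sum_const, nsmul_eq_mul,
    mul_comm]
  congr 2
  rw [Nat.card_eq_fintype_card, Fintype.card_subtype]

/-- The value at an involution of a nontrivial irreducible character is smaller than the degree. -/
theorem natAbs_lt_degree [IsSimpleGroup G] (hna : ¬ IsMulCommutative G) (χ : IrrCharacter G)
    (hne : χ ≠ Blocks.triv G) {t : G} (ht : t ≠ 1) {v : ℤ} (hv : (χ : G → ℂ) t = v) :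
    v.natAbs < charDegree (χ : G → ℂ) := by
  classical
  have hc := Char.IsIrr.isCharacter χ.2
  obtain ⟨hd, -, hker⟩ := SmallOrder.degree_facts hna χ (ne_one_of_ne_triv hne)
  refine lt_of_le_of_ne (SmallOrder.natAbs_apply_le hc (charDegree_one χ) hv) fun he => ?_
  rcases Int.natAbs_eq v with e | e <;> rw [he] at e
  · exact ht (hker t (by rw [hv, charDegree_one, e]; norm_cast))
  -- the square of the character has `t` in its kernel
  have hsq := Char.isCharacter_mul hc hc
  have hone : ((χ : G → ℂ) * (χ : G → ℂ)) t = ((χ : G → ℂ) * (χ : G → ℂ)) 1 := by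
    simp only [Pi.mul_apply, hv, charDegree_one, e]
    push_cast
    ring
  rcases (inferInstance : (Char.kerSubgroup hsq).Normal).eq_bot_or_eq_top with h | h
  · exact ht (mem_bot.1 (h ▸ (Char.mem_kerSubgroup hsq).2 hone))
  · have h1 := Char.classInner_irr_self χ.2
    have habs : ∀ g : G, (χ : G → ℂ) g * conj ((χ : G → ℂ) g) =
        ((charDegree (χ : G → ℂ) : ℕ) : ℂ) * ((charDegree (χ : G → ℂ) : ℕ) : ℂ) := fun g => by
      have h2 := (Char.mem_kerSubgroup hsq).1 (h ▸ mem_top g)
      simp only [Pi.mul_apply, charDegree_one] at h2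
      have h3 : ((χ : G → ℂ) g - (charDegree (χ : G → ℂ) : ℂ)) *
          ((χ : G → ℂ) g + (charDegree (χ : G → ℂ) : ℂ)) = 0 := by linear_combination h2
      rcases mul_eq_zero.1 h3 with h4 | h4
      · rw [sub_eq_zero.1 h4, Complex.conj_natCast]
      · rw [eq_neg_of_add_eq_zero_left h4, map_neg, Complex.conj_natCast, neg_mul_neg]
    simp only [Cfsg.classInner, habs, Finset.sum_const, Finset.card_univ, nsmul_eq_mul,
      ← Nat.card_eq_fintype_card, ← mul_assoc] at h1
    rw [inv_mul_cancel₀ Char.card_ne_zero, one_mul] at h1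
    have h5 : charDegree (χ : G → ℂ) * charDegree (χ : G → ℂ) = 1 := by exact_mod_cast h1
    nlinarith

end Cfsg.Agent.U33Rec
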