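import Cfsg.Agent.U33Rec.Count

/-!
Characters at elements of order three, and their sums over subgroups.
-/

set_option autoImplicit false
set_option linter.unusedSectionVars false

namespace Cfsg.Agent.U33Rec

open Subgroup
open scoped ComplexConjugate

universe u

theorem exists_cube_root :
    ∃ ω : ℂ, ω * ω + ω + 1 = 0 ∧ ω ≠ ω * ω ∧ conj ω = ω * ω ∧
      ∀ μ : ℂ, μ ^ 3 = 1 → μ = 1 ∨ μ = ω ∨ μ = ω * ω := by
  have hprim : IsPrimitiveRoot (Complex.exp (2 * Real.pi * Complex.I / (3 : ℕ))) 3 :=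
    Complex.isPrimitiveRoot_exp 3 (by norm_num)
  generalize Complex.exp (2 * Real.pi * Complex.I / (3 : ℕ)) = ω at hprim
  have h1 : ω ≠ 1 := hprim.ne_one (by norm_num)
  have h3 : ω ^ 3 = 1 := hprim.pow_eq_one
  have hsum : ω * ω + ω + 1 = 0 := by
    have h : (ω - 1) * (ω * ω + ω + 1) = 0 := by linear_combination h3
    exact (mul_eq_zero.1 h).resolve_left (sub_ne_zero.2 h1)
  refine ⟨ω, hsum, ?_, ?_, fun μ hμ => ?_⟩
  · intro e
    apply h1
    linear_combination h3 + (1 + ω) * e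
  · have hn := Complex.norm_eq_one_of_pow_eq_one h3 (by norm_num)
    rw [← Complex.inv_eq_conj hn]
    refine inv_eq_of_mul_eq_one_right ?_
    linear_combination h3
  · obtain ⟨i, hi, rfl⟩ := hprim.eq_pow_of_pow_eq_one hμ
    interval_cases i
    · exact Or.inl (pow_zero ω)
    · exact Or.inr (Or.inl (pow_one ω))
    · exact Or.inr (Or.inr (sq ω))

variable {G : Type u} [Group G]

/-- The value of a character of degree `d` at an element of order three: the numbers of the two
nontrivial eigenvalues. -/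
theorem value_order_three [Finite G] {χ : G → ℂ} (h : IsCharacter G χ) {d : ℕ} (hd : χ 1 = d)
    {v : G} (hv : orderOf v = 3) :
    ∃ n₁ n₂ : ℕ, n₁ + n₂ ≤ d ∧
      χ v + conj (χ v) = ((2 * d - 3 * n₁ - 3 * n₂ : ℤ) : ℂ) ∧
      χ v * conj (χ v) =
        ((((d : ℤ) - n₁ - n₂) ^ 2 + (n₁ : ℤ) ^ 2 + (n₂ : ℤ) ^ 2 -
          ((d : ℤ) - n₁ - n₂) * n₁ - ((d : ℤ) - n₁ - n₂) * n₂ - (n₁ : ℤ) * n₂ : ℤ) : ℂ) ∧
      (n₁ = n₂ → χ v = (((d : ℤ) - 3 * n₁ : ℤ) : ℂ)) ∧ (conj (χ v) = χ v → n₁ = n₂) := by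
  classical
  obtain ⟨ω, hs, hne, hconj, hroots⟩ := exists_cube_root
  obtain ⟨n, ρ, rfl⟩ := h
  obtain ⟨μ, -, -, hμ, hval⟩ := Char.exists_eigenbasis ρ v
  rw [hv] at hμ
  have hdn : Module.finrank ℂ (Fin n → ℂ) = d := by
    rw [ρ.char_one] at hd; exact_mod_cast hd
  set a := (Finset.univ.filter fun i => μ i = ω).card with ha
  set b := (Finset.univ.filter fun i => μ i = ω * ω).card with hb
  have hω1 : ω ≠ 1 := fun e => by rw [e] at hne; norm_num at hne
  have hω2 : ω * ω ≠ 1 := fun e => by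
    apply hne
    have h3 : ω * ω * ω = 1 := by linear_combination (ω - 1) * hs
    rw [e, one_mul] at h3
    rw [e, h3]
  set c := (Finset.univ.filter fun i => μ i = 1).card with hc
  have hdec : ∀ f : ℂ → ℂ, ∑ i, f (μ i) = (c : ℂ) * f 1 + ((a : ℂ) * f ω + (b : ℂ) * f (ω * ω)) := by
    intro f
    rw [← Finset.sum_fiberwise_of_maps_to (g := μ) (t := ({1, ω, ω * ω} : Finset ℂ))
      (fun i _ => by simpa using hroots _ (hμ i))]
    rw [Finset.sum_congr rfl (g := fun x => ((Finset.univ.filter fun i => μ i = x).card : ℂ) * f x)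
      fun x _ => by
        rw [Finset.sum_congr rfl (g := fun _ => f x) fun i hi => by rw [(Finset.mem_filter.1 hi).2],
          Finset.sum_const, nsmul_eq_mul]]
    rw [Finset.sum_insert (by simp [hω1.symm, hω2.symm]), Finset.sum_pair hne]
  have hcd : (c : ℂ) = ((d : ℤ) - a - b : ℤ) := by
    have h1 := hdec fun _ => 1
    simp only [Finset.sum_const, Finset.card_univ, Fintype.card_fin, hdn, nsmul_eq_mul,
      mul_one] at h1
    push_cast
    linear_combination -h1
  have hab : a + b ≤ d := by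
    have h1 : (c : ℤ) = (d : ℤ) - a - b := by exact_mod_cast hcd
    omega
  have hχ : ρ.character v = (((d : ℤ) - a - b : ℤ) : ℂ) + (a : ℂ) * ω + (b : ℂ) * (ω * ω) := by
    rw [hval, hdec (fun x => x), hcd]; ring
  have hcw : conj (ω * ω) = ω := by
    rw [map_mul, hconj]
    linear_combination (ω * ω - ω) * hs
  have hχc : conj (ρ.character v) =
      (((d : ℤ) - a - b : ℤ) : ℂ) + (a : ℂ) * (ω * ω) + (b : ℂ) * ω := by
    simp only [hχ, map_add, map_mul (starRingEnd ℂ) (a : ℂ), map_mul (starRingEnd ℂ) (b : ℂ),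
      Complex.conj_natCast, map_intCast, hconj, hcw]
  refine ⟨a, b, hab, ?_, ?_, ?_, ?_⟩
  · rw [hχc, hχ]; push_cast
    linear_combination ((a : ℂ) + b) * hs
  · rw [hχc, hχ]; push_cast
    linear_combination ((((d : ℂ) - a - b) * a + ((d : ℂ) - a - b) * b + (a : ℂ) * b) +
      ((a : ℂ) * a + (b : ℂ) * b) * (ω - 1) + (a : ℂ) * b * (ω * ω - ω)) * hs
  · intro e
    rw [hχ, e]; push_cast
    linear_combination (b : ℂ) * hs
  · intro e
    rw [hχ] at hχc
    rw [hχ, hχc] at e
    have h1 : ((a : ℂ) - b) * (ω - ω * ω) = 0 := by linear_combination -e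
    exact_mod_cast sub_eq_zero.1 ((mul_eq_zero.1 h1).resolve_right (sub_ne_zero.2 hne))

/-- The sum of a character over a subgroup is a multiple of the order. -/
theorem sum_subgroup [Finite G] {χ : G → ℂ} (h : IsCharacter G χ) (K : Subgroup G) [Fintype K] :
    ∃ k : ℕ, ∑ x : K, χ (x : G) = ((Nat.card K * k : ℕ) : ℂ) := by
  obtain ⟨k, hk⟩ := Char.classInner_isCharacter_eq_natCast (Char.isCharacter_res K h)
    (Char.isCharacter_one (G := K))
  refine ⟨k, ?_⟩
  simp only [Cfsg.classInner, map_one, mul_one] at hk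
  rw [inv_mul_eq_iff_eq_mul₀ Char.card_ne_zero] at hk
  rw [hk, Nat.cast_mul]

/-- The conjugate of an irreducible character. -/
theorem isIrr_conj [Fintype G] {χ : G → ℂ} (h : IsIrrCharacter G χ) :
    IsIrrCharacter G fun g => conj (χ g) := by
  refine (Char.isIrr_iff_norm_one (Char.isCharacter_conj (Char.IsIrr.isCharacter h))).2 ?_
  have h1 := Char.classInner_irr_self h
  simp only [Cfsg.classInner, Complex.conj_conj] at h1 ⊢
  rw [← h1]
  congr 1
  exact Finset.sum_congr rfl fun g _ => mul_comm _ _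

end Cfsg.Agent.U33Rec
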