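import Cfsg.Agent.U33Rec.Inverting
import Cfsg.Agent.U33Rec.OrderThree
import Cfsg.Agent.U33Rec.ExcludeData
import Cfsg.Agent.SmallOrder.Parity
import Cfsg.Agent.BlockThms.DefectZero

/-!
The degrees in the principal block at seven of a simple group of order 6048.
-/

set_option autoImplicit false
set_option linter.unusedSectionVars false
set_option maxRecDepth 4000
set_option synthInstance.maxSize 5000

namespace Cfsg.Agent.U33Rec

open Subgroup Cfsg.Agent.Blocks
open scoped ComplexConjugate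

universe u

theorem sdeg_check6 : ∀ d < 78, 2 ≤ d → d ∣ 864 →
    (d % 7 = 1 → d = 8 ∨ d = 36) ∧ (d % 7 = 6 → d = 6 ∨ d = 27 ∨ d = 48) := by
  decide +kernel

theorem option_check :
    ((([8, 36, -6, -27, -48] : List ℤ)).all fun p => (([8, 36, -6, -27, -48] : List ℤ)).all fun q =>
      ([1, -1] : List ℤ).all fun s => (List.range 56).all fun c =>
        !(1 + p + q + s * (c : ℤ) == 0 && ((c : ℤ) + 3 * s) % 7 == 0 &&
            decide (1 + p * p + q * q + 2 * ((c : ℤ) * c) ≤ 6048) && 864 % c == 0 && 2 ≤ c) ||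
          ((p == -6 && q == -27 || p == -27 && q == -6) && s == 1 && c == 32 ||
            ((p == 8 && q == -6 || p == -6 && q == 8) && s == -1 && c == 3 ||
              (p == 8 && q == -27 || p == -27 && q == 8) && s == 1 && c == 18))) = true := by
  decide +kernel

theorem eighteen_check :
    ((valList 8).all fun x => (valList 27).all fun y =>
      !((valList 18).elem (y - x - 1)) ||
        !(216 + 27 * x * x - 8 * y * y + 12 * (y - x - 1) * (y - x - 1) == 0)) = true := by
  decide +kernel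

/-- The character of degree six and its class multiplication sums at elements of order three. -/
structure Six (G : Type u) [Group G] [Fintype G] where
  z : G
  A : IrrCharacter G
  hA1 : (A : G → ℂ) 1 = ((6 : ℕ) : ℂ)
  hform : ∀ g w : G, orderOf g = 3 → orderOf w = 3 →
    63 * (99 - 13 * ((A : G → ℂ) g * conj ((A : G → ℂ) w)) - 3 * (A : G → ℂ) g -
        3 * conj ((A : G → ℂ) w)) =
      (Nat.card (centralizer ({w} : Set G)) : ℂ) *
        (Nat.card {a : G // IsConj (a * g * a⁻¹ * z) w} : ℂ)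

variable {G : Type u} [Group G] [Fintype G] [IsSimpleGroup G]

omit [IsSimpleGroup G] in
/-- A character of degree three cannot take the value zero on all nontrivial elements of a
subgroup of order twenty-seven. -/
theorem not_vanish_twentyseven {χ : G → ℂ} (h : IsCharacter G χ) (h1 : χ 1 = 3) {K : Subgroup G}
    (hK : Nat.card K = 27) (hv : ∀ x ∈ K, x ≠ 1 → χ x = 0) : False := by
  classical
  obtain ⟨k, hk⟩ := sum_subgroup h K
  rw [Finset.sum_eq_single_of_mem (1 : K) (Finset.mem_univ _)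
    (fun x _ hx => hv x x.2 fun e => hx (Subtype.ext e)), OneMemClass.coe_one, h1, hK] at hk
  have : 3 = 27 * k := by exact_mod_cast hk
  omega

/-- A simple group of order 6048 without elements of order nine in which elements of order seven
are self centralising has the character of degree six. -/
theorem exists_six (hna : ¬ IsMulCommutative G) (h : Nat.card G = 6048)
    (hC : ∀ x : G, orderOf x = 7 → Nat.card (centralizer ({x} : Set G)) = 7)
    (h9 : ∀ x : G, orderOf x ≠ 9) : Nonempty (Six G) := by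
  classical
  obtain ⟨S⟩ := exists_seven hna (m := 864) (e₀ := 3) (by rw [h]) (by norm_num) hC
    (by rintro e (rfl | rfl | rfl | rfl) <;> norm_num)
  have htX : triv G ∈ S.X := by
    refine S.htriv.resolve_right fun hy => ?_
    have h1 := S.hYd _ hy
    rw [charDegree_triv] at h1
    rcases S.hs with e | e <;> rw [e] at h1 <;> norm_num at h1
  have hta : S.a (triv G) = 1 := by
    have h1 := S.hXz _ htX
    rw [triv_apply] at h1
    exact_mod_cast h1.symm
  obtain ⟨d, hd⟩ : ∃ d : IrrCharacter G → ℕ,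
      ∀ χ : IrrCharacter G, charDegree (χ : G → ℂ) = d χ := ⟨_, fun _ => rfl⟩
  have hd1 : ∀ χ : IrrCharacter G, (χ : G → ℂ) 1 = (d χ : ℂ) := fun χ => by
    rw [charDegree_one, hd]
  obtain ⟨p, q, hpq, hXe⟩ := Finset.card_eq_two.1
    (show (S.X.erase (triv G)).card = 2 by rw [Finset.card_erase_of_mem htX, S.hXc])
  obtain ⟨θ, θ', hθθ, hYe⟩ := Finset.card_eq_two.1 (show S.Y.card = 2 by rw [S.hYc])
  have hp : p ∈ S.X ∧ p ≠ triv G := by
    have : p ∈ S.X.erase (triv G) := by rw [hXe]; simp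
    exact ⟨Finset.mem_of_mem_erase this, Finset.ne_of_mem_erase this⟩
  have hq : q ∈ S.X ∧ q ≠ triv G := by
    have : q ∈ S.X.erase (triv G) := by rw [hXe]; simp
    exact ⟨Finset.mem_of_mem_erase this, Finset.ne_of_mem_erase this⟩
  have hθ : θ ∈ S.Y := by rw [hYe]; simp
  have hθ' : θ' ∈ S.Y := by rw [hYe]; simp
  have hθne : θ ≠ triv G := fun e => Finset.disjoint_left.1 S.hdisj htX (e ▸ hθ)
  have hXsum : ∀ f : IrrCharacter G → ℂ, ∑ χ ∈ S.X, f χ = f (triv G) + (f p + f q) := fun f => by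
    rw [← Finset.add_sum_erase _ _ htX, hXe, Finset.sum_pair hpq]
  have hYsum : ∀ f : IrrCharacter G → ℂ, ∑ χ ∈ S.Y, f χ = f θ + f θ' := fun f => by
    rw [hYe, Finset.sum_pair hθθ]
  have hrel : ∀ g : G, ¬ 7 ∣ orderOf g →
      (S.s : ℂ) * (θ : G → ℂ) g + (1 + ((S.a p : ℂ) * (p : G → ℂ) g +
        (S.a q : ℂ) * (q : G → ℂ) g)) = 0 := fun g hg => by
    have h1 := S.hrel θ hθ g hg
    rw [hXsum, hta, triv_apply] at h1
    push_cast at h1
    linear_combination h1
  have hdθ : d θ' = d θ := by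
    have h1 := S.hYeq θ' hθ' θ hθ 1 (by simp)
    rw [hd1, hd1] at h1
    exact_mod_cast h1
  -- the options
  have hDmem : ∀ {χ : IrrCharacter G}, χ ∈ S.X → χ ≠ triv G →
      S.a χ * (d χ : ℤ) ∈ ([8, 36, -6, -27, -48] : List ℤ) := by
    intro χ hχ hne
    obtain ⟨h1, h2, h3⟩ := S.hbound χ (Or.inl hχ) hne
    have h7 := S.hXd χ hχ
    rw [hd] at h1 h2 h3 h7
    rw [h] at h2
    obtain ⟨c1, c2⟩ := sdeg_check6 _ (by nlinarith) h1 h3
    rcases S.ha χ hχ with e | e <;> rw [e] at h7 ⊢
    · rcases c1 (by omega) with k | k <;> simp [k]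
    · rcases c2 (by omega) with k | k | k <;> simp [k]
  obtain ⟨hc1, hc2, hc3⟩ := S.hbound θ (Or.inr hθ) hθne
  rw [hd] at hc1 hc2 hc3
  have hsq : 1 + d p * d p + d q * d q + 2 * (d θ * d θ) ≤ 6048 := by
    have h1 := Char.sum_sq_degree (G := G)
    simp only [hd1] at h1
    have h4 : ∑ χ : IrrCharacter G, d χ ^ 2 = 6048 := by rw [← h]; exact_mod_cast h1
    have h5 := Finset.sum_le_sum_of_subset (f := fun χ : IrrCharacter G => d χ ^ 2)
      (Finset.subset_univ (S.X ∪ S.Y))
    rw [Finset.sum_union S.hdisj, ← Finset.add_sum_erase _ _ htX, hXe, Finset.sum_pair hpq, hYe,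
      Finset.sum_pair hθθ, h4, hdθ, ← hd (triv G), charDegree_triv] at h5
    simp only [sq] at h5
    omega
  have hrel1 : (1 : ℤ) + S.a p * d p + S.a q * d q + S.s * d θ = 0 := by
    have h1 := hrel 1 (by simp)
    simp only [hd1] at h1
    have : (((1 : ℤ) + S.a p * d p + S.a q * d q + S.s * d θ : ℤ) : ℂ) = ((0 : ℤ) : ℂ) := by
      push_cast at h1 ⊢; linear_combination h1
    exact_mod_cast this
  have hcong : ((d θ : ℤ) + 3 * S.s) % 7 = 0 := by
    have h1 := S.hYd θ hθ
    rw [hd] at h1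
    omega
  have hS1 : (θ : G → ℂ) S.z + (θ' : G → ℂ) S.z = (S.s : ℂ) := by
    have h1 := S.orth_one
    rw [hXsum, hYsum, triv_apply, charDegree_triv, S.hXz p hp.1, S.hXz q hq.1, hd, hd, hd, hd,
      hdθ] at h1
    have h2 : ((1 : ℤ) + S.a p * d p + S.a q * d q + S.s * d θ : ℂ) = 0 := by exact_mod_cast hrel1
    have hne : (d θ : ℂ) ≠ 0 := by rw [← hd1]; exact Char.IsIrr.one_ne_zero θ.2
    refine mul_right_cancel₀ hne ?_
    push_cast at h1 h2
    linear_combination h1 - h2
  have hsum : ∀ g w : G, ¬ 7 ∣ orderOf g → ¬ 7 ∣ orderOf w →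
      ∑ χ : IrrCharacter G, (χ : G → ℂ) g * (χ : G → ℂ) S.z * conj ((χ : G → ℂ) w) /
          (χ : G → ℂ) 1 =
        1 + (S.a p : ℂ) * (p : G → ℂ) g * conj ((p : G → ℂ) w) / (d p : ℂ) +
          (S.a q : ℂ) * (q : G → ℂ) g * conj ((q : G → ℂ) w) / (d q : ℂ) +
          (S.s : ℂ) * (θ : G → ℂ) g * conj ((θ : G → ℂ) w) / (d θ : ℂ) := by
    intro g w hg hw
    rw [S.sum_eq _ (fun χ e => by rw [e, mul_zero, zero_mul, zero_div]), hXsum, hYsum, triv_apply,
      triv_apply, triv_apply, triv_apply, map_one, S.hXz p hp.1, S.hXz q hq.1,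
      S.hYeq θ' hθ' θ hθ g hg, S.hYeq θ' hθ' θ hθ w hw, hd1, hd1, hd1, hd1, hdθ, ← hS1]
    ring
  have hopt := option_check
  simp only [List.all_eq_true, List.mem_range, Bool.or_eq_true, Bool.and_eq_true, beq_iff_eq,
    Bool.not_eq_true', Bool.and_eq_false_iff, beq_eq_false_iff_ne, decide_eq_false_iff_not,
    Nat.ble_eq, decide_eq_true_eq] at hopt
  have hs' : S.s ∈ ([1, -1] : List ℤ) := by rcases S.hs with e | e <;> simp [e]
  have h0 := hopt _ (hDmem hp.1 hp.2) _ (hDmem hq.1 hq.2) _ hs' (d θ) (by nlinarith)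
  have hopts : (S.a p * d p = -6 ∧ S.a q * d q = -27 ∨ S.a p * d p = -27 ∧ S.a q * d q = -6) ∧
        S.s = 1 ∧ d θ = 32 ∨
      (S.a p * d p = 8 ∧ S.a q * d q = -6 ∨ S.a p * d p = -6 ∧ S.a q * d q = 8) ∧
          S.s = -1 ∧ d θ = 3 ∨
      (S.a p * d p = 8 ∧ S.a q * d q = -27 ∨ S.a p * d p = -27 ∧ S.a q * d q = 8) ∧
          S.s = 1 ∧ d θ = 18 := by
    rcases h0 with h0 | h0
    · exfalso
      rcases h0 with ((((h0 | h0) | h0) | h0) | h0)
      · exact h0 hrel1
      · exact h0 hcong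
      · refine h0 ?_
        have h6 : ((1 + d p * d p + d q * d q + 2 * (d θ * d θ) : ℕ) : ℤ) ≤ 6048 := by
          exact_mod_cast hsq
        push_cast at h6
        rcases S.ha p hp.1 with e | e <;> rcases S.ha q hq.1 with e' | e' <;> rw [e, e'] <;>
          linarith
      · exact h0 (Nat.mod_eq_zero_of_dvd hc3)
      · omega
    · rcases h0 with ⟨⟨a1, a2⟩, a3⟩ | ⟨⟨a1, a2⟩, a3⟩ | ⟨⟨a1, a2⟩, a3⟩
      · exact Or.inl ⟨a1, a2, a3⟩
      · exact Or.inr (Or.inl ⟨a1, a2, a3⟩)
      · exact Or.inr (Or.inr ⟨a1, a2, a3⟩)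
  have hsplit : ∀ {χ : IrrCharacter G}, χ ∈ S.X → ∀ v : ℤ, S.a χ * (d χ : ℤ) = v →
      d χ = v.natAbs ∧ S.a χ = if 0 < v then 1 else -1 := by
    intro χ hχ v hv
    have hpos : d χ ≠ 0 := fun e => Char.IsIrr.one_ne_zero χ.2 (by rw [hd1, e, Nat.cast_zero])
    rcases S.ha χ hχ with e | e <;> rw [e] at hv ⊢
    · exact ⟨by omega, by rw [if_pos (by omega)]⟩
    · exact ⟨by omega, by rw [if_neg (by omega)]⟩
  rcases hopts with ⟨hpqv, hsv, hθv⟩ | ⟨hpqv, hsv, hθv⟩ | ⟨hpqv, hsv, hθv⟩
  · -- degrees 6, 27 and 32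
    obtain ⟨A, B, hA, hB, hrel', hform⟩ : ∃ A B : IrrCharacter G, d A = 6 ∧ d B = 27 ∧
        (∀ g : G, ¬ 7 ∣ orderOf g →
          (θ : G → ℂ) g = (A : G → ℂ) g + (B : G → ℂ) g - 1) ∧
        (∀ g w : G, ¬ 7 ∣ orderOf g → ¬ 7 ∣ orderOf w →
          ∑ χ : IrrCharacter G, (χ : G → ℂ) g * (χ : G → ℂ) S.z * conj ((χ : G → ℂ) w) /
              (χ : G → ℂ) 1 =
            1 - (A : G → ℂ) g * conj ((A : G → ℂ) w) / 6 -
              (B : G → ℂ) g * conj ((B : G → ℂ) w) / 27 +
              (θ : G → ℂ) g * conj ((θ : G → ℂ) w) / 32) := by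
      rcases hpqv with ⟨e1, e2⟩ | ⟨e1, e2⟩ <;> obtain ⟨dp, ap⟩ := hsplit hp.1 _ e1 <;>
        obtain ⟨dq, aq⟩ := hsplit hq.1 _ e2 <;> norm_num at dp ap dq aq
      · refine ⟨p, q, dp, dq, fun g hg => ?_, fun g w hg hw => ?_⟩
        · have h1 := hrel g hg
          rw [ap, aq, hsv] at h1
          push_cast at h1
          linear_combination h1
        · rw [hsum g w hg hw, ap, aq, hsv, dp, dq, hθv]; push_cast; ring
      · refine ⟨q, p, dq, dp, fun g hg => ?_, fun g w hg hw => ?_⟩
        · have h1 := hrel g hg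
          rw [ap, aq, hsv] at h1
          push_cast at h1
          linear_combination h1
        · rw [hsum g w hg hw, ap, aq, hsv, dp, dq, hθv]; push_cast; ring
    have : Fact (Nat.Prime 3) := ⟨Nat.prime_three⟩
    obtain ⟨M, hM⟩ := Blocks.exists_isPModular 3 Nat.prime_three
    have hB0 : ∀ g : G, orderOf g = 3 → (B : G → ℂ) g = 0 := fun g hg => by
      refine BlockThms.eq_zero_of_not_dvd_codegree hM B (by rw [h, hd, hB]; norm_num) ?_
      unfold Cfsg.IsPRegular
      first
        | exact not_not_intro (by rw [hg])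
        | (intro hh; exact hh (by rw [hg]))
    refine ⟨⟨S.z, A, by rw [hd1, hA], fun g w hg hw => ?_⟩⟩
    have hg7 : ¬ 7 ∣ orderOf g := by rw [hg]; norm_num
    have hw7 : ¬ 7 ∣ orderOf w := by rw [hw]; norm_num
    have h1 := mult_card g S.z w
    rw [h, hform g w hg7 hw7, hrel' g hg7, hrel' w hw7, hB0 g hg, hB0 w hw] at h1
    simp only [map_sub, map_add, map_one, map_zero] at h1
    push_cast at h1
    linear_combination h1
  · -- a character of degree three
    exfalso
    have hθS : ∃ η ∈ S.Y, (η : G → ℂ) S.z ≠ 0 := by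
      by_contra! hall
      have h1 := hS1
      rw [hall θ hθ, hall θ' hθ', hsv] at h1
      norm_num at h1
    obtain ⟨η, hη, hηz⟩ := hθS
    have hη1 : (η : G → ℂ) 1 = 3 := by rw [S.hYeq η hη θ hθ 1 (by simp), hd1, hθv]; norm_num
    set η' : IrrCharacter G := ⟨fun g => conj ((η : G → ℂ) g), isIrr_conj η.2⟩ with hη'
    have hη'1 : (η' : G → ℂ) 1 = 3 := by
      show conj ((η : G → ℂ) 1) = 3
      rw [hη1, Complex.conj_ofNat]
    have hη'z : (η' : G → ℂ) S.z ≠ 0 := fun e => hηz ((map_eq_zero (starRingEnd ℂ)).1 e)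
    have hη'Y : η' ∈ S.Y := by
      by_contra hn
      have hX : η' ∈ S.X := by
        by_contra hn'
        exact hη'z (S.hout η' hn' hn)
      by_cases e : η' = triv G
      · rw [e, triv_apply] at hη'1; norm_num at hη'1
      · have h1 := hDmem hX e
        have h2 : d η' = 3 := by
          have := hη'1; rw [hd1] at this; exact_mod_cast this
        rcases S.ha η' hX with e' | e' <;> rw [e', h2] at h1 <;> simp at h1
    have : Fact (Nat.Prime 3) := ⟨Nat.prime_three⟩
    obtain ⟨T⟩ : Nonempty (Sylow 3 G) := Sylow.nonempty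
    have hTc : Nat.card (T : Subgroup G) = 27 :=
      (SmallOrder.card_sylow_eq_pow (a := 3) (m := 224) (by rw [h]; norm_num) (by norm_num) T).trans
        (by norm_num)
    refine not_vanish_twentyseven (Char.IsIrr.isCharacter η.2) hη1 hTc fun v hv hv1 => ?_
    have hv3 : orderOf v = 3 := by
      obtain ⟨k, hk, hk'⟩ := (Nat.dvd_prime_pow Nat.prime_three).1
        (show orderOf v ∣ 3 ^ 3 by
          rw [show (3 : ℕ) ^ 3 = 27 by norm_num, ← hTc]; exact Subgroup.orderOf_dvd_natCard _ hv)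
      interval_cases k
      · exact absurd (orderOf_eq_one_iff.1 (by simpa using hk')) hv1
      · simpa using hk'
      · exact absurd (by simpa using hk') (h9 v)
      · have h27 : orderOf v = 27 := by simpa using hk'
        exact absurd (by rw [orderOf_pow, h27]; rfl : orderOf (v ^ 3) = 9) (h9 _)
    have hreal : conj ((η : G → ℂ) v) = (η : G → ℂ) v :=
      S.hYeq η' hη'Y η hη v (by rw [hv3]; norm_num)
    obtain ⟨n₁, n₂, hn, -, -, hdeq, hr⟩ := value_order_three (Char.IsIrr.isCharacter η.2)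
      (d := 3) (by rw [hη1]; norm_num) hv3
    have he := hr hreal
    have hval := hdeq he
    rcases (show n₁ = 0 ∨ n₁ = 1 by omega) with k | k
    · exfalso
      have hne : (η : G → ℂ) ≠ fun _ => 1 := fun e => by
        rw [e] at hη1; norm_num at hη1
      exact hv1 ((SmallOrder.degree_facts hna η hne).2.2 v (by rw [hval, k, hη1]; norm_num))
    · rw [hval, k]; norm_num
  · -- degrees 8, 27 and 18
    exfalso
    obtain ⟨t, ht⟩ := exists_prime_orderOf_dvd_card' (G := G) 2 (hp := ⟨Nat.prime_two⟩)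
      (by rw [h]; norm_num)
    have ht7 : ¬ 7 ∣ orderOf t := by rw [ht]; norm_num
    have ht1 : t ≠ 1 := fun e => by rw [e, orderOf_one] at ht; norm_num at ht
    have hno : ∀ u : G, orderOf u = 2 → u * S.z * u⁻¹ ≠ S.z⁻¹ := by
      intro u hu hinv
      have huN : u ∈ normalizer ((zpowers S.z : Subgroup G) : Set G) := by
        rw [mem_normalizer_iff_map_conj_eq, MonoidHom.map_zpowers]
        show zpowers (u * S.z * u⁻¹) = _
        rw [hinv, zpowers_inv]
      have h2 := Subgroup.orderOf_dvd_natCard _ huN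
      rw [hu, S.hN] at h2
      norm_num at h2
    have h1 := mult_card t S.z t
    have h0 : IsEmpty {a : G // IsConj (a * t * a⁻¹ * S.z) t} :=
      ⟨fun a => hno _ (by
        rw [show a.1 * t * a.1⁻¹ = MulAut.conj a.1 t from rfl, MulEquiv.orderOf_eq, ht])
        (inverts_of_isConj_mul ht ht a.2)⟩
    rw [Nat.card_of_isEmpty (α := {a : G // IsConj (a * t * a⁻¹ * S.z) t}), Nat.cast_zero, mul_zero,
      h, hsum t t ht7 ht7] at h1
    choose x hx using fun χ : IrrCharacter G =>
      SmallOrder.exists_int_apply_involution (Char.IsIrr.isCharacter χ.2) ht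
    have hxl : ∀ χ : IrrCharacter G, χ ≠ triv G → x χ ∈ valList (d χ) := fun χ hne => by
      have h2 := natAbs_lt_degree hna χ hne ht1 (hx χ)
      have h3 := SmallOrder.four_dvd_degree_sub_apply hna (Char.IsIrr.isCharacter χ.2) ht
        (charDegree_one χ) (hx χ)
      rw [hd] at h2 h3
      rw [valList, List.mem_filter, decide_eq_true_eq, List.mem_map]
      exact ⟨⟨(x χ + ((d χ : ℤ) - 1)).toNat, List.mem_range.2 (by omega), by omega⟩,
        Int.emod_eq_zero_of_dvd h3⟩
    have h2 := hrel t ht7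
    simp only [hx, map_intCast] at h1 h2
    have hchk := eighteen_check
    simp only [List.all_eq_true, Bool.or_eq_true, Bool.not_eq_true', List.elem_eq_contains,
      List.contains_eq_mem, decide_eq_false_iff_not, beq_eq_false_iff_ne] at hchk
    obtain ⟨u, v, hu, hv, hdu, hdv, e1, e2⟩ : ∃ u v : IrrCharacter G, u ≠ triv G ∧ v ≠ triv G ∧
        d u = 8 ∧ d v = 27 ∧ x θ = x v - x u - 1 ∧
        216 + 27 * x u * x u - 8 * x v * x v + 12 * (x θ * x θ) = 0 := by
      rcases hpqv with ⟨e1, e2⟩ | ⟨e1, e2⟩ <;> obtain ⟨dp, ap⟩ := hsplit hp.1 _ e1 <;>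
        obtain ⟨dq, aq⟩ := hsplit hq.1 _ e2 <;> norm_num at dp ap dq aq <;>
        rw [ap, aq, hsv, dp, dq, hθv] at h1 <;> rw [ap, aq, hsv] at h2 <;> push_cast at h1 h2
      · refine ⟨p, q, hp.2, hq.2, dp, dq, ?_, ?_⟩
        · have : ((x θ : ℤ) : ℂ) = ((x q - x p - 1 : ℤ) : ℂ) := by
            push_cast; linear_combination h2
          exact_mod_cast this
        · have : ((216 + 27 * x p * x p - 8 * x q * x q + 12 * (x θ * x θ) : ℤ) : ℂ) =
              ((0 : ℤ) : ℂ) := by
            push_cast; linear_combination h1 / 28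
          exact_mod_cast this
      · refine ⟨q, p, hq.2, hp.2, dq, dp, ?_, ?_⟩
        · have : ((x θ : ℤ) : ℂ) = ((x p - x q - 1 : ℤ) : ℂ) := by
            push_cast; linear_combination h2
          exact_mod_cast this
        · have : ((216 + 27 * x q * x q - 8 * x p * x p + 12 * (x θ * x θ) : ℤ) : ℂ) =
              ((0 : ℤ) : ℂ) := by
            push_cast; linear_combination h1 / 28
          exact_mod_cast this
    rcases hchk (x u) (hdu ▸ hxl u hu) (x v) (hdv ▸ hxl v hv) with k | k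
    · exact k (e1 ▸ hθv ▸ hxl θ hθne)
    · exact k (by rw [e1] at e2; linarith)

end Cfsg.Agent.U33Rec
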