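import Cfsg.Agent.U33Rec.Model
import Mathlib.GroupTheory.OrderOfElement
import Mathlib.SetTheory.Cardinal.Finite
import Mathlib.Tactic.Group
import Mathlib.Tactic.IntervalCases
import Mathlib.Tactic.NormNum

/-!
Coordinates in a group with two generators of order three whose commutator commutes with them.
-/

set_option autoImplicit false
set_option maxRecDepth 4000

namespace Cfsg.Agent.U33Rec

/-- The powers in the coordinates. -/
def powI (p n : ℕ) : ℕ := if n = 0 then 0 else if n = 1 then p else mulI p p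

/-- The commutator in the coordinates. -/
def commI (i j : ℕ) : ℕ := mulI (mulI (powI i 2) (powI j 2)) (mulI i j)

/-- The image of a point under the map with `x ↦ p` and `y ↦ q`. -/
def mapI (p q r i : ℕ) : ℕ :=
  mulI (mulI (powI p (i / 9)) (powI q (i / 3 % 3))) (powI r (i % 3))

theorem mulI_digits : ∀ i j : Fin 27, mulI i.val j.val < 27 ∧
    mulI i.val j.val / 9 = (i.val / 9 + j.val / 9) % 3 ∧
    mulI i.val j.val / 3 % 3 = (i.val / 3 % 3 + j.val / 3 % 3) % 3 ∧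
    mulI i.val j.val % 3 = (i.val % 3 + j.val % 3 + 2 * (i.val / 3 % 3 * (j.val / 9))) % 3 := by
  decide +kernel

theorem powI_lt : ∀ p : Fin 27, ∀ n : Fin 3, powI p.val n.val < 27 := by decide +kernel

theorem hp_one_eq : ∀ i : Fin 27, hp 1 i.val = mapI 3 12 2 i.val := by decide +kernel

theorem commI_outer : ∀ b c : Fin 3, commI 3 (18 + 3 * b.val + c.val) = 1 := by decide +kernel

variable {G : Type*} [Group G] (x y : G)

/-- The element with given coordinates. -/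
def psi (i : ℕ) : G := x ^ (i / 9) * y ^ (i / 3 % 3) * (x⁻¹ * y⁻¹ * x * y) ^ (i % 3)

/-- Two generators of order three with central commutator. -/
structure Pair : Prop where
  hx : x ^ 3 = 1
  hy : y ^ 3 = 1
  hcx : Commute (x⁻¹ * y⁻¹ * x * y) x
  hcy : Commute (x⁻¹ * y⁻¹ * x * y) y
  hz : (x⁻¹ * y⁻¹ * x * y) ^ 3 = 1

theorem psi_zero : psi x y 0 = 1 := by simp [psi]

theorem psi_one : psi x y 1 = x⁻¹ * y⁻¹ * x * y := by simp [psi]

theorem psi_three : psi x y 3 = y := by simp [psi]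

theorem psi_nine : psi x y 9 = x := by simp [psi]

theorem psi_twelve : psi x y 12 = x * y := by simp [psi]

variable {x y}

theorem Pair.swap (h : Pair x y) (b d : ℕ) :
    y ^ b * x ^ d = x ^ d * y ^ b * (x⁻¹ * y⁻¹ * x * y) ^ (2 * (b * d)) := by
  have hcx := h.hcx
  have hcy := h.hcy
  have h3 := h.hz
  obtain ⟨z, hz⟩ : ∃ z, x⁻¹ * y⁻¹ * x * y = z := ⟨_, rfl⟩
  rw [hz] at hcx hcy h3 ⊢
  have h2 : z ^ 2 = z⁻¹ := eq_inv_of_mul_eq_one_left (by rw [← pow_succ]; exact h3)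
  have h1 : y * x = x * y * z ^ 2 := by rw [h2, ← hz]; group
  have hd : ∀ d : ℕ, y * x ^ d = x ^ d * y * z ^ (2 * d) := by
    intro d
    induction d with
    | zero => simp
    | succ d ih =>
      calc y * x ^ (d + 1) = (y * x ^ d) * x := by rw [pow_succ, mul_assoc]
        _ = x ^ d * y * (z ^ (2 * d) * x) := by rw [ih]; group
        _ = x ^ d * (y * x) * z ^ (2 * d) := by rw [(hcx.pow_left _).eq]; group
        _ = x ^ (d + 1) * y * z ^ (2 * (d + 1)) := by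
            rw [h1, show 2 * (d + 1) = 2 + 2 * d by ring, pow_add, pow_succ]; group
  induction b with
  | zero => simp
  | succ b ih =>
    calc y ^ (b + 1) * x ^ d = y ^ b * (y * x ^ d) := by rw [pow_succ, mul_assoc]
      _ = (y ^ b * x ^ d) * y * z ^ (2 * d) := by rw [hd]; group
      _ = x ^ d * y ^ b * (z ^ (2 * (b * d)) * y) * z ^ (2 * d) := by rw [ih]; group
      _ = x ^ d * y ^ (b + 1) * z ^ (2 * ((b + 1) * d)) := by
          rw [(hcy.pow_left _).eq, show 2 * ((b + 1) * d) = 2 * (b * d) + 2 * d by ring, pow_add]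
          group

theorem Pair.psi_mul (h : Pair x y) {i j : ℕ} (hi : i < 27) (hj : j < 27) :
    psi x y (mulI i j) = psi x y i * psi x y j := by
  obtain ⟨-, e1, e2, e3⟩ := mulI_digits ⟨i, hi⟩ ⟨j, hj⟩
  unfold psi
  rw [e1, e2, e3, ← pow_eq_pow_mod _ h.hx, ← pow_eq_pow_mod _ h.hy, ← pow_eq_pow_mod _ h.hz]
  set z := x⁻¹ * y⁻¹ * x * y with hz
  have hcx : Commute z x := h.hcx
  have hcy : Commute z y := h.hcy
  set a := i / 9
  set b := i / 3 % 3
  set c := i % 3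
  set d := j / 9
  set e := j / 3 % 3
  set f := j % 3
  have hzz : ∀ m n : ℕ, z ^ m * z ^ n = z ^ n * z ^ m := fun m n => by
    rw [← pow_add, ← pow_add, Nat.add_comm]
  calc x ^ (a + d) * y ^ (b + e) * z ^ (c + f + 2 * (b * d))
      = x ^ a * (x ^ d * y ^ b) * y ^ e * (z ^ (2 * (b * d)) * z ^ c * z ^ f) := by
        rw [pow_add x, pow_add y, pow_add z, pow_add z]
        rw [hzz (2 * (b * d)) c, mul_assoc (z ^ c) (z ^ (2 * (b * d))), hzz (2 * (b * d)) f]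
        group
    _ = x ^ a * (x ^ d * y ^ b) * (y ^ e * z ^ (2 * (b * d))) * z ^ c * z ^ f := by group
    _ = x ^ a * (x ^ d * y ^ b * z ^ (2 * (b * d))) * (y ^ e * z ^ c) * z ^ f := by
        rw [← (hcy.pow_pow (2 * (b * d)) e).eq]; group
    _ = x ^ a * y ^ b * (x ^ d * z ^ c) * y ^ e * z ^ f := by
        rw [← h.swap b d, ← (hcy.pow_pow c e).eq]; group
    _ = x ^ a * y ^ b * z ^ c * (x ^ d * y ^ e * z ^ f) := by
        rw [← (hcx.pow_pow c d).eq]; group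

theorem Pair.psi_pow (h : Pair x y) {p n : ℕ} (hp : p < 27) (hn : n < 3) :
    psi x y (powI p n) = psi x y p ^ n := by
  unfold powI
  interval_cases n
  · simp [psi_zero]
  · simp
  · rw [if_neg (by norm_num), if_neg (by norm_num), h.psi_mul hp hp, sq]

theorem Pair.psi_inv (h : Pair x y) {p : ℕ} (hp : p < 27) : psi x y (powI p 2) = (psi x y p)⁻¹ := by
  have h3 : mulI (powI p 2) p = 0 := by
    have : ∀ q : Fin 27, mulI (powI q.val 2) q.val = 0 := by decide +kernel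
    exact this ⟨p, hp⟩
  refine eq_inv_of_mul_eq_one_left ?_
  rw [← h.psi_mul (powI_lt ⟨p, hp⟩ ⟨2, by norm_num⟩) hp, h3, psi_zero]

theorem Pair.psi_comm (h : Pair x y) {p q : ℕ} (hp : p < 27) (hq : q < 27) :
    psi x y (commI p q) = (psi x y p)⁻¹ * (psi x y q)⁻¹ * psi x y p * psi x y q := by
  have h1 := powI_lt ⟨p, hp⟩ ⟨2, by norm_num⟩
  have h2 := powI_lt ⟨q, hq⟩ ⟨2, by norm_num⟩
  rw [commI, h.psi_mul (mulI_digits ⟨_, h1⟩ ⟨_, h2⟩).1 (mulI_digits ⟨p, hp⟩ ⟨q, hq⟩).1,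
    h.psi_mul h1 h2, h.psi_mul hp hq, h.psi_inv hp, h.psi_inv hq]
  simp only [mul_assoc]

theorem Pair.psi_map (h : Pair x y) {p q r i : ℕ} (hp : p < 27) (hq : q < 27) (hr : r < 27)
    (hi : i < 27) :
    psi x y (mapI p q r i) =
      psi x y p ^ (i / 9) * psi x y q ^ (i / 3 % 3) * psi x y r ^ (i % 3) := by
  have h1 := powI_lt ⟨p, hp⟩ ⟨i / 9, by omega⟩
  have h2 := powI_lt ⟨q, hq⟩ ⟨i / 3 % 3, Nat.mod_lt _ (by norm_num)⟩
  have h3 := powI_lt ⟨r, hr⟩ ⟨i % 3, Nat.mod_lt _ (by norm_num)⟩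
  rw [mapI, h.psi_mul (mulI_digits ⟨_, h1⟩ ⟨_, h2⟩).1 h3, h.psi_mul h1 h2,
    h.psi_pow hp (by omega), h.psi_pow hq (Nat.mod_lt _ (by norm_num)),
    h.psi_pow hr (Nat.mod_lt _ (by norm_num))]

/-- The automorphism `x ↦ y ↦ x y` is given by the table. -/
theorem Pair.psi_hp (h : Pair x y) {g : G} (hgx : g * x * g⁻¹ = y) (hgy : g * y * g⁻¹ = x * y)
    {i : ℕ} (hi : i < 27) : g * psi x y i * g⁻¹ = psi x y (hp 1 i) := by
  rw [hp_one_eq ⟨i, hi⟩, h.psi_map (by norm_num) (by norm_num) (by norm_num) hi, psi_three,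
    psi_twelve]
  have h2 : psi x y 2 = (x⁻¹ * y⁻¹ * x * y)⁻¹ := by
    have h0 : powI 1 2 = 2 := by decide +kernel
    rw [← psi_one x y, ← h.psi_inv (by norm_num), h0]
  rw [h2]
  have hgz : g * (x⁻¹ * y⁻¹ * x * y) * g⁻¹ = (x⁻¹ * y⁻¹ * x * y)⁻¹ := by
    have h0 : commI 3 12 = 2 := by decide +kernel
    have h1 := h.psi_comm (p := 3) (q := 12) (by norm_num) (by norm_num)
    rw [h0, h2, psi_three, psi_twelve] at h1
    rw [h1, show g * (x⁻¹ * y⁻¹ * x * y) * g⁻¹ =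
      (g * x * g⁻¹)⁻¹ * (g * y * g⁻¹)⁻¹ * (g * x * g⁻¹) * (g * y * g⁻¹) by group, hgx, hgy]
  unfold psi
  have e1 : (g * x * g⁻¹) ^ (i / 9) = g * x ^ (i / 9) * g⁻¹ := conj_pow
  have e2 : (g * y * g⁻¹) ^ (i / 3 % 3) = g * y ^ (i / 3 % 3) * g⁻¹ := conj_pow
  have e3 : (g * (x⁻¹ * y⁻¹ * x * y) * g⁻¹) ^ (i % 3) =
      g * (x⁻¹ * y⁻¹ * x * y) ^ (i % 3) * g⁻¹ := conj_pow
  rw [hgx] at e1
  rw [hgy] at e2
  rw [hgz] at e3
  rw [e1, e2, e3]
  group

end Cfsg.Agent.U33Rec
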