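import Cfsg.Agent.U33Rec.Three
import Cfsg.Agent.U33Rec.Heisenberg

/-!
The normaliser of a Sylow 3-subgroup: a Heisenberg group of order 27 extended by a cyclic group
of order eight.
-/

set_option autoImplicit false
set_option linter.unusedSectionVars false
set_option maxRecDepth 4000

namespace Cfsg.Agent.U33Rec

open Subgroup

universe u

variable {G : Type u} [Group G] [Fintype G]

/-- The point stabiliser with its coordinates. -/
structure Frame (G : Type u) [Group G] [Fintype G] where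
  P : Sylow 3 G
  Q : Sylow 3 G
  hne : Q ≠ P
  hdisj : ∀ {R : Sylow 3 G}, R ≠ P → ∀ g ∈ (P : Subgroup G), g • R = R → g = 1
  trans : ∀ R : Sylow 3 G, R ≠ P → ∃ g ∈ (P : Subgroup G), g • Q = R
  x : G
  y : G
  pair : Pair x y
  mem : ∀ i < 27, psi x y i ∈ (P : Subgroup G)
  surj : ∀ g ∈ (P : Subgroup G), ∃ i < 27, psi x y i = g
  inj : ∀ i < 27, ∀ j < 27, psi x y i = psi x y j → i = j
  h : G
  hord : orderOf h = 8
  hP : h • P = P
  hQ : h • Q = Q
  hx : h * x * h⁻¹ = y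
  hy : h * y * h⁻¹ = x * y
  stab : ∀ g : G, g • P = P → g • Q = Q → g ∈ zpowers h

omit [Fintype G] in
theorem comm_invariant {a b u v : G} (hu : ∀ g : G, g = a ∨ g = b → Commute u g)
    (hv : ∀ g : G, g = a ∨ g = b → Commute v g) (huv : Commute u v) :
    (a * u)⁻¹ * (b * v)⁻¹ * (a * u) * (b * v) = a⁻¹ * b⁻¹ * a * b := by
  have ua : Commute u a := hu a (Or.inl rfl)
  have ub : Commute u b := hu b (Or.inr rfl)
  have va : Commute v a := hv a (Or.inl rfl)
  have vb : Commute v b := hv b (Or.inr rfl)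
  calc (a * u)⁻¹ * (b * v)⁻¹ * (a * u) * (b * v)
      = u⁻¹ * a⁻¹ * (v⁻¹ * b⁻¹) * a * (u * b) * v := by group
    _ = u⁻¹ * a⁻¹ * (b⁻¹ * v⁻¹) * a * (b * u) * v := by
        rw [ub.eq, (vb.inv_inv).eq]
    _ = u⁻¹ * (a⁻¹ * b⁻¹) * (v⁻¹ * a) * b * u * v := by group
    _ = u⁻¹ * (a⁻¹ * b⁻¹) * (a * v⁻¹) * b * u * v := by rw [(va.inv_left).eq]
    _ = u⁻¹ * (a⁻¹ * b⁻¹ * a) * (v⁻¹ * b) * u * v := by group
    _ = u⁻¹ * (a⁻¹ * b⁻¹ * a) * (b * v⁻¹) * u * v := by rw [(vb.inv_left).eq]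
    _ = (u⁻¹ * (a⁻¹ * b⁻¹ * a * b)) * (v⁻¹ * (u * v)) := by group
    _ = (a⁻¹ * b⁻¹ * a * b) * u⁻¹ * (v⁻¹ * (v * u)) := by
        rw [(((((ua.inv_right).mul_right ub.inv_right).mul_right ua).mul_right ub).inv_left).eq,
          huv.eq]
    _ = a⁻¹ * b⁻¹ * a * b := by group

/-- Facts about a Sylow subgroup. -/
structure Data3 (P : Sylow 3 G) (c : G) : Prop where
  card : Nat.card (P : Subgroup G) = 27
  exp : ∀ x ∈ (P : Subgroup G), x ≠ 1 → orderOf x = 3
  mem : c ∈ (P : Subgroup G)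
  ord : orderOf c = 3
  le : (P : Subgroup G) ≤ centralizer ({c} : Set G)
  dvd : Nat.card (centralizer ({c} : Set G)) ∣ 108
  nine : ∀ x ∈ (P : Subgroup G), x ∉ zpowers c → Nat.card (centralizer ({x} : Set G)) = 9

variable {P : Sylow 3 G} {c : G} (D : Data3 P c)
include D

theorem Data3.cube {x : G} (hx : x ∈ (P : Subgroup G)) : x ^ 3 = 1 := by
  by_cases h : x = 1
  · rw [h, one_pow]
  · rw [← D.exp x hx h, pow_orderOf_eq_one]

theorem Data3.commute {x i : G} (hx : x ∈ (P : Subgroup G)) (hi : i ∈ zpowers c) : Commute i x := by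
  obtain ⟨n, rfl⟩ := mem_zpowers_iff.1 hi
  exact ((show Commute x c from mem_centralizer_singleton_iff.1 (D.le hx)).zpow_right n).symm

/-- The centraliser of a noncentral element. -/
theorem Data3.cent_eq {x g : G} (hx : x ∈ (P : Subgroup G)) (hxc : x ∉ zpowers c)
    (hg : g ∈ centralizer ({x} : Set G)) :
    ∃ i < 3, ∃ n ∈ zpowers c, g = x ^ (i : ℕ) * n := by
  classical
  let f : Fin 3 × zpowers c → centralizer ({x} : Set G) := fun p =>
    ⟨x ^ (p.1 : ℕ) * p.2, mul_mem (pow_mem (mem_centralizer_singleton_iff.2 rfl) _)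
      (mem_centralizer_singleton_iff.2 (D.commute hx p.2.2).eq)⟩
  have hinj : Function.Injective f := by
    rintro ⟨i, n⟩ ⟨j, m⟩ e
    have e1 : x ^ (i : ℕ) * (n : G) = x ^ (j : ℕ) * m := congrArg Subtype.val e
    have e2 : (x ^ (j : ℕ))⁻¹ * x ^ (i : ℕ) ∈ zpowers c := by
      rw [show (x ^ (j : ℕ))⁻¹ * x ^ (i : ℕ) = (x ^ (j : ℕ))⁻¹ * (x ^ (i : ℕ) * n) * (n : G)⁻¹ by
        group, e1, inv_mul_cancel_left]
      exact mul_mem m.2 (inv_mem n.2)
    have hij : i = j := by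
      by_contra hne
      have h3 := D.cube hx
      have key : ∀ i j : Fin 3, i ≠ j →
          (i.val + 2 * j.val) % 3 = 1 ∨ (i.val + 2 * j.val) % 3 = 2 := by decide
      have e3 : x ^ ((i.val + 2 * j.val) % 3) ∈ zpowers c := by
        have hj : (x ^ (j : ℕ))⁻¹ = x ^ (2 * (j : ℕ)) := by
          refine inv_eq_of_mul_eq_one_right ?_
          rw [← pow_add, show (j : ℕ) + 2 * j = 3 * j by ring, pow_mul, h3, one_pow]
        rw [hj, ← pow_add, Nat.add_comm, pow_eq_pow_mod _ h3] at e2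
        exact e2
      rcases key i j hne with e | e <;> rw [e] at e3
      · rw [pow_one] at e3; exact hxc e3
      · refine hxc ?_
        have : x = (x ^ 2) ^ 2 := by rw [← pow_mul, pow_eq_pow_mod _ h3, pow_one]
        rw [this]
        exact pow_mem e3 2
    subst hij
    exact Prod.ext rfl (Subtype.ext (mul_left_cancel e1))
  have hbij : Function.Bijective f := by
    refine (Nat.bijective_iff_injective_and_card f).2 ⟨hinj, ?_⟩
    rw [Nat.card_prod, Nat.card_fin, Nat.card_zpowers, D.ord, D.nine x hx hxc]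
  obtain ⟨⟨i, n⟩, hin⟩ := hbij.2 ⟨g, hg⟩
  exact ⟨i.val, i.2, n, n.2, (congrArg Subtype.val hin).symm⟩

theorem Data3.cent_le {x : G} (hx : x ∈ (P : Subgroup G)) (hxc : x ∉ zpowers c) :
    centralizer ({x} : Set G) ≤ (P : Subgroup G) := fun g hg => by
  obtain ⟨i, -, n, hn, rfl⟩ := D.cent_eq hx hxc hg
  exact mul_mem (pow_mem hx i) (zpowers_le.2 D.mem hn)

/-- Commutators lie in the centre. -/
theorem Data3.comm_mem {a b : G} (ha : a ∈ (P : Subgroup G)) (hb : b ∈ (P : Subgroup G)) :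
    a⁻¹ * b⁻¹ * a * b ∈ zpowers c := by
  classical
  by_cases hac : a ∈ zpowers c
  · rw [mul_assoc _ a b, (D.commute hb hac).eq]
    convert one_mem (zpowers c) using 1
    group
  by_cases hcm : Commute a b
  · rw [mul_assoc _ a b, hcm.eq]
    convert one_mem (zpowers c) using 1
    group
  have hbc : b ∉ zpowers c := fun h => hcm (D.commute ha h).symm
  by_contra hz
  set z := a⁻¹ * b⁻¹ * a * b with hzdef
  have hzP : z ∈ (P : Subgroup G) := mul_mem (mul_mem (mul_mem (inv_mem ha) (inv_mem hb)) ha) hb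
  have hn : ∀ u : G, u ∈ (P : Subgroup G) → u ∉ zpowers c →
      ∀ g ∈ (P : Subgroup G), ∀ v ∈ centralizer ({u} : Set G),
        g * v * g⁻¹ ∈ centralizer ({u} : Set G) := by
    intro u hu huc g hg v hv
    have hle : centralizer ({u} : Set G) ≤ (P : Subgroup G) := D.cent_le hu huc
    have hnorm : ((centralizer ({u} : Set G)).subgroupOf (P : Subgroup G)).Normal := by
      refine normal_of_index_eq_minFac_card ?_
      have h2 := ((centralizer ({u} : Set G)).subgroupOf (P : Subgroup G)).card_mul_index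
      rw [Nat.card_congr (subgroupOfEquivOfLe hle).toEquiv, D.nine u hu huc, D.card] at h2
      rw [D.card, show (27 : ℕ) = 3 ^ 3 by norm_num, Nat.pow_minFac (by norm_num),
        Nat.prime_three.minFac_eq]
      omega
    exact hnorm.conj_mem ⟨v, hle hv⟩ hv ⟨g, hg⟩
  have hza : z ∈ centralizer ({a} : Set G) := by
    have h1 := hn a ha hac b⁻¹ (inv_mem hb) a (mem_centralizer_singleton_iff.2 rfl)
    rw [inv_inv] at h1
    rw [hzdef, show a⁻¹ * b⁻¹ * a * b = a⁻¹ * (b⁻¹ * a * b) by group]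
    exact mul_mem (inv_mem (mem_centralizer_singleton_iff.2 rfl)) h1
  have hzb : z ∈ centralizer ({b} : Set G) := by
    have h1 := hn b hb hbc a⁻¹ (inv_mem ha) b⁻¹ (inv_mem (mem_centralizer_singleton_iff.2 rfl))
    rw [inv_inv] at h1
    rw [hzdef]
    exact mul_mem h1 (mem_centralizer_singleton_iff.2 rfl)
  obtain ⟨i, hi, n, hn', hzi⟩ := D.cent_eq ha hac hza
  interval_cases i
  · rw [pow_zero, one_mul] at hzi; exact hz (hzi ▸ hn')
  all_goals
    refine hcm ?_
    have h1 : Commute b z := (mem_centralizer_singleton_iff.1 hzb).symm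
    rw [hzi] at h1
    have h2 := h1.mul_right ((D.commute hb hn').symm.inv_right)
    rw [mul_inv_cancel_right] at h2
  · rw [pow_one] at h2; exact h2.symm
  · have : a = (a ^ 2) ^ 2 := by rw [← pow_mul, pow_eq_pow_mod _ (D.cube ha), pow_one]
    rw [this]
    exact (h2.pow_right 2).symm

omit D

variable [IsSimpleGroup G]

/-- The coordinates exist. -/
theorem Local.exists_frame (L : Local G) (hna : ¬ IsMulCommutative G) (hG : Nat.card G = 6048) :
    Nonempty (Frame G) := by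
  classical
  have : Fact (Nat.Prime 3) := ⟨Nat.prime_three⟩
  have hn := L.card_sylow hna hG
  obtain ⟨P⟩ : Nonempty (Sylow 3 G) := Sylow.nonempty
  obtain ⟨c, hcP, hc, hPc, hC108, hP9⟩ := L.center P
  have D : Data3 P c := ⟨L.card P, L.exp P, hcP, hc, hPc, hC108, hP9⟩
  have hdisj : ∀ {R : Sylow 3 G}, R ≠ P → ∀ g ∈ (P : Subgroup G), g • R = R → g = 1 := by
    intro R hR g hg hgR
    have h1 : g ∈ (P : Subgroup G) ⊓ normalizer ((R : Subgroup G) : Set G) :=
      ⟨hg, Sylow.smul_eq_iff_mem_normalizer.1 hgR⟩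
    erw [IsPGroup.inf_normalizer_sylow P.isPGroup' R] at h1
    exact L.disjoint hR h1.2 hg
  have hPfix : ∀ g ∈ (P : Subgroup G), g • P = P := fun g hg =>
    Sylow.smul_eq_iff_mem_normalizer.2 (le_normalizer hg)
  obtain ⟨Q, hQ⟩ : ∃ Q : Sylow 3 G, Q ≠ P := by
    have : Nontrivial (Sylow 3 G) := Finite.one_lt_card_iff_nontrivial.1 (by rw [hn]; norm_num)
    exact exists_ne P
  have htrans : ∀ R : Sylow 3 G, R ≠ P → ∃ g ∈ (P : Subgroup G), g • Q = R := by
    let f : ↥(P : Subgroup G) → {R : Sylow 3 G // R ≠ P} := fun g =>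
      ⟨(g : G) • Q, fun e => hQ (by rw [← inv_smul_smul (g : G) Q, e, hPfix _ (inv_mem g.2)])⟩
    have hinj : Function.Injective f := by
      intro a b e
      have e1 : (a : G) • Q = (b : G) • Q := congrArg Subtype.val e
      have e2 : ((b : G)⁻¹ * a) • Q = Q := by rw [mul_smul, e1, inv_smul_smul]
      exact Subtype.ext (inv_mul_eq_one.1 (hdisj hQ _ (mul_mem (inv_mem b.2) a.2) e2)).symm
    have hbij : Function.Bijective f := by
      refine (Nat.bijective_iff_injective_and_card f).2 ⟨hinj, ?_⟩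
      have h1 := Nat.card_congr (Equiv.optionSubtypeNe P)
      rw [Finite.card_option, hn] at h1
      rw [L.card P]
      change 27 = Nat.card {R : Sylow 3 G // R ≠ P}
      omega
    intro R hR
    obtain ⟨g, hg⟩ := hbij.2 ⟨R, hR⟩
    exact ⟨g, g.2, congrArg Subtype.val hg⟩
  -- the two-point stabiliser
  set N := MulAction.stabilizer G P with hNdef
  set S := MulAction.stabilizer G P ⊓ MulAction.stabilizer G Q with hSdef
  have hNc : Nat.card N = 216 := by
    have h1 := SmallOrder.card_sylow_mul_card_normalizer P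
    rw [hn, hG] at h1
    rw [hNdef, Sylow.stabilizer_eq_normalizer P]
    change Nat.card (normalizer ((P : Subgroup G) : Set G)) = 216
    omega
  have hPN : (P : Subgroup G) ≤ N := fun g hg => hPfix g hg
  have hSc : Nat.card S = 8 := by
    let f : ↥(P : Subgroup G) × S → N := fun p => ⟨(p.1 : G) * p.2, mul_mem (hPN p.1.2) p.2.2.1⟩
    have hbij : Function.Bijective f := by
      constructor
      · rintro ⟨a, s⟩ ⟨b, t⟩ e
        have e1 : (a : G) * s = b * t := congrArg Subtype.val e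
        have e2 : ((b : G)⁻¹ * a) • Q = Q := by
          rw [show (b : G)⁻¹ * a = t * (s : G)⁻¹ by
            rw [eq_mul_inv_iff_mul_eq, mul_assoc, e1, inv_mul_cancel_left]]
          exact (mul_mem t.2 (inv_mem s.2)).2
        have e3 := inv_mul_eq_one.1 (hdisj hQ _ (mul_mem (inv_mem b.2) a.2) e2)
        refine Prod.ext (Subtype.ext e3.symm) (Subtype.ext ?_)
        rw [← e3] at e1
        exact mul_left_cancel e1
      · rintro ⟨g, hg⟩
        obtain ⟨a, ha, hae⟩ := htrans (g • Q) fun e => hQ (smul_left_cancel g (e.trans hg.symm))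
        refine ⟨(⟨a, ha⟩, ⟨a⁻¹ * g, ?_, ?_⟩), Subtype.ext (mul_inv_cancel_left a g)⟩
        · show (a⁻¹ * g) • P = P
          rw [mul_smul, show g • P = P from hg, hPfix _ (inv_mem ha)]
        · show (a⁻¹ * g) • Q = Q
          rw [mul_smul, ← hae, inv_smul_smul]
    have h1 := Nat.card_eq_of_bijective f hbij
    rw [Nat.card_prod, L.card P, hNc] at h1
    omega
  have hSP : ∀ s ∈ S, ∀ a ∈ (P : Subgroup G), s * a * s⁻¹ ∈ (P : Subgroup G) := fun s hs a ha =>
    (mem_normalizer_iff.1 (Sylow.smul_eq_iff_mem_normalizer.1 hs.1) a).1 ha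
  have hZN : ∀ g ∈ N, ∀ n ∈ zpowers c, g * n * g⁻¹ ∈ zpowers c := by
    intro g hg n hn'
    by_contra hne
    have hgn := Sylow.smul_eq_iff_mem_normalizer.1 (hg : g • P = P)
    have hmem : g * n * g⁻¹ ∈ (P : Subgroup G) :=
      (mem_normalizer_iff.1 hgn n).1 (zpowers_le.2 D.mem hn')
    have hle : (P : Subgroup G) ≤ centralizer ({g * n * g⁻¹} : Set G) := fun a ha => by
      have h1 : g⁻¹ * a * g ∈ (P : Subgroup G) := by
        have := (mem_normalizer_iff.1 (inv_mem hgn) a).1 ha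
        rwa [inv_inv] at this
      rw [mem_centralizer_singleton_iff]
      calc a * (g * n * g⁻¹) = g * (g⁻¹ * a * g * n) * g⁻¹ := by group
        _ = g * (n * (g⁻¹ * a * g)) * g⁻¹ := by rw [(D.commute h1 hn').eq]
        _ = g * n * g⁻¹ * a := by group
    have := card_dvd_of_le hle
    rw [L.card P, hP9 _ hmem hne] at this
    norm_num at this
  -- modulo the centre
  set K := (zpowers c).subgroupOf N with hKdef
  have hKn : K.Normal := ⟨fun n hn' g => hZN g g.2 n hn'⟩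
  let π : N →* N ⧸ K := QuotientGroup.mk' K
  have hπ : ∀ {a b : N}, π a = π b ↔ (a : G)⁻¹ * b ∈ zpowers c := fun {a b} => by
    rw [QuotientGroup.mk'_eq_mk']
    constructor
    · rintro ⟨n, hn', rfl⟩
      simpa [hKdef, mem_subgroupOf] using hn'
    · intro h
      exact ⟨a⁻¹ * b, by simpa [hKdef, mem_subgroupOf] using h, mul_inv_cancel_left a b⟩
  have hπ1 : ∀ {a : N}, π a = 1 ↔ (a : G) ∈ zpowers c := fun {a} => by
    rw [← map_one π, eq_comm, hπ]; simp
  have hπcomm : ∀ {a b : N}, (a : G) ∈ (P : Subgroup G) → (b : G) ∈ (P : Subgroup G) →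
      π a * π b = π b * π a := fun {a b} ha hb => by
    rw [← map_mul, ← map_mul, eq_comm, hπ]
    rw [show ((b * a : N) : G)⁻¹ * (a * b : N) = (a : G)⁻¹ * (b : G)⁻¹ * a * b by push_cast; group]
    exact D.comm_mem ha hb
  -- no element of the stabiliser fixes a coset
  have hfree : ∀ s : N, (s : G) ∈ S → ∀ a : N, (a : G) ∈ (P : Subgroup G) → π a ≠ 1 →
      π s * π a * (π s)⁻¹ = π a → s = 1 := by
    intro s hs a ha ha1 hfix
    by_contra hs1
    have hso : orderOf (s : G) ∣ 2 ^ 3 := by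
      rw [show (2 : ℕ) ^ 3 = 8 by norm_num, ← hSc]; exact Subgroup.orderOf_dvd_natCard _ hs
    obtain ⟨k, -, hk⟩ := (Nat.dvd_prime_pow Nat.prime_two).1 hso
    obtain ⟨j, rfl⟩ : ∃ j, k = j + 1 := by
      rcases k with - | j
      · exact absurd (Subtype.ext (orderOf_eq_one_iff.1 (by simpa using hk))) hs1
      · exact ⟨j, rfl⟩
    set r := s ^ 2 ^ j with hr
    have hro : orderOf (r : G) = 2 := by
      rw [hr, SubmonoidClass.coe_pow, orderOf_pow' _ (pow_pos two_pos j).ne', hk, pow_succ,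
        Nat.gcd_mul_right_left]
      exact Nat.mul_div_cancel_left 2 (pow_pos two_pos j)
    have hrS : (r : G) ∈ S := by rw [hr, SubmonoidClass.coe_pow]; exact pow_mem hs _
    have hrfix : π r * π a * (π r)⁻¹ = π a := by
      have h1 : Commute (π s) (π a) := mul_inv_eq_iff_eq_mul.1 hfix
      rw [hr, map_pow]
      exact mul_inv_eq_iff_eq_mul.2 (h1.pow_left _)
    rw [← map_mul, ← map_inv, ← map_mul, eq_comm, hπ] at hrfix
    set u := (a : G)⁻¹ * ((r : G) * a * (r : G)⁻¹) with hu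
    have huc : u ∈ zpowers c := by simpa [hu] using hrfix
    have hau : (r : G) * a * (r : G)⁻¹ = a * u := by rw [hu, mul_inv_cancel_left]
    set v := (r : G) * u * (r : G)⁻¹ with hv
    have hvc : v ∈ zpowers c := hZN r r.2 u huc
    have hr2 : (r : G) * r = 1 := mul_self_of_orderOf hro
    have huv : u * v = 1 := by
      have h1 : (r : G) * ((r : G) * a * (r : G)⁻¹) * (r : G)⁻¹ = a := by
        calc (r : G) * ((r : G) * a * (r : G)⁻¹) * (r : G)⁻¹
            = ((r : G) * r) * a * ((r : G) * r)⁻¹ := by group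
          _ = a := by rw [hr2]; group
      rw [hau, show (r : G) * (a * u) * (r : G)⁻¹ =
        ((r : G) * a * (r : G)⁻¹) * ((r : G) * u * (r : G)⁻¹) by group, hau, ← hv] at h1
      rwa [mul_assoc, mul_eq_left] at h1
    have hu3 : u ^ 3 = 1 := D.cube (zpowers_le.2 D.mem huc)
    -- a fixed element of the coset
    have hfixed : (r : G) * ((a : G) * u ^ 2) * (r : G)⁻¹ = (a : G) * u ^ 2 := by
      rw [show (r : G) * ((a : G) * u ^ 2) * (r : G)⁻¹ =
        ((r : G) * a * (r : G)⁻¹) * ((r : G) * u * (r : G)⁻¹) ^ 2 by rw [conj_pow]; group, hau,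
        ← hv, eq_inv_of_mul_eq_one_right huv, mul_assoc]
      congr 1
      have : u⁻¹ = u ^ 2 := inv_eq_of_mul_eq_one_right (by rw [← pow_succ']; exact hu3)
      rw [this, ← pow_mul, ← pow_succ', pow_eq_pow_mod _ hu3]
    have hxP : (a : G) * u ^ 2 ∈ (P : Subgroup G) :=
      mul_mem ha (pow_mem (zpowers_le.2 D.mem huc) 2)
    have hxc : (a : G) * u ^ 2 ∉ zpowers c := fun e => ha1 (hπ1.2 (by
      have := mul_mem e (inv_mem (pow_mem huc 2))
      rwa [mul_inv_cancel_right] at this))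
    have h9 := Subgroup.orderOf_dvd_natCard _
      (show (r : G) ∈ centralizer ({(a : G) * u ^ 2} : Set G) from
        mem_centralizer_singleton_iff.2 (mul_inv_eq_iff_eq_mul.1 hfixed))
    rw [hro, D.nine _ hxP hxc] at h9
    norm_num at h9
  -- an involution inverts modulo the centre
  have hinv : ∀ r : N, (r : G) ∈ S → r ^ 2 = 1 → r ≠ 1 → ∀ a : N, (a : G) ∈ (P : Subgroup G) →
      π r * π a * (π r)⁻¹ = (π a)⁻¹ := by
    intro r hr hr2 hr1 a ha
    have hb : ((r * a * r⁻¹ : N) : G) ∈ (P : Subgroup G) := hSP r hr a ha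
    have h1 : π (a * (r * a * r⁻¹)) = 1 := by
      by_contra hne
      refine hr1 (hfree r hr _ (by rw [Subgroup.coe_mul]; exact mul_mem ha hb) hne ?_)
      have hrr : π r * π r = 1 := by rw [← map_mul, ← sq, hr2, map_one]
      have hc' : π a * (π r * π a * (π r)⁻¹) = π r * π a * (π r)⁻¹ * π a := by
        rw [← map_mul, ← map_inv, ← map_mul]
        exact hπcomm ha hb
      simp only [map_mul, map_inv]
      calc π r * (π a * (π r * π a * (π r)⁻¹)) * (π r)⁻¹
          = (π r * π a * (π r)⁻¹) * ((π r * π r) * π a * (π r * π r)⁻¹) := by group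
        _ = π a * (π r * π a * (π r)⁻¹) := by rw [hrr, hc']; group
    simp only [map_mul, map_inv] at h1
    exact eq_inv_of_mul_eq_one_right h1
  -- elements off the centre
  obtain ⟨x₀, hx₀P, hx₀c⟩ : ∃ x₀ ∈ (P : Subgroup G), x₀ ∉ zpowers c := by
    by_contra! hall
    have h1 := card_dvd_of_le (show (P : Subgroup G) ≤ zpowers c from hall)
    rw [L.card P, Nat.card_zpowers, hc] at h1
    norm_num at h1
  obtain ⟨w₀, hw₀P, hw₀⟩ : ∃ w₀ ∈ (P : Subgroup G), ¬ Commute w₀ x₀ := by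
    by_contra! hall
    have h1 := card_dvd_of_le (show (P : Subgroup G) ≤ centralizer ({x₀} : Set G) from
      fun a ha => mem_centralizer_singleton_iff.2 (hall a ha).eq)
    rw [L.card P, hP9 x₀ hx₀P hx₀c] at h1
    norm_num at h1
  -- an element of order eight
  obtain ⟨h₁, hh₁S, hh₁o⟩ : ∃ h₁ ∈ S, orderOf h₁ = 8 := by
    by_contra hno
    push Not at hno
    set z := x₀⁻¹ * w₀⁻¹ * x₀ * w₀ with hz
    have hzc : z ∈ zpowers c := D.comm_mem hx₀P hw₀P
    have hz1 : z ≠ 1 := fun e => hw₀ (by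
      have h1 : (w₀ * x₀)⁻¹ * (x₀ * w₀) = 1 := by rw [← e, hz]; group
      exact inv_mul_eq_one.1 h1)
    have hzgen : zpowers z = zpowers c := eq_of_le_of_card_ge (zpowers_le.2 hzc)
      (by rw [Nat.card_zpowers, Nat.card_zpowers, hc,
        D.exp z (zpowers_le.2 D.mem hzc) hz1])
    -- the commutator of two images
    have himage : ∀ s : N, ∀ a b : N, (a : G) ∈ (P : Subgroup G) → (b : G) ∈ (P : Subgroup G) →
        ∀ a' b' : G, a' ∈ (P : Subgroup G) → b' ∈ (P : Subgroup G) →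
          a'⁻¹ * ((s : G) * a * (s : G)⁻¹) ∈ zpowers c →
          b'⁻¹ * ((s : G) * b * (s : G)⁻¹) ∈ zpowers c →
          (s : G) * ((a : G)⁻¹ * (b : G)⁻¹ * a * b) * (s : G)⁻¹ = a'⁻¹ * b'⁻¹ * a' * b' := by
      intro s a b _ _ a' b' ha' hb' hu hv
      rw [show (s : G) * ((a : G)⁻¹ * (b : G)⁻¹ * a * b) * (s : G)⁻¹ =
        (a' * (a'⁻¹ * ((s : G) * a * (s : G)⁻¹)))⁻¹ * (b' * (b'⁻¹ * ((s : G) * b * (s : G)⁻¹)))⁻¹ *
          (a' * (a'⁻¹ * ((s : G) * a * (s : G)⁻¹))) *
          (b' * (b'⁻¹ * ((s : G) * b * (s : G)⁻¹))) by group]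
      refine comm_invariant ?_ ?_ (D.commute (zpowers_le.2 D.mem hv) hu)
      · rintro g (rfl | rfl)
        · exact D.commute ha' hu
        · exact D.commute hb' hu
      · rintro g (rfl | rfl)
        · exact D.commute ha' hv
        · exact D.commute hb' hv
    have hSC : S ≤ centralizer ({c} : Set G) := by
      intro s hs
      suffices hsz : s * z * s⁻¹ = z by
        obtain ⟨i, hi⟩ := mem_zpowers_iff.1 (hzgen.symm ▸ mem_zpowers c : c ∈ zpowers z)
        rw [mem_centralizer_singleton_iff, ← hi]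
        exact ((show Commute s z from mul_inv_eq_iff_eq_mul.1 hsz).zpow_right i).eq
      set s' : N := ⟨s, hs.1⟩ with hs'
      by_cases hs1 : s = 1
      · subst hs1; group
      have hso : orderOf s ∣ 2 ^ 3 := by
        rw [show (2 : ℕ) ^ 3 = 8 by norm_num, ← hSc]; exact Subgroup.orderOf_dvd_natCard _ hs
      obtain ⟨k, hk3, hk⟩ := (Nat.dvd_prime_pow Nat.prime_two).1 hso
      have hk' : k = 1 ∨ k = 2 := by
        rcases k with - | k
        · exact absurd (orderOf_eq_one_iff.1 (by simpa using hk)) hs1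
        · by_contra hcon
          exact hno s hs (by rw [hk, show k + 1 = 3 by omega]; norm_num)
      set a : N := ⟨x₀, hPN hx₀P⟩ with ha
      have haπ : π a ≠ 1 := fun e => hx₀c (hπ1.1 e)
      rcases hk' with rfl | rfl
      · -- an involution
        have hs2 : s' ^ 2 = 1 := Subtype.ext (by
          rw [SubmonoidClass.coe_pow, OneMemClass.coe_one]; exact orderOf_dvd_iff_pow_eq_one.1 (by rw [hk]; norm_num))
        have hs1' : s' ≠ 1 := fun e => hs1 (congrArg Subtype.val e)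
        set b : N := ⟨w₀, hPN hw₀P⟩ with hb
        have e1 := hinv s' hs hs2 hs1' a hx₀P
        have e2 := hinv s' hs hs2 hs1' b hw₀P
        rw [← map_inv, ← map_inv, ← map_mul, ← map_mul, eq_comm, hπ] at e1 e2
        rw [hz, himage s' a b hx₀P hw₀P x₀⁻¹ w₀⁻¹ (inv_mem hx₀P) (inv_mem hw₀P)
          (by simpa [ha] using e1) (by simpa [hb] using e2)]
        have hc2 : Commute (x₀⁻¹ * w₀⁻¹ * x₀ * w₀) (w₀ * x₀) :=
          D.commute (mul_mem hw₀P hx₀P) hzc
        calc x₀⁻¹⁻¹ * w₀⁻¹⁻¹ * x₀⁻¹ * w₀⁻¹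
            = (w₀ * x₀) * (x₀⁻¹ * w₀⁻¹ * x₀ * w₀) * (w₀ * x₀)⁻¹ := by group
          _ = x₀⁻¹ * w₀⁻¹ * x₀ * w₀ := by rw [← hc2.eq, mul_inv_cancel_right]
      · -- order four
        have hs4 : orderOf s = 4 := by rw [hk]; norm_num
        set r : N := s' ^ 2 with hr
        have hr2 : r ^ 2 = 1 := by
          rw [hr, ← pow_mul]
          exact Subtype.ext (by
            rw [SubmonoidClass.coe_pow, OneMemClass.coe_one]
            exact orderOf_dvd_iff_pow_eq_one.1 (by rw [hs4]))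
        have hr1 : r ≠ 1 := fun e => by
          have h2 : orderOf s ∣ 2 := orderOf_dvd_of_pow_eq_one (congrArg Subtype.val e)
          rw [hs4] at h2
          norm_num at h2
        have hrS : (r : G) ∈ S := pow_mem hs 2
        set b : N := s' * a * s'⁻¹ with hb
        have hbP : (b : G) ∈ (P : Subgroup G) := hSP s hs x₀ hx₀P
        have e1 := hinv r hrS hr2 hr1 a hx₀P
        have e2 : π s' * π b * (π s')⁻¹ = (π a)⁻¹ := by
          rw [← e1, hb, hr]; simp only [map_mul, map_inv, map_pow]; rw [sq]; group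
        rw [← map_inv, ← map_inv, ← map_mul, ← map_mul, eq_comm, hπ] at e2
        set w := (b : G) with hw
        -- the commutator with the image is a generator of the centre
        have hne : ¬ Commute w x₀ := by
          intro hcm
          obtain ⟨i, hi, n, hn', hwi⟩ := D.cent_eq hx₀P hx₀c
            (mem_centralizer_singleton_iff.2 hcm.eq : w ∈ centralizer ({x₀} : Set G))
          have hπb : π b = π a ^ i := by
            rw [← map_pow, eq_comm, hπ]
            show ((a ^ i : N) : G)⁻¹ * w ∈ zpowers c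
            rw [hwi, SubmonoidClass.coe_pow, inv_mul_cancel_left]
            exact hn'
          interval_cases i
          · rw [pow_zero] at hπb
            refine haπ ?_
            have : π a = (π s')⁻¹ * π b * π s' := by rw [hb]; simp only [map_mul, map_inv]; group
            rw [this, hπb]; group
          · rw [pow_one] at hπb
            refine hs1 (congrArg Subtype.val (hfree s' hs a hx₀P haπ ?_))
            rw [← map_inv, ← map_mul, ← map_mul]
            exact hπb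
          · refine hr1 (hfree r hrS a hx₀P haπ ?_)
            have h3 : π a ^ 3 = 1 := by
              rw [← map_pow, hπ1, SubmonoidClass.coe_pow]
              show x₀ ^ 3 ∈ zpowers c
              rw [D.cube hx₀P]; exact one_mem _
            have hbb : π s' * π a * (π s')⁻¹ = π a ^ 2 := by
              rw [← hπb, hb]; simp only [map_mul, map_inv]
            rw [hr, map_pow]
            calc π s' ^ 2 * π a * (π s' ^ 2)⁻¹
                = π s' * (π s' * π a * (π s')⁻¹) * (π s')⁻¹ := by rw [sq]; group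
              _ = (π s' * π a * (π s')⁻¹) ^ 2 := by rw [conj_pow, hbb]
              _ = π a ^ (3 + 1) := by rw [hbb, ← pow_mul]
              _ = π a := by rw [pow_succ, h3, one_mul]
        have hzc' : x₀⁻¹ * w⁻¹ * x₀ * w ∈ zpowers c := D.comm_mem hx₀P hbP
        have hfix : s * (x₀⁻¹ * w⁻¹ * x₀ * w) * s⁻¹ = x₀⁻¹ * w⁻¹ * x₀ * w := by
          have hh := himage s' a b hx₀P hbP w x₀⁻¹ hbP (inv_mem hx₀P)
            (by rw [show w = s * x₀ * s⁻¹ from rfl]; show (s * x₀ * s⁻¹)⁻¹ * (s * x₀ * s⁻¹) ∈ _; rw [inv_mul_cancel]; exact one_mem _) (by simpa [ha] using e2)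
          refine hh.trans ?_
          have hc2 : Commute (x₀⁻¹ * w⁻¹ * x₀ * w) x₀ := D.commute hx₀P hzc'
          calc w⁻¹ * x₀⁻¹⁻¹ * w * x₀⁻¹
              = x₀ * (x₀⁻¹ * w⁻¹ * x₀ * w) * x₀⁻¹ := by group
            _ = x₀⁻¹ * w⁻¹ * x₀ * w := by rw [← hc2.eq, mul_inv_cancel_right]
        obtain ⟨i, hi⟩ : ∃ i : ℤ, (x₀⁻¹ * w⁻¹ * x₀ * w) ^ i = z := by
          refine mem_zpowers_iff.1 (?_ : z ∈ zpowers (x₀⁻¹ * w⁻¹ * x₀ * w))
          have hne1 : x₀⁻¹ * w⁻¹ * x₀ * w ≠ 1 := fun e => hne (by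
            have h1 : (w * x₀)⁻¹ * (x₀ * w) = 1 := by rw [← e]; group
            exact inv_mul_eq_one.1 h1)
          rw [eq_of_le_of_card_ge (zpowers_le.2 hzc') (by
            rw [Nat.card_zpowers, Nat.card_zpowers, hc,
              D.exp _ (zpowers_le.2 D.mem hzc') hne1])]
          exact hzc
        rw [← hi, ← conj_zpow, hfix]
    have h8 := card_dvd_of_le hSC
    rw [hSc] at h8
    exact absurd (h8.trans hC108) (by norm_num)
  -- choose the generator
  have hgenS : zpowers h₁ = S :=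
    eq_of_le_of_card_ge (zpowers_le.2 hh₁S) (by rw [Nat.card_zpowers, hh₁o, hSc])
  set g₁ : N := ⟨h₁, hh₁S.1⟩ with hg₁
  have hg₁o : orderOf g₁ = 8 := by rw [← Subgroup.orderOf_coe, hg₁]; exact hh₁o
  have hgS : ∀ n : ℕ, ((g₁ ^ n : N) : G) ∈ S := fun n => by
    rw [SubmonoidClass.coe_pow]; exact pow_mem hh₁S n
  have hgne : ∀ n : ℕ, ¬ 8 ∣ n → g₁ ^ n ≠ 1 := fun n hn' e =>
    hn' (hg₁o ▸ orderOf_dvd_of_pow_eq_one e)
  set a : N := ⟨x₀, hPN hx₀P⟩ with ha
  have haπ : π a ≠ 1 := fun e => hx₀c (hπ1.1 e)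
  -- general coordinates
  have hcoord : ∀ (g : N) (x : G), (g : G) ∈ S → g ^ 2 ≠ 1 → g ≠ 1 → x ∈ (P : Subgroup G) →
      x ∉ zpowers c → ∀ y, y = (g : G) * x * (g : G)⁻¹ →
      Pair x y ∧ y ∈ (P : Subgroup G) ∧ x⁻¹ * y⁻¹ * x * y ∈ zpowers c ∧
        x⁻¹ * y⁻¹ * x * y ≠ 1 ∧ (∀ i, i < 27 → psi x y i ∈ (P : Subgroup G)) ∧
        (∀ u ∈ (P : Subgroup G), ∃ i < 27, psi x y i = u) ∧
        ∀ i < 27, ∀ j < 27, psi x y i = psi x y j → i = j := by
    intro g x hg hg2 hg1 hx hxc y hy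
    have hyP : y ∈ (P : Subgroup G) := hy ▸ hSP g hg x hx
    set ax : N := ⟨x, hPN hx⟩ with hax
    have hxπ : π ax ≠ 1 := fun e => hxc (hπ1.1 e)
    set z := x⁻¹ * y⁻¹ * x * y with hz
    have hzc : z ∈ zpowers c := D.comm_mem hx hyP
    have hne : z ≠ 1 := by
      intro e
      have hcm : y ∈ centralizer ({x} : Set G) := mem_centralizer_singleton_iff.2 (by
        have h1 : (y * x)⁻¹ * (x * y) = 1 := by rw [← e, hz]; group
        exact inv_mul_eq_one.1 h1)
      obtain ⟨i, hi, n, hn', hyi⟩ := D.cent_eq hx hxc hcm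
      have hπy : π g * π ax * (π g)⁻¹ = π ax ^ i := by
        rw [← map_inv, ← map_mul, ← map_mul, ← map_pow, eq_comm, hπ]
        show ((ax ^ i : N) : G)⁻¹ * ((g : G) * x * (g : G)⁻¹) ∈ zpowers c
        rw [← hy, hyi, SubmonoidClass.coe_pow, inv_mul_cancel_left]
        exact hn'
      interval_cases i
      · rw [pow_zero, mul_inv_eq_one, mul_eq_left] at hπy
        exact hxπ hπy
      · rw [pow_one] at hπy; exact hg1 (hfree g hg ax hx hxπ hπy)
      · refine hg2 (hfree (g ^ 2) (by rw [SubmonoidClass.coe_pow]; exact pow_mem hg 2) ax hx hxπ ?_)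
        have h3 : π ax ^ 3 = 1 := by
          rw [← map_pow, hπ1, SubmonoidClass.coe_pow]
          show x ^ 3 ∈ zpowers c
          rw [D.cube hx]; exact one_mem _
        rw [map_pow]
        calc π g ^ 2 * π ax * (π g ^ 2)⁻¹ = π g * (π g * π ax * (π g)⁻¹) * (π g)⁻¹ := by rw [sq]; group
          _ = (π g * π ax * (π g)⁻¹) ^ 2 := by rw [conj_pow, hπy]
          _ = π ax ^ (3 + 1) := by rw [hπy, ← pow_mul]
          _ = π ax := by rw [pow_succ, h3, one_mul]
    have hpair : Pair x y :=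
      ⟨D.cube hx, D.cube hyP, D.commute hx hzc, D.commute hyP hzc,
        D.cube (zpowers_le.2 D.mem hzc)⟩
    have hmem : ∀ i, i < 27 → psi x y i ∈ (P : Subgroup G) := fun i _ =>
      mul_mem (mul_mem (pow_mem hx _) (pow_mem hyP _)) (pow_mem (zpowers_le.2 D.mem hzc) _)
    -- the image is a subgroup
    let K₂ : Subgroup G :=
      { carrier := {u | ∃ i < 27, psi x y i = u}
        one_mem' := ⟨0, by norm_num, psi_zero x y⟩
        mul_mem' := by
          rintro _ _ ⟨i, hi, rfl⟩ ⟨j, hj, rfl⟩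
          exact ⟨_, (mulI_digits ⟨i, hi⟩ ⟨j, hj⟩).1, hpair.psi_mul hi hj⟩
        inv_mem' := by
          rintro _ ⟨i, hi, rfl⟩
          exact ⟨_, powI_lt ⟨i, hi⟩ ⟨2, by norm_num⟩, hpair.psi_inv hi⟩ }
    have hK₂P : K₂ ≤ (P : Subgroup G) := by rintro _ ⟨i, hi, rfl⟩; exact hmem i hi
    have hxK : x ∈ K₂ := ⟨9, by norm_num, psi_nine x y⟩
    have hyK : y ∈ K₂ := ⟨3, by norm_num, psi_three x y⟩
    have hK₂ : K₂ = (P : Subgroup G) := by
      refine eq_of_le_of_card_ge hK₂P ?_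
      rw [D.card]
      obtain ⟨k, hk3, hk⟩ := (Nat.dvd_prime_pow Nat.prime_three).1
        (show Nat.card K₂ ∣ 3 ^ 3 by
          rw [show (3 : ℕ) ^ 3 = 27 by norm_num, ← D.card]; exact card_dvd_of_le hK₂P)
      by_contra hlt
      have hk2 : k ≤ 2 := by
        by_contra h3
        rw [show k = 3 by omega] at hk
        omega
      have hcK : zpowers c ≤ K₂ := by
        have hzK : z ∈ K₂ := ⟨1, by norm_num, psi_one x y⟩
        rw [← eq_of_le_of_card_ge (zpowers_le.2 hzc) (by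
          rw [Nat.card_zpowers, Nat.card_zpowers, hc, D.exp z (zpowers_le.2 D.mem hzc) hne])]
        exact zpowers_le.2 hzK
      -- a group of order at most nine containing both generators
      have hle : centralizer ({x} : Set G) ≤ K₂ := fun u hu => by
        obtain ⟨i, -, n, hn', rfl⟩ := D.cent_eq hx hxc hu
        exact mul_mem (pow_mem hxK i) (hcK hn')
      have heq := eq_of_le_of_card_ge hle (by
        rw [D.nine x hx hxc, hk]
        exact (Nat.pow_le_pow_right (by norm_num) hk2).trans (by norm_num))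
      have hyx : y * x = x * y := mem_centralizer_singleton_iff.1 (heq ▸ hyK)
      exact hne (by rw [hz, show x⁻¹ * y⁻¹ * x * y = (y * x)⁻¹ * (x * y) by group, hyx,
        inv_mul_cancel])
    refine ⟨hpair, hyP, hzc, hne, hmem, fun u hu => (hK₂.symm ▸ hu : u ∈ K₂), fun i hi j hj e => ?_⟩
    let f : Fin 27 → (P : Subgroup G) := fun i => ⟨psi x y i.val, hmem i i.2⟩
    have hf : Function.Surjective f := fun u => by
      obtain ⟨i, hi, e⟩ := (hK₂.symm ▸ u.2 : (u : G) ∈ K₂)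
      exact ⟨⟨i, hi⟩, Subtype.ext e⟩
    have hbij := (Nat.bijective_iff_surjective_and_card f).2 ⟨hf, by rw [Nat.card_fin, D.card]⟩
    exact congrArg Fin.val (hbij.1 (a₁ := ⟨i, hi⟩) (a₂ := ⟨j, hj⟩) (Subtype.ext e))
  -- the square of the generator
  set b : N := g₁ * a * g₁⁻¹ with hb
  obtain ⟨hpair, hbP, hzc, hz1, -, hsurj, -⟩ := hcoord g₁ x₀ hh₁S (hgne 2 (by norm_num))
    (pow_one g₁ ▸ hgne 1 (by norm_num)) hx₀P hx₀c (b : G) rfl
  obtain ⟨i, hi, hpsi⟩ := hsurj (h₁ * (b : G) * h₁⁻¹) (hSP h₁ hh₁S _ hbP)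
  have hπi : π g₁ * π b * (π g₁)⁻¹ = π a ^ (i / 9) * π b ^ (i / 3 % 3) := by
    rw [← map_inv, ← map_mul, ← map_mul, ← map_pow, ← map_pow, ← map_mul, eq_comm, hπ]
    show (x₀ ^ (i / 9) * (b : G) ^ (i / 3 % 3))⁻¹ * (h₁ * (b : G) * h₁⁻¹) ∈ zpowers c
    rw [← hpsi]
    unfold psi
    rw [inv_mul_cancel_left]
    exact pow_mem hzc _
  have hπa3 : π a ^ 3 = 1 := by
    rw [← map_pow, hπ1, SubmonoidClass.coe_pow]
    show x₀ ^ 3 ∈ zpowers c
    rw [D.cube hx₀P]; exact one_mem _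
  have hπb3 : π b ^ 3 = 1 := by
    rw [← map_pow, hπ1, SubmonoidClass.coe_pow, D.cube hbP]; exact one_mem _
  have hπb : π g₁ * π a * (π g₁)⁻¹ = π b := by rw [hb]; simp only [map_mul, map_inv]
  have hneg : π g₁ ^ 4 * π a * (π g₁ ^ 4)⁻¹ = (π a)⁻¹ := by
    rw [← map_pow]
    exact hinv (g₁ ^ 4) (hgS 4) (by rw [← pow_mul]; exact orderOf_dvd_iff_pow_eq_one.1 (by rw [hg₁o]))
      (hgne 4 (by norm_num)) a hx₀P
  have hbπ : π b ≠ 1 := fun e => haπ (by
    rw [show π a = (π g₁)⁻¹ * π b * π g₁ by rw [← hπb]; group, e]; group)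
  -- the coefficient of `x` is one
  have hα : i / 9 = 1 := by
    rcases (show i / 9 = 0 ∨ i / 9 = 1 ∨ i / 9 = 2 by omega) with e | e | e
    · exfalso
      rw [e, pow_zero, one_mul] at hπi
      rcases (show i / 3 % 3 = 0 ∨ i / 3 % 3 = 1 ∨ i / 3 % 3 = 2 by omega) with k | k | k <;>
        rw [k] at hπi
      · rw [pow_zero, mul_inv_eq_one, mul_eq_left] at hπi
        exact hbπ hπi
      · rw [pow_one] at hπi
        exact hgne 1 (by norm_num)
          ((pow_one g₁).symm ▸ hfree g₁ hh₁S b hbP hbπ hπi)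
      · refine hgne 2 (by norm_num) (hfree (g₁ ^ 2) (hgS 2) b hbP hbπ ?_)
        rw [map_pow]
        calc π g₁ ^ 2 * π b * (π g₁ ^ 2)⁻¹
            = π g₁ * (π g₁ * π b * (π g₁)⁻¹) * (π g₁)⁻¹ := by rw [sq]; group
          _ = (π g₁ * π b * (π g₁)⁻¹) ^ 2 := by rw [conj_pow, hπi]
          _ = π b ^ (3 + 1) := by rw [hπi, ← pow_mul]
          _ = π b := by rw [pow_succ, hπb3, one_mul]
    · exact e
    · exfalso
      -- the commutator would be fixed by the generator
      have hcomm := hpair.psi_comm (p := 3) (q := i) (by norm_num) hi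
      have hc1 : commI 3 i = 1 := by
        have := commI_outer ⟨i / 3 % 3, Nat.mod_lt _ (by norm_num)⟩
          ⟨i % 3, Nat.mod_lt _ (by norm_num)⟩
        rwa [show 18 + 3 * (i / 3 % 3) + i % 3 = i by omega] at this
      rw [hc1, psi_one, psi_three, hpsi] at hcomm
      have hfix : h₁ * (x₀⁻¹ * (b : G)⁻¹ * x₀ * b) * h₁⁻¹ = x₀⁻¹ * (b : G)⁻¹ * x₀ * b := by
        rw [show h₁ * (x₀⁻¹ * (b : G)⁻¹ * x₀ * b) * h₁⁻¹ = (h₁ * x₀ * h₁⁻¹)⁻¹ *
          (h₁ * (b : G) * h₁⁻¹)⁻¹ * (h₁ * x₀ * h₁⁻¹) * (h₁ * (b : G) * h₁⁻¹) by group]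
        exact hcomm.symm
      have hSC : S ≤ centralizer ({c} : Set G) := by
        rw [← hgenS, zpowers_le, mem_centralizer_singleton_iff]
        obtain ⟨j, hj⟩ : ∃ j : ℤ, (x₀⁻¹ * (b : G)⁻¹ * x₀ * b) ^ j = c := by
          refine mem_zpowers_iff.1 ?_
          rw [eq_of_le_of_card_ge (zpowers_le.2 hzc) (by
            rw [Nat.card_zpowers, Nat.card_zpowers, hc,
              D.exp _ (zpowers_le.2 D.mem hzc) hz1])]
          exact mem_zpowers c
        rw [← hj]
        exact ((show Commute h₁ _ from mul_inv_eq_iff_eq_mul.1 hfix).zpow_right j).eq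
      have h8 := card_dvd_of_le hSC
      rw [hSc] at h8
      exact absurd (h8.trans hC108) (by norm_num)
  rw [hα, pow_one] at hπi
  -- the generator with coefficient one at `y`
  obtain ⟨g, hgS', hg1, hg2, hgrel⟩ : ∃ g : N, (g : G) ∈ S ∧ orderOf g = 8 ∧ g ^ 2 ≠ 1 ∧
      π g ^ 2 * π a * (π g ^ 2)⁻¹ = π a * (π g * π a * (π g)⁻¹) := by
    have hsq : π g₁ ^ 2 * π a * (π g₁ ^ 2)⁻¹ = π g₁ * π b * (π g₁)⁻¹ := by rw [← hπb, sq]; group
    rcases (show i / 3 % 3 = 0 ∨ i / 3 % 3 = 1 ∨ i / 3 % 3 = 2 by omega) with k | k | k <;>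
      rw [k] at hπi
    · exfalso
      rw [pow_zero, mul_one, ← hsq, ← map_pow] at hπi
      exact hgne 2 (by norm_num) (hfree _ (hgS 2) a hx₀P haπ hπi)
    · exact ⟨g₁, hh₁S, hg₁o, hgne 2 (by norm_num),
        by rw [hsq, hπi, pow_one, hπb]⟩
    · refine ⟨g₁ ^ 5, hgS 5, ?_, ?_, ?_⟩
      · rw [orderOf_pow, hg₁o]; rfl
      · rw [← pow_mul]; exact hgne 10 (by norm_num)
      · have h10 : (g₁ ^ 5) ^ 2 = g₁ ^ 2 := by
          rw [← pow_mul, pow_eq_pow_mod (n := 8) 10 (orderOf_dvd_iff_pow_eq_one.1 (by rw [hg₁o]))]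
        rw [← map_pow, h10, map_pow, map_pow, hsq, hπi]
        congr 1
        have hb2 : π b ^ 2 = (π b)⁻¹ :=
          eq_inv_of_mul_eq_one_left (by rw [← pow_succ]; exact hπb3)
        rw [hb2]
        calc (π b)⁻¹ = π g₁ * (π g₁ ^ 4 * π a * (π g₁ ^ 4)⁻¹) * (π g₁)⁻¹ := by
              rw [hneg, ← hπb]; group
          _ = π g₁ ^ 5 * π a * (π g₁ ^ 5)⁻¹ := by group
  -- adjust `x`
  have hgne1 : g ≠ 1 := fun e => by rw [e, orderOf_one] at hg1; norm_num at hg1
  set y := (g : G) * x₀ * (g : G)⁻¹ with hy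
  obtain ⟨hpair', hyP, hzc', hz1', -, -, -⟩ := hcoord g x₀ hgS' hg2 hgne1 hx₀P hx₀c y rfl
  set z := x₀⁻¹ * y⁻¹ * x₀ * y with hz
  have hzrel : (x₀ * y)⁻¹ * ((g : G) * y * (g : G)⁻¹) ∈ zpowers c := by
    set ay : N := g * a * g⁻¹ with hay
    have h1 : π (g * ay * g⁻¹) = π (a * ay) := by
      simp only [hay, map_mul, map_inv]
      rw [← hgrel, sq]; group
    rw [eq_comm, hπ] at h1
    simpa [hay, ha, hy] using h1
  have hzgen : zpowers z = zpowers c := eq_of_le_of_card_ge (zpowers_le.2 hzc')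
    (by rw [Nat.card_zpowers, Nat.card_zpowers, hc, D.exp z (zpowers_le.2 D.mem hzc') hz1'])
  obtain ⟨γ, hγ⟩ : ∃ γ : ℕ, (g : G) * y * (g : G)⁻¹ = x₀ * y * z ^ γ := by
    obtain ⟨j, hj⟩ := (Submonoid.mem_powers_iff _ _).1
      (mem_powers_iff_mem_zpowers.2 (hzgen.symm ▸ hzrel))
    exact ⟨j, by rw [hj, mul_inv_cancel_left]⟩
  have hz3 : z ^ 3 = 1 := D.cube (zpowers_le.2 D.mem hzc')
  have hgz : (g : G) * z * (g : G)⁻¹ = z⁻¹ := by
    have hh : (g : G) * y * (g : G)⁻¹ = psi x₀ y (12 + γ % 3) := by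
      rw [hγ]; unfold psi
      rw [← hz, show (12 + γ % 3) / 9 = 1 by omega, show (12 + γ % 3) / 3 % 3 = 1 by omega,
        show (12 + γ % 3) % 3 = γ % 3 by omega, pow_one, pow_one, ← pow_eq_pow_mod _ hz3]
    have hc3 : ∀ j : Fin 3, commI 3 (12 + j.val) = 2 := by decide +kernel
    have h1 := hpair'.psi_comm (p := 3) (q := 12 + γ % 3) (by norm_num) (by omega)
    rw [hc3 ⟨γ % 3, Nat.mod_lt _ (by norm_num)⟩, psi_three, ← hh] at h1
    have h2 : psi x₀ y 2 = z⁻¹ := by
      unfold psi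
      rw [← hz]
      simp only [Nat.reduceDiv, Nat.reduceMod, pow_zero, one_mul]
      exact eq_inv_of_mul_eq_one_left (by rw [← pow_succ]; exact hz3)
    rw [h2] at h1
    rw [h1, hz, show (g : G) * (x₀⁻¹ * y⁻¹ * x₀ * y) * (g : G)⁻¹ =
      ((g : G) * x₀ * (g : G)⁻¹)⁻¹ * ((g : G) * y * (g : G)⁻¹)⁻¹ * ((g : G) * x₀ * (g : G)⁻¹) *
        ((g : G) * y * (g : G)⁻¹) by group, ← hy]
  set k := 2 * γ with hk
  set x := x₀ * z ^ k with hx
  have hxP : x ∈ (P : Subgroup G) := mul_mem hx₀P (pow_mem (zpowers_le.2 D.mem hzc') _)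
  have hxc : x ∉ zpowers c := fun e => hx₀c (by
    have := mul_mem e (inv_mem (pow_mem hzc' k))
    rwa [hx, mul_inv_cancel_right] at this)
  set y' := (g : G) * x * (g : G)⁻¹ with hy'
  obtain ⟨hP2, -, -, -, hmem2, hsurj2, hinj2⟩ := hcoord g x hgS' hg2 hgne1 hxP hxc y' rfl
  refine ⟨{
    P := P, Q := Q, hne := hQ, hdisj := hdisj, trans := htrans
    x := x, y := y', pair := hP2, mem := hmem2, surj := hsurj2, inj := hinj2
    h := (g : G)
    hord := by rw [Subgroup.orderOf_coe]; exact hg1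
    hP := hgS'.1, hQ := hgS'.2
    hx := rfl
    hy := ?_
    stab := fun u h1 h2 => ?_ }⟩
  · have hgzk : (g : G) * z ^ k * (g : G)⁻¹ = (z ^ k)⁻¹ := by rw [← conj_pow, hgz, inv_pow]
    have hy'' : y' = y * (z ^ k)⁻¹ := by rw [hy', hx, ← hgzk, hy]; group
    rw [hy'', hx]
    have hgk : (g : G) * (z ^ k)⁻¹ * (g : G)⁻¹ = z ^ k := by
      rw [show (g : G) * (z ^ k)⁻¹ * (g : G)⁻¹ = ((g : G) * z ^ k * (g : G)⁻¹)⁻¹ by group, hgzk,
        inv_inv]
    rw [show (g : G) * (y * (z ^ k)⁻¹) * (g : G)⁻¹ =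
      ((g : G) * y * (g : G)⁻¹) * ((g : G) * (z ^ k)⁻¹ * (g : G)⁻¹) by group, hgk, hγ]
    have hcy : Commute (z ^ k) y := D.commute hyP (pow_mem hzc' k)
    rw [show x₀ * z ^ k * (y * (z ^ k)⁻¹) = x₀ * (z ^ k * y) * (z ^ k)⁻¹ by group, hcy.eq,
      show x₀ * (y * z ^ k) * (z ^ k)⁻¹ = x₀ * y by group, mul_assoc (x₀ * y), ← pow_add,
      show γ + k = 3 * γ by omega, pow_mul, hz3, one_pow, mul_one]
  · have hgen : zpowers (g : G) = S := eq_of_le_of_card_ge (zpowers_le.2 hgS')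
      (by rw [Nat.card_zpowers, Subgroup.orderOf_coe, hg1, hSc])
    rw [hgen]
    exact ⟨h1, h2⟩

end Cfsg.Agent.U33Rec
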