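import Cfsg.Agent.U33Rec.Count

/-!
Involutions inverting an element of order seven with self centralising cyclic group.
-/

set_option autoImplicit false
set_option linter.unusedSectionVars false

namespace Cfsg.Agent.U33Rec

open Subgroup

universe u

variable {G : Type u} [Group G] [Fintype G] {z : G}

theorem centralizer_eq_zpowers (hz : orderOf z = 7)
    (hzC : Nat.card (centralizer ({z} : Set G)) = 7) :
    centralizer ({z} : Set G) = zpowers z :=
  (eq_of_le_of_card_ge (zpowers_le.2 (mem_centralizer_singleton_iff.2 rfl))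
    (by rw [hzC, Nat.card_zpowers, hz])).symm

theorem mul_self_of_orderOf {g : G} (hg : orderOf g = 2) : g * g = 1 := by
  have := pow_orderOf_eq_one g
  rwa [hg, sq] at this

theorem inv_of_orderOf {g : G} (hg : orderOf g = 2) : g⁻¹ = g :=
  inv_eq_of_mul_eq_one_right (mul_self_of_orderOf hg)

/-- An involution normalising but not centralising inverts. -/
theorem inverts_of_normalizes (hz : orderOf z = 7)
    (hzC : Nat.card (centralizer ({z} : Set G)) = 7) {u : G} (hu : orderOf u = 2)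
    (hN : u ∈ normalizer ((zpowers z : Subgroup G) : Set G))
    (hC : u ∉ centralizer ({z} : Set G)) : u * z * u⁻¹ = z⁻¹ := by
  have : Fact (Nat.Prime 7) := ⟨by norm_num⟩
  have hmem : u * z * u⁻¹ ∈ zpowers z := (mem_normalizer_iff.1 hN z).1 (mem_zpowers z)
  obtain ⟨i, hi⟩ := mem_zpowers_iff.1 hmem
  by_contra hne
  have hx : z * (u * z * u⁻¹) ≠ 1 := fun e => hne (eq_inv_of_mul_eq_one_right e)
  have hgen : zpowers (z * (u * z * u⁻¹)) = zpowers z := by
    refine eq_of_le_of_card_ge (zpowers_le.2 (mul_mem (mem_zpowers z) hmem)) ?_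
    rw [Nat.card_zpowers, Nat.card_zpowers, hz]
    refine le_of_eq (orderOf_eq_prime ?_ hx).symm
    rw [← hz]
    exact orderOf_dvd_iff_pow_eq_one.1 (orderOf_dvd_of_mem_zpowers
      (mul_mem (mem_zpowers z) hmem))
  have hfix : u * (z * (u * z * u⁻¹)) * u⁻¹ = z * (u * z * u⁻¹) := by
    have hcc : u * z * u⁻¹ * z = z * (u * z * u⁻¹) := by
      rw [← hi, ← zpow_add_one, ← zpow_one_add, add_comm]
    calc u * (z * (u * z * u⁻¹)) * u⁻¹ = u * z * u⁻¹ * ((u * u) * z * (u * u)⁻¹) := by group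
      _ = u * z * u⁻¹ * z := by rw [mul_self_of_orderOf hu, one_mul, inv_one, mul_one]
      _ = z * (u * z * u⁻¹) := hcc
  refine hC ?_
  obtain ⟨j, hj⟩ := mem_zpowers_iff.1 (hgen.symm ▸ mem_zpowers z : z ∈ zpowers (z * (u * z * u⁻¹)))
  rw [mem_centralizer_singleton_iff]
  have h1 : Commute u (z * (u * z * u⁻¹)) := mul_inv_eq_iff_eq_mul.1 hfix
  have h2 := (h1.zpow_right j).eq
  rwa [hj] at h2

/-- All involutions which invert `z` are conjugate. -/
theorem isConj_of_inverts (hz : orderOf z = 7)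
    (hzC : Nat.card (centralizer ({z} : Set G)) = 7) {t u : G} (ht : orderOf t = 2)
    (hu : orderOf u = 2) (hti : t * z * t⁻¹ = z⁻¹) (hui : u * z * u⁻¹ = z⁻¹) :
    ∃ c ∈ zpowers z, u = c * t * c⁻¹ := by
  have hmem : t * u ∈ centralizer ({z} : Set G) := by
    rw [mem_centralizer_singleton_iff]
    refine mul_inv_eq_iff_eq_mul.1 ?_
    calc t * u * z * (t * u)⁻¹ = t * (u * z * u⁻¹) * t⁻¹ := by group
      _ = (t * z * t⁻¹)⁻¹ := by rw [hui]; group
      _ = z := by rw [hti, inv_inv]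
  rw [centralizer_eq_zpowers hz hzC] at hmem
  obtain ⟨i, hi⟩ := mem_zpowers_iff.1 hmem
  refine ⟨z ^ (3 * i), zpow_mem (mem_zpowers z) _, ?_⟩
  have h7 : z ^ (7 : ℤ) = 1 := by
    have := pow_orderOf_eq_one z
    rw [hz] at this
    exact_mod_cast this
  have hu' : u = t * z ^ i := by
    rw [hi, ← mul_assoc, mul_self_of_orderOf ht, one_mul]
  have hconj : ∀ n : ℤ, t * z ^ n * t⁻¹ = z ^ (-n) := fun n => by
    rw [← conj_zpow, hti, inv_zpow, zpow_neg]
  have hswap : z ^ (3 * i) * t = t * z ^ (-(3 * i)) := by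
    have h := hconj (-(3 * i))
    rw [neg_neg] at h
    rw [← h, inv_mul_cancel_right]
  rw [hswap, hu', mul_assoc, ← zpow_neg, ← zpow_add]
  congr 1
  rw [show -(3 * i) + -(3 * i) = i + 7 * (-i) by ring, zpow_add, zpow_mul, h7, one_zpow, mul_one]

/-- The conjugates of `t` which invert `z`. -/
theorem card_conj_inverts (hz : orderOf z = 7)
    (hzC : Nat.card (centralizer ({z} : Set G)) = 7) {t : G} (ht : orderOf t = 2)
    (hti : t * z * t⁻¹ = z⁻¹) :
    Nat.card {a : G // IsConj (a * t * a⁻¹ * z) t} =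
      7 * Nat.card (centralizer ({t} : Set G)) := by
  classical
  have hdisj : ∀ c ∈ zpowers z, c ∈ centralizer ({t} : Set G) → c = 1 := by
    intro c hc hct
    obtain ⟨i, rfl⟩ := mem_zpowers_iff.1 hc
    rw [mem_centralizer_singleton_iff] at hct
    have h1 : t * z ^ i * t⁻¹ = z ^ i := by rw [← hct, mul_inv_cancel_right]
    rw [← conj_zpow, hti, inv_zpow] at h1
    have h2 : orderOf (z ^ i) ∣ 2 := orderOf_dvd_of_pow_eq_one (by
      rw [sq]; nth_rw 1 [← h1]; exact inv_mul_cancel _)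
    have h3 : orderOf (z ^ i) ∣ 7 := hz ▸ orderOf_dvd_of_mem_zpowers hc
    exact orderOf_eq_one_iff.1 (Nat.eq_one_of_dvd_coprimes (by norm_num) h2 h3)
  have hord : ∀ a : G, orderOf (a * t * a⁻¹) = 2 := fun a => by
    rw [show a * t * a⁻¹ = MulAut.conj a t from rfl, MulEquiv.orderOf_eq, ht]
  rw [← hzC, ← Nat.card_prod, centralizer_eq_zpowers hz hzC]
  refine (Nat.card_eq_of_bijective (fun p : zpowers z × centralizer ({t} : Set G) =>
    (⟨(p.1 : G) * p.2, ?_⟩ : {a : G // IsConj (a * t * a⁻¹ * z) t})) ⟨?_, ?_⟩).symm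
  · -- the product inverts `z`
    have hc2 : (p.1 : G) * p.2 * t * ((p.1 : G) * p.2)⁻¹ = p.1 * t * (p.1 : G)⁻¹ := by
      have := mem_centralizer_singleton_iff.1 p.2.2
      calc (p.1 : G) * p.2 * t * ((p.1 : G) * p.2)⁻¹
          = (p.1 : G) * ((p.2 : G) * t) * (p.2 : G)⁻¹ * (p.1 : G)⁻¹ := by group
        _ = p.1 * t * (p.1 : G)⁻¹ := by rw [this]; group
    rw [hc2]
    obtain ⟨i, hi⟩ := mem_zpowers_iff.1 p.1.2
    rw [← hi]
    set u := z ^ i * t * (z ^ i)⁻¹ with hu
    have huo : orderOf u = 2 := hord _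
    have hui : u * z * u⁻¹ = z⁻¹ := by
      calc u * z * u⁻¹ = z ^ i * (t * ((z ^ i)⁻¹ * z * z ^ i) * t⁻¹) * (z ^ i)⁻¹ := by
            rw [hu]; group
        _ = z ^ i * (t * z * t⁻¹) * (z ^ i)⁻¹ := by
            rw [show (z ^ i)⁻¹ * z * z ^ i = z by group]
        _ = z⁻¹ := by rw [hti]; group
    have huz : orderOf (u * z) = 2 := by
      refine orderOf_eq_prime ?_ fun e => ?_
      · calc (u * z) ^ 2 = u * z * u⁻¹ * z := by rw [sq, inv_of_orderOf huo]; group
          _ = 1 := by rw [hui, inv_mul_cancel]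
      · have h1 := huo
        rw [eq_inv_of_mul_eq_one_left e, orderOf_inv, hz] at h1
        norm_num at h1
    have huzi : (u * z) * z * (u * z)⁻¹ = z⁻¹ := by
      calc (u * z) * z * (u * z)⁻¹ = u * z * u⁻¹ := by group
        _ = z⁻¹ := hui
    obtain ⟨c, -, hc⟩ := isConj_of_inverts hz hzC ht huz hti huzi
    exact isConj_iff.2 ⟨c⁻¹, by rw [hc]; group⟩
  · rintro ⟨c, d⟩ ⟨c', d'⟩ h
    have h1 : (c : G) * d = c' * d' := congrArg Subtype.val h
    have h2 : (c' : G)⁻¹ * c = d' * (d : G)⁻¹ := by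
      rw [eq_mul_inv_iff_mul_eq, mul_assoc, h1, inv_mul_cancel_left]
    have h3 := hdisj _ (mul_mem (inv_mem c'.2) c.2) (h2 ▸ mul_mem d'.2 (inv_mem d.2))
    have h4 : (c : G) = c' := (inv_mul_eq_one.1 h3).symm
    refine Prod.ext (Subtype.ext h4) (Subtype.ext ?_)
    rw [h4] at h1
    exact mul_left_cancel h1
  · rintro ⟨a, ha⟩
    obtain ⟨c, hc, hca⟩ := isConj_of_inverts hz hzC ht (hord a) hti
      (inverts_of_isConj_mul ht ht ha)
    refine ⟨(⟨c, hc⟩, ⟨c⁻¹ * a, mem_centralizer_singleton_iff.2 ?_⟩), Subtype.ext ?_⟩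
    · calc c⁻¹ * a * t = c⁻¹ * (a * t * a⁻¹) * a := by group
        _ = t * (c⁻¹ * a) := by rw [hca]; group
    · exact mul_inv_cancel_left c a

end Cfsg.Agent.U33Rec
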