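import Mathlib.GroupTheory.Perm.Basic
import Mathlib.Algebra.Group.Subgroup.Lattice
import Mathlib.Data.Fintype.Card

/-!
The model of `U₃(3)` on 28 points: a point at infinity (27) and the Heisenberg group of order 27,
the element `x ^ a * y ^ b * z ^ c` with `z = x⁻¹ y⁻¹ x y` having the number `9 a + 3 b + c`.
-/

set_option autoImplicit false

namespace Cfsg.Agent.U33Rec

/-- A five-bit field of a packed table. -/
def fld (c i : ℕ) : ℕ := c / 32 ^ i % 32

/-- The product in the Heisenberg group. -/
def mulI (i j : ℕ) : ℕ :=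
  if j = 27 then 27 else
    9 * ((i / 9 + j / 9) % 3) + 3 * ((i / 3 % 3 + j / 3 % 3) % 3) +
      ((i % 3 + j % 3 + 9 - (i / 3 % 3) * (j / 9)) % 3)

/-- The powers of the automorphism `x ↦ y ↦ x y`. -/
def hpTab : ℕ := 0xd98e8d63308bd8d710a3bd6d3a494b48440dca93320ed6386522d49d671183eb7b0820dbe1194e851912a5deb631d0c6bb3ac0440db9ac7c60a4aed5beb3895263290e640820d90a3731b5b5f19d18e87c22952e9298440dad4920cb9c690734a9373596ade0f88820ddeb65a54741a7493e1121478ce9ae60440deb38bdab49ca307b9ac5a928398a418820

/-- The power `k` of the automorphism at a point. -/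
def hp (k i : ℕ) : ℕ := fld hpTab (28 * (k % 8) + i)

/-- The orbit number of a point. -/
def orbOf (i : ℕ) : ℕ := fld 0x440080420040208440088001044100000 i

/-- The position of a point in its orbit. -/
def posOf (i : ℕ) : ℕ := fld 0x14a5318c318c421042139ce42100000000 i

/-- The element which swaps infinity and the origin. -/
def w0 (i : ℕ) : ℕ := fld 0x26ae45e875e1ea1ce1a616466c7362083b i

/-- The outer automorphism. -/
def a0 (i : ℕ) : ℕ := fld 0xdc60fc6b27321cd65ab71948b5269390820 i

/-- A map on the points given by `j` and the images of the representatives `3, 4, 5`. -/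
def cand (j p0 p1 p2 i : ℕ) : ℕ :=
  if i = 0 then 27 else if i = 27 then 0 else if i < 3 then i else
    hp (j * posOf i) (if orbOf i = 0 then p0 else if orbOf i = 1 then p1 else p2)

/-- The point `z⁻¹ (w z w)` agrees with `h ^ k w z`. -/
def zTest (w : ℕ → ℕ) : Bool :=
  (List.range 8).any fun k => (List.range 28).all fun i =>
    w (mulI 1 (w i)) == mulI 1 (hp k (w (mulI 1 i)))

/-- The point `w x w` lies in the double coset. -/
def xTest (w : ℕ → ℕ) : Bool :=
  (List.range 27).any fun v => (List.range 8).any fun k => (List.range 28).all fun i =>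
    w (mulI 9 (w i)) == mulI (w 9) (hp k (w (mulI v i)))

/-- The map is `w0` times an even power of the automorphism. -/
def inCoset (w : ℕ → ℕ) : Bool :=
  (List.range 4).any fun e => (List.range 28).all fun i => w i == w0 (hp (2 * e) i)

theorem search :
    ([1, 3, 5, 7].all fun j => (List.range' 3 24).all fun p0 => (List.range' 3 24).all fun p1 =>
      orbOf p1 == orbOf p0 || (List.range' 3 24).all fun p2 =>
        orbOf p2 == orbOf p0 || (orbOf p2 == orbOf p1 ||
          (!zTest (cand j p0 p1 p2) || (!xTest (cand j p0 p1 p2) || inCoset (cand j p0 p1 p2))))) =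
      true := by
  decide +kernel

/-- The images of `x ^ a * y ^ b * z ^ c` under the map with `x ↦ p` and `y ↦ h ^ k p`. -/
def autCand (k p q : ℕ) : ℕ :=
  let py := hp k p
  let pz := mulI (mulI (mulI p p) (mulI py py)) (mulI p py)
  let pw := fun r n => if n = 0 then 0 else if n = 1 then r else mulI r r
  if q = 27 then 27 else mulI (mulI (pw p (q / 9)) (pw py (q / 3 % 3))) (pw pz (q % 3))

theorem aut_search :
    ([1, 3, 5, 7].all fun k => (List.range' 1 26).all fun p =>
      !((List.range 27).all fun q => autCand k p (hp 1 q) == hp k (autCand k p q)) ||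
        (List.range 8).any fun e => (List.range 28).all (fun q => autCand k p q == hp e q) ||
          (List.range 28).all (fun q => autCand k p q == a0 (hp e q))) = true := by
  decide +kernel

/-- Only translations of the stabiliser of infinity have order three. -/
theorem cube_search :
    ((List.range 27).all fun u => (List.range' 1 7).all fun k =>
      (List.range 28).any fun i =>
        !(mulI u (hp k (mulI u (hp k (mulI u (hp k i))))) == i)) = true := by
  decide +kernel

theorem mulI_lt : ∀ i : Fin 27, ∀ j : Fin 28, mulI i.val j.val < 28 := by decide +kernel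

theorem hp_lt : ∀ k : Fin 8, ∀ i : Fin 28, hp k.val i.val < 28 := by decide +kernel

theorem hp_fix : ∀ k : Fin 8, hp k.val 27 = 27 ∧ hp k.val 0 = 0 := by decide +kernel

theorem hp_succ : ∀ k : Fin 8, ∀ i : Fin 28, hp 1 (hp k.val i.val) = hp (k.val + 1) i.val := by
  decide +kernel

theorem hp_zero : ∀ i : Fin 28, hp 0 i.val = i.val := by decide +kernel

theorem hp_four : ∀ i : Fin 27, hp 4 i.val = i.val → i.val < 3 := by decide +kernel

theorem hp_two : ∀ i : Fin 27, hp 2 i.val = i.val ↔ i.val < 3 := by decide +kernel

theorem hp_small : hp 1 1 = 2 ∧ hp 1 2 = 1 := by decide +kernel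

theorem hp_rep : ∀ i : Fin 27, 3 ≤ i.val →
    orbOf i.val < 3 ∧ posOf i.val < 8 ∧ hp (posOf i.val) (3 + orbOf i.val) = i.val := by
  decide +kernel

theorem mulI_split : ∀ i : Fin 27,
    mulI (mulI (mulI 0 (if i.val / 9 = 0 then 0 else if i.val / 9 = 1 then 9 else 18))
      (if i.val / 3 % 3 = 0 then 0 else if i.val / 3 % 3 = 1 then 3 else 6)) (i.val % 3) = i.val := by
  decide +kernel

theorem a0_bij : ∀ i : Fin 28, a0 i.val < 28 ∧ w0 i.val < 28 := by decide +kernel

end Cfsg.Agent.U33Rec
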