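import Cfsg.Agent.U33Rec.Inverting
import Cfsg.Agent.SmallOrder.Basic
import Mathlib.GroupTheory.Sylow
import Mathlib.GroupTheory.SpecificGroups.Cyclic

/-!
Sylow 7-subgroups in groups of order `7 m` with self centralising elements of order seven.
-/

set_option autoImplicit false
set_option linter.unusedSectionVars false

namespace Cfsg.Agent.U33Rec

open Subgroup

universe u

variable {G : Type u} [Group G] [Finite G] {z : G}

/-- The normaliser has order dividing 42. -/
theorem card_normalizer_seven (hz : orderOf z = 7)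
    (hzC : Nat.card (centralizer ({z} : Set G)) = 7) :
    Nat.card (normalizer ((zpowers z : Subgroup G) : Set G)) ∣ 42 ∧
      7 ∣ Nat.card (normalizer ((zpowers z : Subgroup G) : Set G)) := by
  have h7 : Nat.card (zpowers z) = 7 := by rw [Nat.card_zpowers, hz]
  refine ⟨?_, h7 ▸ card_dvd_of_le le_normalizer⟩
  set f := (zpowers z).normalizerMonoidHom with hf
  have hC : centralizer ((zpowers z : Subgroup G) : Set G) = centralizer ({z} : Set G) := by
    refine le_antisymm (centralizer_le (Set.singleton_subset_iff.2 (mem_zpowers z))) fun g hg => ?_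
    refine mem_centralizer_iff.2 fun t ht => ?_
    obtain ⟨n, rfl⟩ := mem_zpowers_iff.1 ht
    exact ((show Commute g z from mem_centralizer_singleton_iff.1 hg).zpow_right n).symm.eq
  have h1 : Nat.card f.ker = 7 := by
    rw [hf, normalizerMonoidHom_ker,
      Nat.card_congr (subgroupOfEquivOfLe (centralizer_le_normalizer _)).toEquiv, hC, hzC]
  have h2 : Nat.card f.range ∣ 6 := by
    have h := card_subgroup_dvd_card f.range
    rw [IsCyclic.card_mulAut, h7, Nat.totient_prime (by norm_num)] at h
    exact h
  have h3 := f.ker.card_mul_index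
  rw [index_ker, h1] at h3
  rw [← h3]
  exact (Nat.mul_dvd_mul_left 7 h2)

/-- The number of Sylow 7-subgroups is one modulo seven. -/
theorem index_normalizer_seven (hz : orderOf z = 7) (h49 : ¬ 7 * 7 ∣ Nat.card G) :
    Nat.card G / Nat.card (normalizer ((zpowers z : Subgroup G) : Set G)) % 7 = 1 := by
  have : Fact (Nat.Prime 7) := ⟨by norm_num⟩
  have h7 : Nat.card (zpowers z) = 7 := by rw [Nat.card_zpowers, hz]
  have hfac : (Nat.card G).factorization 7 = 1 := by
    have hd : 7 ∣ Nat.card G := hz ▸ orderOf_dvd_natCard z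
    have h1 := Nat.Prime.factorization_pos_of_dvd (by norm_num) Nat.card_pos.ne' hd
    by_contra hne
    exact h49 ((Nat.pow_dvd_pow 7 (show 2 ≤ _ by omega)).trans (Nat.ordProj_dvd (Nat.card G) 7))
  set P : Sylow 7 G := Sylow.ofCard (zpowers z) (by rw [hfac, h7, pow_one]) with hP
  have h1 := SmallOrder.card_sylow_mul_card_normalizer P
  have hPz : (P : Subgroup G) = zpowers z := rfl
  rw [hPz] at h1
  rw [← h1, Nat.mul_div_cancel _ Nat.card_pos]
  exact card_sylow_modEq_one 7 G

/-- A subgroup of order prime to seven normalised by `z` has order one modulo seven. -/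
theorem card_mod_seven (hz : orderOf z = 7)
    (hzC : Nat.card (centralizer ({z} : Set G)) = 7) {L : Subgroup G}
    (hzL : z ∈ normalizer (L : Set G)) (h : ¬ 7 ∣ Nat.card L) : Nat.card L % 7 = 1 := by
  have : Fact (Nat.Prime 7) := ⟨by norm_num⟩
  set Z : Subgroup (normalizer (L : Set G) : Subgroup G) := zpowers ⟨z, hzL⟩ with hZ
  let ι : Z →* MulAut L := L.normalizerMonoidHom.comp Z.subtype
  letI : MulAction Z L := MulAction.compHom L ι
  have hp : IsPGroup 7 Z := IsPGroup.of_card (n := 1) (by
    rw [hZ, Nat.card_zpowers, ← Subgroup.orderOf_coe, hz, pow_one])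
  have h1 := hp.card_modEq_card_fixedPoints L
  have h2 : MulAction.fixedPoints Z L = {1} := by
    ext a
    rw [Set.mem_singleton_iff, MulAction.mem_fixedPoints]
    constructor
    · intro ha
      have h3 := congrArg Subtype.val (ha ⟨⟨z, hzL⟩, mem_zpowers _⟩)
      have h4 : z * (a : G) * z⁻¹ = a := h3
      have h5 : (a : G) ∈ centralizer ({z} : Set G) :=
        mem_centralizer_singleton_iff.2 (mul_inv_eq_iff_eq_mul.1 h4).symm
      refine Subtype.ext (orderOf_eq_one_iff.1 ?_)
      have h6 := Subgroup.orderOf_dvd_natCard _ h5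
      rw [hzC] at h6
      rcases (Nat.dvd_prime (by norm_num)).1 h6 with e | e
      · exact e
      · exact absurd (e ▸ Subgroup.orderOf_dvd_natCard L a.2) h
    · rintro rfl g
      exact map_one (ι g)
  rw [h2, show Nat.card ({1} : Set L) = 1 from Nat.card_unique] at h1
  exact h1

end Cfsg.Agent.U33Rec
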