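import Cfsg.Agent.U33Rec.Degrees
import Mathlib.GroupTheory.PGroup

/-!
The Sylow 3-subgroups of a simple group of order 6048 in which elements of order seven are self
centralising: there are 28, any two of them meeting trivially.
-/

set_option autoImplicit false
set_option linter.unusedSectionVars false
set_option maxRecDepth 4000
set_option synthInstance.maxSize 5000

namespace Cfsg.Agent.U33Rec

open Subgroup
open scoped ComplexConjugate

universe u

/-- The value of `99 - 13 |a| ^ 2 - 3 (a + ā)`. -/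
def fval (n₁ n₂ : ℕ) : ℤ :=
  99 - 13 * ((6 - (n₁ : ℤ) - n₂) ^ 2 + (n₁ : ℤ) ^ 2 + (n₂ : ℤ) ^ 2 - (6 - (n₁ : ℤ) - n₂) * n₁ -
    (6 - (n₁ : ℤ) - n₂) * n₂ - (n₁ : ℤ) * n₂) - 3 * (12 - 3 * (n₁ : ℤ) - 3 * n₂)

theorem central_check : ∀ n₁ < 7, ∀ n₂ < 7, n₁ + n₂ ≤ 6 → 0 ≤ fval n₁ n₂ →
    63 * fval n₁ n₂ % 729 = 0 → n₁ = 3 ∧ n₂ = 3 := by
  decide +kernel

theorem mixed_check : ∀ n < 4, 0 ≤ fval n n → 63 * fval n n % 81 = 0 →
    2268 * (9 - 3 * (n : ℤ)) % 243 = 0 → n = 2 ∨ n = 3 := by
  decide +kernel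

variable {G : Type u} [Group G] [Fintype G]

theorem card_conj_eq (g w z : G) : ∃ m : ℕ, Nat.card {a : G // IsConj (a * g * a⁻¹ * z) w} =
    Nat.card (centralizer ({g} : Set G)) * m :=
  SmallOrder.Order5616.exists_card_conj_eq g fun x => IsConj (x * z) w

theorem Six.form_self (D : Six G) {v : G} (hv : orderOf v = 3) :
    ∃ n₁ n₂ m : ℕ, n₁ + n₂ ≤ 6 ∧
      63 * fval n₁ n₂ = ((Nat.card (centralizer ({v} : Set G)) *
        (Nat.card (centralizer ({v} : Set G)) * m) : ℕ) : ℤ) ∧
      (n₁ = n₂ → (D.A : G → ℂ) v = ((6 - 3 * (n₁ : ℤ) : ℤ) : ℂ)) ∧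
      (conj ((D.A : G → ℂ) v) = (D.A : G → ℂ) v → n₁ = n₂) := by
  obtain ⟨n₁, n₂, hn, hadd, hmul, heq, hreal⟩ :=
    value_order_three (Char.IsIrr.isCharacter D.A.2) D.hA1 hv
  obtain ⟨m, hm⟩ := card_conj_eq v v D.z
  refine ⟨n₁, n₂, m, hn, ?_, fun e => by rw [heq e]; push_cast; ring, hreal⟩
  have h1 := D.hform v v hv hv
  rw [hm] at h1
  have : ((63 * fval n₁ n₂ : ℤ) : ℂ) = (((Nat.card (centralizer ({v} : Set G)) *
        (Nat.card (centralizer ({v} : Set G)) * m) : ℕ) : ℤ) : ℂ) := by
    unfold fval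
    push_cast at h1 hmul hadd ⊢
    linear_combination h1 + 819 * hmul + 189 * hadd
  exact_mod_cast this

theorem Six.value_central (D : Six G) {v : G} (hv : orderOf v = 3)
    (h27 : 27 ∣ Nat.card (centralizer ({v} : Set G))) : (D.A : G → ℂ) v = -3 := by
  obtain ⟨n₁, n₂, m, hn, hf, heq, -⟩ := D.form_self hv
  obtain ⟨j, hj⟩ := h27
  rw [hj] at hf
  push_cast at hf
  have h1 : 0 ≤ fval n₁ n₂ := by
    have : (0 : ℤ) ≤ 27 * (j : ℤ) * (27 * (j : ℤ) * m) := by positivity
    linarith
  have h2 : 63 * fval n₁ n₂ % 729 = 0 :=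
    Int.emod_eq_zero_of_dvd ⟨(j : ℤ) * j * m, by rw [hf]; ring⟩
  obtain ⟨e1, e2⟩ := central_check n₁ (by omega) n₂ (by omega) hn h1 h2
  rw [heq (by omega), e1]
  norm_num

theorem Six.form_mixed (D : Six G) {c v : G} (hc : orderOf c = 3) (hv : orderOf v = 3)
    (hAc : (D.A : G → ℂ) c = -3) :
    ∃ m : ℕ, 2268 * (3 + conj ((D.A : G → ℂ) v)) =
      ((Nat.card (centralizer ({v} : Set G)) *
        (Nat.card (centralizer ({c} : Set G)) * m) : ℕ) : ℂ) := by
  obtain ⟨m, hm⟩ := card_conj_eq c v D.z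
  refine ⟨m, ?_⟩
  have h1 := D.hform c v hc hv
  rw [hm, hAc] at h1
  push_cast at h1 ⊢
  linear_combination h1

theorem Six.value_noncentral (D : Six G) {c v : G} (hc : orderOf c = 3) (hv : orderOf v = 3)
    (hAc : (D.A : G → ℂ) c = -3) (h27 : 27 ∣ Nat.card (centralizer ({c} : Set G)))
    (h9 : 9 ∣ Nat.card (centralizer ({v} : Set G))) :
    (D.A : G → ℂ) v = 0 ∨ (D.A : G → ℂ) v = -3 := by
  obtain ⟨n₁, n₂, m, hn, hf, heq, hreal⟩ := D.form_self hv
  obtain ⟨m', hm'⟩ := D.form_mixed hc hv hAc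
  have hre : conj ((D.A : G → ℂ) v) = (D.A : G → ℂ) v := by
    have h1 := congrArg (starRingEnd ℂ) hm'
    simp only [map_mul, map_add, map_ofNat, Complex.conj_conj, Complex.conj_natCast] at h1
    linear_combination (hm' - h1) / 2268
  have he := hreal hre
  subst he
  obtain ⟨i, hi⟩ := h9
  obtain ⟨j, hj⟩ := h27
  rw [hi] at hf
  rw [hi, hj, hre, heq rfl] at hm'
  have h3 : 2268 * (9 - 3 * (n₁ : ℤ)) = ((9 * i * (27 * j * m') : ℕ) : ℤ) := by
    have : ((2268 * (9 - 3 * (n₁ : ℤ)) : ℤ) : ℂ) = (((9 * i * (27 * j * m') : ℕ) : ℤ) : ℂ) := by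
      push_cast at hm' ⊢
      linear_combination hm'
    exact_mod_cast this
  push_cast at hf h3
  have h1 : 0 ≤ fval n₁ n₁ := by
    have : (0 : ℤ) ≤ 9 * (i : ℤ) * (9 * (i : ℤ) * m) := by positivity
    linarith
  rcases mixed_check n₁ (by omega) h1 (Int.emod_eq_zero_of_dvd ⟨(i : ℤ) * i * m, by rw [hf]; ring⟩)
    (Int.emod_eq_zero_of_dvd ⟨(i : ℤ) * j * m', by rw [h3]; ring⟩) with e | e
  · left; rw [heq rfl, e]; norm_num
  · right; rw [heq rfl, e]; norm_num

theorem Six.card_centralizer_zero (D : Six G) {v : G} (hv : orderOf v = 3)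
    (hA : (D.A : G → ℂ) v = 0) (h9 : 9 ∣ Nat.card (centralizer ({v} : Set G))) :
    Nat.card (centralizer ({v} : Set G)) = 9 := by
  obtain ⟨m, hm⟩ := card_conj_eq v v D.z
  have h1 := D.hform v v hv hv
  rw [hm, hA, map_zero] at h1
  obtain ⟨i, hi⟩ := h9
  rw [hi] at h1 ⊢
  have h2 : 6237 = 9 * i * (9 * i * m) := by
    have : ((6237 : ℕ) : ℂ) = ((9 * i * (9 * i * m) : ℕ) : ℂ) := by
      push_cast at h1 ⊢
      linear_combination h1
    exact_mod_cast this
  have h3 : i * i ∣ 77 := ⟨m, Nat.eq_of_mul_eq_mul_left (show 0 < 81 by norm_num)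
    (by rw [show 81 * 77 = 6237 by norm_num, h2]; ring)⟩
  have h4 := Nat.le_of_dvd (by norm_num) h3
  have h5 : i ≤ 8 := by nlinarith
  interval_cases i <;> first | rfl | norm_num at h3

/-- The Sylow 3-subgroups: their centres carry the value `-3`, the other elements the value
zero. -/
structure Local (G : Type u) [Group G] [Fintype G] : Prop where
  exp : ∀ (P : Sylow 3 G), ∀ x ∈ (P : Subgroup G), x ≠ 1 → orderOf x = 3
  card : ∀ P : Sylow 3 G, Nat.card (P : Subgroup G) = 27
  center : ∀ P : Sylow 3 G, ∃ c ∈ (P : Subgroup G), orderOf c = 3 ∧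
    (P : Subgroup G) ≤ centralizer ({c} : Set G) ∧ Nat.card (centralizer ({c} : Set G)) ∣ 108 ∧
    ∀ x ∈ (P : Subgroup G), x ∉ zpowers c → Nat.card (centralizer ({x} : Set G)) = 9

variable [IsSimpleGroup G]

theorem exists_local (hna : ¬ IsMulCommutative G) (h : Nat.card G = 6048)
    (hC : ∀ x : G, orderOf x = 7 → Nat.card (centralizer ({x} : Set G)) = 7)
    (h9 : ∀ x : G, orderOf x ≠ 9) : Local G := by
  classical
  obtain ⟨D⟩ := exists_six hna h hC h9
  have : Fact (Nat.Prime 3) := ⟨Nat.prime_three⟩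
  have hcard : ∀ P : Sylow 3 G, Nat.card (P : Subgroup G) = 27 := fun P =>
    (SmallOrder.card_sylow_eq_pow (a := 3) (m := 224) (by rw [h]; norm_num) (by norm_num) P).trans
      (by norm_num)
  have hexp : ∀ P : Sylow 3 G, ∀ x ∈ (P : Subgroup G), x ≠ 1 → orderOf x = 3 := by
    intro P x hx hx1
    obtain ⟨k, hk, hk'⟩ := (Nat.dvd_prime_pow Nat.prime_three).1
      (show orderOf x ∣ 3 ^ 3 by
        rw [show (3 : ℕ) ^ 3 = 27 by norm_num, ← hcard P]
        exact Subgroup.orderOf_dvd_natCard _ hx)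
    interval_cases k
    · exact absurd (orderOf_eq_one_iff.1 (by simpa using hk')) hx1
    · simpa using hk'
    · exact absurd (by simpa using hk') (h9 x)
    · have h27 : orderOf x = 27 := by simpa using hk'
      exact absurd (by rw [orderOf_pow, h27]; rfl : orderOf (x ^ 3) = 9) (h9 _)
  refine ⟨hexp, hcard, fun P => ?_⟩
  have hP := hexp P
  have : Nontrivial (P : Subgroup G) :=
    Finite.one_lt_card_iff_nontrivial.1 (by rw [hcard P]; norm_num)
  have := P.2.center_nontrivial
  obtain ⟨⟨c₀, hc₀⟩, hcne⟩ := exists_ne (1 : center (P : Subgroup G))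
  set c : G := (c₀ : G) with hcdef
  have hcP : c ∈ (P : Subgroup G) := c₀.2
  have hc1 : c ≠ 1 := fun e => hcne (Subtype.ext (Subtype.ext e))
  have hc : orderOf c = 3 := hP c hcP hc1
  have hPc : (P : Subgroup G) ≤ centralizer ({c} : Set G) := fun a ha =>
    mem_centralizer_singleton_iff.2 (congrArg Subtype.val (mem_center_iff.1 hc₀ ⟨a, ha⟩))
  have h27c : 27 ∣ Nat.card (centralizer ({c} : Set G)) := hcard P ▸ card_dvd_of_le hPc
  have hAc := D.value_central hc h27c
  -- the group generated by `c` and a further element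
  have hnine : ∀ x ∈ (P : Subgroup G), x ∉ zpowers c →
      9 ∣ Nat.card (centralizer ({x} : Set G)) := by
    intro x hx hxc
    have hK : Nat.card ↥((P : Subgroup G) ⊓ centralizer ({x} : Set G)) ∣ 3 ^ 3 := by
      rw [show (3 : ℕ) ^ 3 = 27 by norm_num, ← hcard P]; exact card_dvd_of_le inf_le_left
    obtain ⟨k, -, hk⟩ := (Nat.dvd_prime_pow Nat.prime_three).1 hK
    have hcx : c ∈ (P : Subgroup G) ⊓ centralizer ({x} : Set G) :=
      ⟨hcP, mem_centralizer_singleton_iff.2 (mem_centralizer_singleton_iff.1 (hPc hx)).symm⟩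
    have hk2 : 2 ≤ k := by
      by_contra hlt
      have hle : Nat.card ↥((P : Subgroup G) ⊓ centralizer ({x} : Set G)) ≤
          Nat.card (zpowers c) := by
        rw [hk, Nat.card_zpowers, hc]
        exact le_trans (Nat.pow_le_pow_right (by norm_num) (by omega : k ≤ 1)) (by norm_num)
      have heq := eq_of_le_of_card_ge (zpowers_le.2 hcx) hle
      exact hxc (heq ▸ ⟨hx, mem_centralizer_singleton_iff.2 rfl⟩)
    refine dvd_trans ?_ (card_dvd_of_le
      (inf_le_right : (P : Subgroup G) ⊓ centralizer ({x} : Set G) ≤ _))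
    rw [hk]
    exact dvd_trans (by norm_num) (pow_dvd_pow 3 hk2)
  -- all values on the Sylow subgroup are at most zero and the total is a multiple of 27
  have hcc : orderOf (c * c) = 3 := by
    rw [← sq, orderOf_pow, hc]; rfl
  have hAcc : (D.A : G → ℂ) (c * c) = -3 := by
    refine D.value_central hcc (hcard P ▸ card_dvd_of_le fun a ha => ?_)
    rw [mem_centralizer_singleton_iff]
    exact ((show Commute a c from mem_centralizer_singleton_iff.1 (hPc ha)).mul_right
      (mem_centralizer_singleton_iff.1 (hPc ha))).eq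
  have hsum : ∀ x ∈ (P : Subgroup G), x ∉ zpowers c → (D.A : G → ℂ) x ≠ -3 := by
    intro x hx hxc hAx
    obtain ⟨k, hk⟩ := sum_subgroup (Char.IsIrr.isCharacter D.A.2) (P : Subgroup G)
    have hval : ∀ y : (P : Subgroup G), ∃ a : ℤ, (D.A : G → ℂ) (y : G) = a ∧ (y ≠ 1 → a ≤ 0) := by
      intro y
      by_cases hy : y = 1
      · exact ⟨6, by rw [hy, OneMemClass.coe_one, D.hA1]; norm_num, fun e => absurd hy e⟩
      have hy3 := hP y y.2 fun e => hy (Subtype.ext e)
      by_cases hyc : (y : G) ∈ zpowers c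
      · refine ⟨-3, ?_, fun _ => by norm_num⟩
        push_cast
        refine D.value_central hy3 (hcard P ▸ card_dvd_of_le fun a ha => ?_)
        obtain ⟨i, hi⟩ := mem_zpowers_iff.1 hyc
        rw [mem_centralizer_singleton_iff, ← hi]
        exact ((show Commute a c from mem_centralizer_singleton_iff.1 (hPc ha)).zpow_right i).eq
      · rcases D.value_noncentral hc hy3 hAc h27c (hnine y y.2 hyc) with e | e
        · exact ⟨0, by rw [e]; norm_num, fun _ => le_rfl⟩
        · exact ⟨-3, by rw [e]; norm_num, fun _ => by norm_num⟩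
    choose a ha hle using hval
    have htot : (∑ y : (P : Subgroup G), a y : ℤ) =
        ((Nat.card (P : Subgroup G) * k : ℕ) : ℤ) := by
      have : ((∑ y : (P : Subgroup G), a y : ℤ) : ℂ) =
          (((Nat.card (P : Subgroup G) * k : ℕ) : ℤ) : ℂ) := by
        rw [Int.cast_natCast, ← hk, Int.cast_sum]
        exact Finset.sum_congr rfl fun y _ => (ha y).symm
      exact_mod_cast this
    have hone : a 1 = 6 := by
      have := ha 1
      rw [OneMemClass.coe_one, D.hA1] at this
      exact_mod_cast this.symm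
    have hthree : ∀ y : (P : Subgroup G), (D.A : G → ℂ) (y : G) = -3 → a y = -3 := fun y e => by
      rw [ha y] at e; exact_mod_cast e
    set c₁ : (P : Subgroup G) := ⟨c, hcP⟩ with hc₁
    set c₂ : (P : Subgroup G) := ⟨c * c, mul_mem hcP hcP⟩ with hc₂
    set x₁ : (P : Subgroup G) := ⟨x, hx⟩ with hx₁
    have n1 : (1 : (P : Subgroup G)) ≠ c₁ := fun e => hc1 (congrArg Subtype.val e).symm
    have n2 : (1 : (P : Subgroup G)) ≠ c₂ := fun e => by
      have h2 : (1 : G) = c * c := congrArg Subtype.val e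
      rw [← h2, orderOf_one] at hcc
      norm_num at hcc
    have n3 : (1 : (P : Subgroup G)) ≠ x₁ := fun e =>
      hxc ((show (1 : G) = x from congrArg Subtype.val e) ▸ one_mem _)
    have n4 : c₁ ≠ c₂ := fun e => hc1 (mul_eq_left.1 (congrArg Subtype.val e).symm)
    have n5 : c₁ ≠ x₁ := fun e => hxc ((show c = x from congrArg Subtype.val e) ▸ mem_zpowers c)
    have n6 : c₂ ≠ x₁ := fun e =>
      hxc ((show c * c = x from congrArg Subtype.val e) ▸ mul_mem (mem_zpowers c) (mem_zpowers c))
    have hsub : ∑ y : (P : Subgroup G), a y ≤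
        ∑ y ∈ ({1, c₁, c₂, x₁} : Finset (P : Subgroup G)), a y := by
      rw [← Finset.sum_sdiff (Finset.subset_univ ({1, c₁, c₂, x₁} : Finset (P : Subgroup G)))]
      refine add_le_of_nonpos_left (Finset.sum_nonpos fun y hy => hle y fun e => ?_)
      exact (Finset.mem_sdiff.1 hy).2 (by simp [e])
    rw [Finset.sum_insert (by simp [n1, n2, n3]), Finset.sum_insert (by simp [n4, n5]),
      Finset.sum_pair n6, hone, hthree c₁ hAc, hthree c₂ hAcc, hthree x₁ hAx, htot] at hsub
    have : (0 : ℤ) ≤ ((Nat.card (P : Subgroup G) * k : ℕ) : ℤ) := Int.natCast_nonneg _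
    omega
  have hzero : ∀ x ∈ (P : Subgroup G), x ∉ zpowers c →
      Nat.card (centralizer ({x} : Set G)) = 9 := by
    intro x hx hxc
    have hx3 := hP x hx fun e => hxc (e ▸ one_mem _)
    refine D.card_centralizer_zero hx3 ?_ (hnine x hx hxc)
    exact (D.value_noncentral hc hx3 hAc h27c (hnine x hx hxc)).resolve_right (hsum x hx hxc)
  refine ⟨c, hcP, hc, hPc, ?_, hzero⟩
  -- some element lies outside the centre
  obtain ⟨w, hwP, hwc⟩ : ∃ w ∈ (P : Subgroup G), w ∉ zpowers c := by
    by_contra! hall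
    have h1 := card_dvd_of_le (show (P : Subgroup G) ≤ zpowers c from hall)
    rw [hcard P, Nat.card_zpowers, hc] at h1
    norm_num at h1
  have hw3 := hP w hwP fun e => hwc (e ▸ one_mem _)
  have hAw : (D.A : G → ℂ) w = 0 :=
    (D.value_noncentral hc hw3 hAc h27c (hnine w hwP hwc)).resolve_right (hsum w hwP hwc)
  obtain ⟨m, hm⟩ := D.form_mixed hc hw3 hAc
  rw [hAw, hzero w hwP hwc, map_zero] at hm
  have h756 : Nat.card (centralizer ({c} : Set G)) ∣ 7 * 108 := by
    refine ⟨m, ?_⟩
    have : ((6804 : ℕ) : ℂ) =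
        ((9 * (Nat.card (centralizer ({c} : Set G)) * m) : ℕ) : ℂ) := by
      push_cast at hm ⊢
      linear_combination hm
    have h' : 6804 = 9 * (Nat.card (centralizer ({c} : Set G)) * m) := by exact_mod_cast this
    omega
  refine (Nat.Coprime.symm ((Nat.Prime.coprime_iff_not_dvd (by norm_num : Nat.Prime 7)).2
    fun h7 => ?_)).dvd_of_dvd_mul_left h756
  have : Fact (Nat.Prime 7) := ⟨by norm_num⟩
  obtain ⟨y, hy⟩ := exists_prime_orderOf_dvd_card' (G := centralizer ({c} : Set G)) 7 h7
  have h3 := Subgroup.orderOf_dvd_natCard _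
    (show c ∈ centralizer ({(y : G)} : Set G) from mem_centralizer_singleton_iff.2
      (mem_centralizer_singleton_iff.1 y.2).symm)
  rw [hC _ ((Subgroup.orderOf_coe y).trans hy), hc] at h3
  norm_num at h3

variable (L : Local G)
include L

/-- Distinct Sylow 3-subgroups meet trivially. -/
theorem Local.disjoint {P Q : Sylow 3 G} (hne : P ≠ Q) {g : G} (hgP : g ∈ (P : Subgroup G))
    (hgQ : g ∈ (Q : Subgroup G)) : g = 1 := by
  classical
  have : Fact (Nat.Prime 3) := ⟨Nat.prime_three⟩
  by_contra hg1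
  obtain ⟨c, hcP, hc, hPc, hC108, hP9⟩ := L.center P
  obtain ⟨c', hcQ, hc', hQc, -, hQ9⟩ := L.center Q
  -- a generator of the centre of `P` centralises `Q`
  have hQle : (Q : Subgroup G) ≤ centralizer ({c} : Set G) := by
    have hcmem : c ∈ (Q : Subgroup G) := by
      by_cases hg : g ∈ zpowers c
      · have hgen : zpowers g = zpowers c := eq_of_le_of_card_ge (zpowers_le.2 hg)
          (by rw [Nat.card_zpowers, Nat.card_zpowers, hc, L.exp P g hgP hg1])
        exact zpowers_le.2 hgQ (hgen.symm ▸ mem_zpowers c)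
      · have hC9 := hP9 g hgP hg
        have hle : centralizer ({g} : Set G) ≤ (Q : Subgroup G) := by
          have hK : Nat.card ↥((Q : Subgroup G) ⊓ centralizer ({g} : Set G)) ∣ 3 ^ 3 := by
            rw [show (3 : ℕ) ^ 3 = 27 by norm_num, ← L.card Q]; exact card_dvd_of_le inf_le_left
          by_cases hg' : g ∈ zpowers c'
          · exfalso
            obtain ⟨i, hi⟩ := mem_zpowers_iff.1 hg'
            have hQg : (Q : Subgroup G) ≤ centralizer ({g} : Set G) := fun a ha => by
              rw [mem_centralizer_singleton_iff, ← hi]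
              exact ((show Commute a c' from
                mem_centralizer_singleton_iff.1 (hQc ha)).zpow_right i).eq
            have := card_dvd_of_le hQg
            rw [L.card Q, hC9] at this
            norm_num at this
          · refine inf_eq_right.1 (eq_of_le_of_card_ge inf_le_right ?_)
            rw [hC9]
            obtain ⟨k, -, hk⟩ := (Nat.dvd_prime_pow Nat.prime_three).1 hK
            by_contra hlt
            rw [hk] at hlt
            have hk1 : k ≤ 1 := by
              by_contra h2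
              have := Nat.pow_le_pow_right (show 1 ≤ 3 by norm_num) (show 2 ≤ k by omega)
              omega
            have hmem : c' ∈ (Q : Subgroup G) ⊓ centralizer ({g} : Set G) :=
              ⟨hcQ, mem_centralizer_singleton_iff.2
                (mem_centralizer_singleton_iff.1 (hQc hgQ)).symm⟩
            have heq := eq_of_le_of_card_ge (zpowers_le.2 hmem) (by
              rw [hk, Nat.card_zpowers, hc']
              exact le_trans (Nat.pow_le_pow_right (by norm_num) hk1) (by norm_num))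
            exact hg' (heq ▸ ⟨hgQ, mem_centralizer_singleton_iff.2 rfl⟩)
        exact hle (mem_centralizer_singleton_iff.2
          (mem_centralizer_singleton_iff.1 (hPc hgP)).symm)
    by_cases hcz : c ∈ zpowers c'
    · intro a ha
      obtain ⟨i, hi⟩ := mem_zpowers_iff.1 hcz
      rw [mem_centralizer_singleton_iff, ← hi]
      exact ((show Commute a c' from mem_centralizer_singleton_iff.1 (hQc ha)).zpow_right i).eq
    · exfalso
      have h1 := hQ9 c hcmem hcz
      have h2 := card_dvd_of_le hPc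
      rw [L.card P, h1] at h2
      norm_num at h2
  -- the intersection has order nine
  set R := (P : Subgroup G) ⊓ Q with hR
  set H := (P : Subgroup G) ⊔ Q with hH
  have hHC : H ≤ centralizer ({c} : Set G) := sup_le hPc hQle
  have hH108 : Nat.card H ≤ 108 :=
    Nat.le_of_dvd (by norm_num) ((card_dvd_of_le hHC).trans hC108)
  have hidx : ((Q : Subgroup G).subgroupOf (P : Subgroup G)).index = 3 := by
    obtain ⟨j, hj⟩ := IsPGroup.index P.isPGroup' ((Q : Subgroup G).subgroupOf (P : Subgroup G))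
    have h1 : (Q : Subgroup G).relIndex P ≤ (Q : Subgroup G).relIndex H :=
      relIndex_le_of_le_right le_sup_left
        (by rw [relIndex]; exact index_ne_zero_of_finite)
    have h2 : (Q : Subgroup G).relIndex H * 27 = Nat.card H := by
      rw [← L.card Q, ← relIndex_mul_relIndex ⊥ (Q : Subgroup G) H bot_le le_sup_right |>.trans
        (relIndex_bot_left H), relIndex_bot_left, mul_comm]
    have hj1 : 3 ^ j ≤ 4 := by
      rw [← hj]
      change (Q : Subgroup G).relIndex P ≤ 4
      omega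
    have hj0 : j ≠ 0 := fun e => by
      rw [e, pow_zero, index_eq_one, subgroupOf_eq_top] at hj
      exact hne (Sylow.ext (eq_of_le_of_card_ge hj (by rw [L.card P, L.card Q])))
    have : j ≤ 1 := by
      by_contra h3
      have := Nat.pow_le_pow_right (show 1 ≤ 3 by norm_num) (show 2 ≤ j by omega)
      omega
    rw [hj, show j = 1 by omega, pow_one]
  have hRc : Nat.card R = 9 := by
    have h2 := ((Q : Subgroup G).subgroupOf (P : Subgroup G)).card_mul_index
    rw [hidx, L.card P] at h2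
    have h3 : Nat.card ((Q : Subgroup G).subgroupOf (P : Subgroup G)) = Nat.card R := by
      rw [hR, ← inf_subgroupOf_left, Nat.card_congr (subgroupOfEquivOfLe inf_le_left).toEquiv]
    omega
  have hnorm : ∀ S : Sylow 3 G, R ≤ S → (S : Subgroup G) ≤ normalizer (R : Set G) := by
    intro S hle
    rw [← normal_subgroupOf_iff_le_normalizer hle]
    refine normal_of_index_eq_minFac_card ?_
    have h2 := (R.subgroupOf (S : Subgroup G)).card_mul_index
    rw [Nat.card_congr (subgroupOfEquivOfLe hle).toEquiv, hRc, L.card S] at h2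
    rw [L.card S, show (27 : ℕ) = 3 ^ 3 by norm_num, Nat.pow_minFac (by norm_num),
      Nat.prime_three.minFac_eq]
    omega
  have hHN : H ≤ normalizer (R : Set G) :=
    sup_le (hnorm P inf_le_left) (hnorm Q inf_le_right)
  obtain ⟨w, hwR, hwc⟩ : ∃ w ∈ R, w ∉ zpowers c := by
    by_contra! hall
    have h1 := Nat.le_of_dvd (by rw [Nat.card_zpowers, hc]; norm_num)
      (card_dvd_of_le (show R ≤ zpowers c from hall))
    rw [hRc, Nat.card_zpowers, hc] at h1
    norm_num at h1
  -- the orbit of `w` avoids the centre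
  have hH54 : Nat.card H ≤ 54 := by
    let f : H → {y : R // (y : G) ∉ zpowers c} := fun a =>
      ⟨⟨(a : G) * w * (a : G)⁻¹, (mem_normalizer_iff.1 (hHN a.2) w).1 hwR⟩, fun hm => hwc (by
        have h1 : Commute (a : G) c := mem_centralizer_singleton_iff.1 (hHC a.2)
        obtain ⟨i, hi⟩ := mem_zpowers_iff.1 hm
        refine mem_zpowers_iff.2 ⟨i, ?_⟩
        have h2 : (a : G)⁻¹ * c ^ i * a = c ^ i := by
          rw [mul_assoc, ← (h1.zpow_right i).eq, inv_mul_cancel_left]
        rw [← h2, hi]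
        group)⟩
    have hfib : ∀ y, Nat.card {a : H // f a = y} ≤ 9 := by
      intro y
      rcases isEmpty_or_nonempty {a : H // f a = y} with hE | ⟨⟨a₀, ha₀⟩⟩
      · rw [Nat.card_of_isEmpty]; norm_num
      rw [← hP9 w (inf_le_left (a := (P : Subgroup G)) hwR) hwc]
      refine Nat.card_le_card_of_injective (fun a => ⟨(a₀ : G)⁻¹ * (a.1 : G), ?_⟩) ?_
      · have h1 : (a.1 : G) * w * (a.1 : G)⁻¹ = (a₀ : G) * w * (a₀ : G)⁻¹ :=
          congrArg (fun q : {y : R // (y : G) ∉ zpowers c} => ((q : R) : G)) (a.2.trans ha₀.symm)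
        rw [mem_centralizer_singleton_iff]
        calc (a₀ : G)⁻¹ * (a.1 : G) * w
            = (a₀ : G)⁻¹ * ((a.1 : G) * w * (a.1 : G)⁻¹) * (a.1 : G) := by group
          _ = w * ((a₀ : G)⁻¹ * (a.1 : G)) := by rw [h1]; group
      · intro a b hab
        exact Subtype.ext (Subtype.ext (mul_left_cancel (congrArg Subtype.val hab)))
    have hcR : c ∈ R := ⟨hcP, by
      have hle : zpowers c ≤ (Q : Subgroup G) := by
        by_contra hnle
        have hmem : c ∈ centralizer ((Q : Subgroup G) : Set G) :=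
          mem_centralizer_iff.2 fun a ha => mem_centralizer_singleton_iff.1 (hQle ha)
        have hsup : IsPGroup 3 ((Q : Subgroup G) ⊔ zpowers c : Subgroup G) :=
          IsPGroup.to_sup_of_normal_left' Q.isPGroup'
            (IsPGroup.of_card (n := 1) (by rw [Nat.card_zpowers, hc]; norm_num))
            (zpowers_le.2 (centralizer_le_normalizer _ hmem))
        exact hnle (le_sup_right.trans (Q.is_maximal' hsup le_sup_left).le)
      exact hle (mem_zpowers c)⟩
    have hsix : Nat.card {y : R // (y : G) ∉ zpowers c} = 6 := by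
      have h1 := Nat.card_congr (Equiv.sumCompl fun y : R => (y : G) ∈ zpowers c)
      rw [Nat.card_sum, hRc] at h1
      have h2 : Nat.card {y : R // (y : G) ∈ zpowers c} = 3 := by
        rw [← hc, ← Nat.card_zpowers c]
        exact Nat.card_congr
          { toFun := fun y => ⟨(y.1 : G), y.2⟩
            invFun := fun y => ⟨⟨(y : G), zpowers_le.2 hcR y.2⟩, y.2⟩
            left_inv := fun y => rfl
            right_inv := fun y => rfl }
      omega
    have := Fintype.ofFinite {y : R // (y : G) ∉ zpowers c}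
    rw [← Nat.card_congr (Equiv.sigmaFiberEquiv f), Nat.card_sigma]
    refine (Finset.sum_le_sum fun y _ => hfib y).trans ?_
    rw [Finset.sum_const, Finset.card_univ, ← Nat.card_eq_fintype_card, hsix]
    norm_num
  have hH2 : Nat.card H = 27 ∨ Nat.card H = 54 := by
    obtain ⟨i, hi⟩ : 27 ∣ Nat.card H :=
      L.card P ▸ card_dvd_of_le (le_sup_left : (P : Subgroup G) ≤ H)
    have : i ≠ 0 := fun e => by
      rw [e, mul_zero] at hi
      exact Nat.card_pos.ne' hi
    omega
  have h1 : 1 < Nat.card (Sylow 3 H) := SmallOrder.one_lt_card_sylow_of_ne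
    (le_sup_left : (P : Subgroup G) ≤ H) le_sup_right hne
  have h2 := SmallOrder.card_sylow_mod (G := H) 3
  rcases hH2 with e | e
  · have h3 : Nat.card (Sylow 3 H) ∣ 1 := SmallOrder.card_sylow_dvd (G := H) (p := 3) (a := 3) (m := 1) (by rw [e]; norm_num)
      (by norm_num)
    have := Nat.le_of_dvd one_pos h3
    omega
  · have h3 : Nat.card (Sylow 3 H) ∣ 2 := SmallOrder.card_sylow_dvd (G := H) (p := 3) (a := 3) (m := 2) (by rw [e]; norm_num)
      (by norm_num)
    have := Nat.le_of_dvd two_pos h3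
    omega

/-- There are 28 Sylow 3-subgroups. -/
theorem Local.card_sylow (hna : ¬ IsMulCommutative G) (h : Nat.card G = 6048) :
    Nat.card (Sylow 3 G) = 28 := by
  have : Fact (Nat.Prime 3) := ⟨Nat.prime_three⟩
  obtain ⟨hd, -, hne1, -⟩ := SmallOrder.sylow_data (G := G) (p := 3) (a := 3) (m := 224)
    (by rw [h]; norm_num) (by norm_num) (by norm_num) hna
  have hmod : Nat.card (Sylow 3 G) ≡ 1 [MOD 3 ^ 3] := by
    by_contra hn
    obtain ⟨P, R, hne, hle⟩ := SmallOrder.exists_index_le_of_not_modEq 3 3 hn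
    have hbot : (R : Subgroup G).subgroupOf (P : Subgroup G) = ⊥ :=
      eq_bot_iff.2 fun x hx => mem_bot.2 (Subtype.ext (L.disjoint hne x.2 hx))
    rw [hbot, index_bot, L.card P] at hle
    norm_num at hle
  have hall : ∀ d : ℕ, d ≤ 224 → 224 % d = 0 → d % 27 = 1 → d = 1 ∨ d = 28 := by decide +kernel
  exact (hall _ (Nat.le_of_dvd (by norm_num) hd) (Nat.mod_eq_zero_of_dvd hd)
    (by simpa [Nat.ModEq] using hmod)).resolve_left hne1

end Cfsg.Agent.U33Rec
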